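import Groth.Agent.SBTaut.Power
import Groth.Agent.CSA.Period
import Mathlib.AlgebraicGeometry.Morphisms.UnderlyingMap

/-!
# Arithmetic of the indices of tensor powers
-/

set_option autoImplicit false
universe u

open CategoryTheory CategoryTheory.Limits AlgebraicGeometry W4c1astiltbs12
open scoped TensorProduct
open Groth.Agent.CSA

noncomputable section

namespace Groth.Agent.SBTaut

variable {k : Type u} [Field k] {A : Type u} [Ring A] [Algebra k A] {B : Type u} [Ring B] [Algebra k B]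

theorem brEq_tpow_self (L : Type u) [Field L] : ∀ i : ℕ, BrEq L (CSAGal.tpow L L i) L
  | 0 => brEq_tpow_zero
  | i + 1 => (brEq_tpow_add i 1).trans (((brEq_tpow_self L i).tensor brEq_tpow_one).trans
      BrEq.tensor_left_base)

/-- The index of a tensor power divides the index. -/
theorem ind_tpow_dvd (hA : IsCSA k A) (i : ℕ) : ind k (CSAGal.tpow k A i) ∣ ind k A := by
  obtain ⟨L, _, _, _, hL, hs⟩ := exists_splitting_of_degree_ind hA
  rw [← hL]
  refine ind_dvd_of_splits (hA.tpow i) L ((splits_iff_brEq (hA.tpow i) L).2 ?_)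
  exact (brEq_baseChange_tpow L i).symm.trans
    ((((splits_iff_brEq hA L).1 hs).tpow i).trans (brEq_tpow_self L i))

theorem brEq_tpow_mod {p : ℕ} (hp : BrEq k (CSAGal.tpow k A p) k) (x : ℕ) :
    BrEq k (CSAGal.tpow k A x) (CSAGal.tpow k A (x % p)) := by
  have h := (brEq_tpow_add (k := k) (A := A) (x % p) (p * (x / p))).trans
    ((BrEq.refl.tensor (brEq_tpow_mul_of_brEq hp (x / p))).trans BrEq.tensor_right_base)
  rwa [Nat.mod_add_div] at h

/-- Powers congruent to multiples have smaller index. -/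
theorem ind_tpow_dvd_of_dvd_sub (hA : IsCSA k A) {p : ℕ} (hp0 : 0 < p)
    (hp : BrEq k (CSAGal.tpow k A p) k) (x y : ℕ) (i : ℤ) (h : (p : ℤ) ∣ (y : ℤ) - x * i) :
    ind k (CSAGal.tpow k A y) ∣ ind k (CSAGal.tpow k A x) := by
  let i' := (i % (p : ℤ)).toNat
  have hi' : (i' : ℤ) = i % (p : ℤ) := Int.toNat_of_nonneg (Int.emod_nonneg _ (by omega))
  have hmod : y % p = (x * i') % p := by
    have h1 : (p : ℤ) ∣ ((x * i' : ℕ) : ℤ) - (y : ℤ) := by
      have h2 : (p : ℤ) ∣ i % (p : ℤ) - i := ⟨-(i / (p : ℤ)), by linarith [Int.emod_def i (p : ℤ)]⟩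
      obtain ⟨c, hc⟩ := h
      obtain ⟨c', hc'⟩ := h2
      exact ⟨x * c' - c, by push_cast; rw [hi']; linear_combination (x : ℤ) * hc' - hc⟩
    exact Nat.modEq_iff_dvd.2 h1
  have he : BrEq k (CSAGal.tpow k A y) (CSAGal.tpow k (CSAGal.tpow k A x) i') := by
    refine (brEq_tpow_mod hp y).trans ?_
    rw [hmod]
    exact (brEq_tpow_mod hp (x * i')).symm.trans (brEq_tpow_mul x i')
  rw [he.ind_eq (hA.tpow y) ((hA.tpow x).tpow i')]
  exact ind_tpow_dvd (hA.tpow x) i'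

theorem ind_tpow_eq_of_dvd (hA : IsCSA k A) {p : ℕ} (hp0 : 0 < p)
    (hp : BrEq k (CSAGal.tpow k A p) k) (x y : ℤ) (h : (p : ℤ) ∣ y - x) :
    ind k (CSAGal.tpow k A y.natAbs) = ind k (CSAGal.tpow k A x.natAbs) := by
  have key : ∀ x y : ℤ, (p : ℤ) ∣ y - x →
      ind k (CSAGal.tpow k A y.natAbs) ∣ ind k (CSAGal.tpow k A x.natAbs) := fun x y h => by
    obtain ⟨c, hc⟩ := h
    rcases Int.natAbs_eq x with hx | hx <;> rcases Int.natAbs_eq y with hy | hy
    · exact ind_tpow_dvd_of_dvd_sub hA hp0 hp _ _ 1 ⟨c, by rw [← hx, ← hy, mul_one, hc]⟩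
    · exact ind_tpow_dvd_of_dvd_sub hA hp0 hp _ _ (-1) ⟨-c, by rw [← hx]; linarith⟩
    · exact ind_tpow_dvd_of_dvd_sub hA hp0 hp _ _ (-1) ⟨c, by rw [← hy]; linarith⟩
    · exact ind_tpow_dvd_of_dvd_sub hA hp0 hp _ _ 1 ⟨-c, by linarith⟩
  exact Nat.dvd_antisymm (key x y h) (key y x ((dvd_sub_comm).1 h))

theorem brEq_of_matrix {m₁ m₂ : ℕ} (h₁ : 0 < m₁) (h₂ : 0 < m₂)
    (h : Nonempty (Matrix (Fin m₁) (Fin m₁) A ≃ₐ[k] Matrix (Fin m₂) (Fin m₂) B)) : BrEq k A B :=
  ⟨m₁, m₂, h₁.ne', h₂.ne', h⟩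

/-- Algebras generating each other give powers of the same index. -/
theorem ind_tpow_eq_of_generate (hA : IsCSA k A) (hB : IsCSA k B) {i i' : ℕ}
    (h₁ : BrEq k (CSAGal.tpow k A i) B) (h₂ : BrEq k (CSAGal.tpow k B i') A) (j : ℕ) :
    ind k (CSAGal.tpow k A j) = ind k (CSAGal.tpow k B j) := by
  have key : ∀ {C D : Type u} [Ring C] [Algebra k C] [Ring D] [Algebra k D], IsCSA k C → IsCSA k D →
      ∀ i, BrEq k (CSAGal.tpow k C i) D → ind k (CSAGal.tpow k D j) ∣ ind k (CSAGal.tpow k C j) := by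
    intro C D _ _ _ _ hC hD i h
    have he : BrEq k (CSAGal.tpow k D j) (CSAGal.tpow k (CSAGal.tpow k C j) i) := by
      refine (h.tpow j).symm.trans ((brEq_tpow_mul i j).symm.trans ?_)
      rw [mul_comm]
      exact brEq_tpow_mul j i
    rw [he.ind_eq (hD.tpow j) ((hC.tpow j).tpow i)]
    exact ind_tpow_dvd (hC.tpow j) i
  exact Nat.dvd_antisymm (key hB hA i' h₂) (key hA hB i h₁)

theorem isCSA_of_finrank [Algebra.IsCentral k A] [IsSimpleRing A] {n : ℕ} (hn : 0 < n)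
    (hA : Module.finrank k A = n * n) : IsCSA k A :=
  haveI : FiniteDimensional k A := Module.finite_of_finrank_pos (by rw [hA]; exact Nat.mul_pos hn hn)
  IsCSA.of k A

variable {X : Scheme.{u}} {f : X ⟶ Spec (CommRingCat.of k)} [IsProper f]
  {K : Type u} [Field K] [Algebra k K]

/-- The rank is the index. -/
theorem eq_ind [Algebra.IsCentral k A] [IsSimpleRing A] {n : ℕ} (hn : 0 < n)
    (hA : Module.finrank k A = n * n) (hX : BrSev.IsSBOf k A (n * n - n) f) [IsAlgClosure k K]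
    (e : BrSev.Splitting f K (n - 1)) {W : X.Modules} (hW : FlatMod.IsFinLocFree W)
    (hWi : KSMod.Indec W) {j : ℤ} {r : ℕ} (hr : 0 < r) (hWt : BrSev.IsTwPow e j r W) :
    r = ind k (CSAGal.tpow k A j.natAbs) := by
  obtain ⟨σ⟩ := hX
  exact (isIndex_iff ((isCSA_of_finrank hn hA).tpow _) r).1
    (isIndex σ hn hA (Nat.sub_add_cancel (Nat.le_mul_self n)) e hW hWi hr hWt)

omit [IsProper f] in
/-- A module of type one is invertible. -/
theorem isInvertible_of_isTwPow_one {m : ℕ} (e : BrSev.Splitting f K m) {W : X.Modules}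
    (hW : FlatMod.IsFinLocFree W) {j : ℤ} (h : BrSev.IsTwPow e j 1 W) : PicF.IsInvertible W := by
  intro x
  obtain ⟨U, s, t, hx, ht⟩ := LFFrame.exists_isFrame_of_isFinLocFree hW x
  obtain ⟨y, hy⟩ := (BrSev.proj f K).surjective x
  let d := KSMod.powDec h.some
  have hL : PicF.IsInvertible (e.twist j) :=
    PicLoc.isInvertible_pullback e.iso.hom (ProjTwist.isInvertible_twistProjSpace m K j)
  obtain ⟨U', g, hy', hg⟩ := Props.GenLocus.exists_isGen hL y
  let W₀ := (BrSev.proj f K ⁻¹ᵁ U) ⊓ U'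
  have hyU : y ∈ BrSev.proj f K ⁻¹ᵁ U := by show BrSev.proj f K y ∈ U; rw [hy]; exact hx
  haveI : Nontrivial Γ(BrSev.bc f K, W₀) :=
    ((BrSev.bc f K).presheaf.germ W₀ y ⟨hyU, hy'⟩).hom.domain_nontrivial
  have ht' := PicPn.isFrame_res' (ht.pullback (BrSev.proj f K)) (inf_le_left : W₀ ≤ _) W₀ le_rfl
  have hg' := (Props.GenLocus.IsGen.restrict hg (inf_le_right : W₀ ≤ U')) W₀ le_rfl
  let bT : (Fin s → Γ(BrSev.bc f K, W₀)) →ₗ[Γ(BrSev.bc f K, W₀)] Γ(BrSev.bcMod f K W, W₀) :=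
    Fintype.linearCombination Γ(BrSev.bc f K, W₀)
      (fun a => QCoh.res _ (inf_le_left : W₀ ≤ _) (LFFrame.unitSec (BrSev.proj f K) W U (t a)))
  have hbT : Function.Bijective bT := by
    rwa [show LFFrame.comb (BrSev.bcMod f K W) _ (le_refl W₀) = bT from funext fun a => by
      simp [bT, LFFrame.comb, Fintype.linearCombination_apply]] at ht'
  let bL : Γ(BrSev.bc f K, W₀) →ₗ[Γ(BrSev.bc f K, W₀)] Γ(e.twist j, W₀) :=
    LinearMap.toSpanSingleton _ _ (QCoh.res _ le_rfl (QCoh.res _ (inf_le_right : W₀ ≤ U') g))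
  have hbL : Function.Bijective bL := hg'
  let π : Γ(BrSev.bcMod f K W, W₀) →ₗ[Γ(BrSev.bc f K, W₀)] Γ(e.twist j, W₀) :=
    { toFun := (d.proj 0).app W₀
      map_add' := map_add _
      map_smul' := fun a z => Scheme.Modules.Hom.app_smul (d.proj 0) a z }
  have hπ : Function.Bijective π := by
    have h1 : ∀ z, (d.inj 0).app W₀ (π z) = z := fun z => by
      have := congrArg (fun ψ : BrSev.bcMod f K W ⟶ BrSev.bcMod f K W => ψ.app W₀ z) d.total
      rw [KSMod.sum_app, Fin.sum_univ_one] at this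
      exact this
    exact ⟨fun z z' hz => by rw [← h1 z, ← h1 z', hz], fun w => ⟨(d.inj 0).app W₀ w,
      congrArg (fun ψ : e.twist j ⟶ e.twist j => ψ.app W₀ w) (d.inj_proj 0)⟩⟩
  have := ((LinearEquiv.ofBijective bT hbT).trans ((LinearEquiv.ofBijective π hπ).trans
    (LinearEquiv.ofBijective bL hbL).symm)).finrank_eq
  rw [Module.finrank_pi, Module.finrank_self, Fintype.card_fin] at this
  subst this
  exact ⟨U, hx, LFFrame.IsFrame.nonempty_restrict_iso ht⟩

end Groth.Agent.SBTaut
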