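import Groth.Agent.SBTaut.SplitIso
import Groth.Agent.CSA.Splitting
import Groth.Agent.CSA.Brauer
import Groth.Agent.FpqcDesc.Props
import Groth.Agent.ProjProper.Basic
import Mathlib.AlgebraicGeometry.Morphisms.FlatDescent

/-!
# Geometry of Severi–Brauer schemes
-/

set_option autoImplicit false
universe u

open CategoryTheory CategoryTheory.Limits AlgebraicGeometry
open scoped TensorProduct

noncomputable section

namespace Groth.Agent.SBTaut

variable {k : Type u} [Field k] {A : Type u} [Ring A] [Algebra k A]
  {X : Scheme.{u}} {f : X ⟶ Spec (CommRingCat.of k)}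

/-- A splitting field of the algebra splits the scheme. -/
theorem nonempty_splitting_of_splits {n : ℕ} (hn : 0 < n) (hA : Module.finrank k A = n * n)
    (hX : BrSev.IsSBOf k A (n * n - n) f) (K : Type u) [Field K] [Algebra k K]
    (hK : Curves.Splits k A K) : Nonempty (BrSev.Splitting f K (n - 1)) := by
  obtain ⟨σ⟩ := hX
  obtain ⟨n', hn', ⟨θ⟩⟩ := hK
  haveI : FiniteDimensional k A := Module.finite_of_finrank_pos (by rw [hA]; exact Nat.mul_pos hn hn)
  obtain rfl : n' = n := by
    have h := θ.toLinearEquiv.finrank_eq
    rw [Module.finrank_baseChange, hA, Module.finrank_matrix] at h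
    simp only [Fintype.card_fin, Module.finrank_self, mul_one] at h
    exact (Nat.mul_self_inj.mp h).symm
  obtain ⟨m, rfl⟩ : ∃ m, n' = m + 1 := ⟨n' - 1, by omega⟩
  let b := Module.finBasisOfFinrankEq k A hA
  exact nonempty_splitting σ b θ rfl (Nat.sub_add_cancel (Nat.le_mul_self _))

/-- A finite Galois extension splits the scheme. -/
theorem exists_galois_splitting [Algebra.IsCentral k A] [IsSimpleRing A] {n : ℕ} (hn : 0 < n)
    (hA : Module.finrank k A = n * n) (hX : BrSev.IsSBOf k A (n * n - n) f) :
    ∃ (K : Type u) (_ : Field K) (_ : Algebra k K), FiniteDimensional k K ∧ IsGalois k K ∧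
      Nonempty (BrSev.Splitting f K (n - 1)) := by
  haveI : FiniteDimensional k A := Module.finite_of_finrank_pos (by rw [hA]; exact Nat.mul_pos hn hn)
  obtain ⟨K, _, _, h1, h2, h3⟩ := CSA.exists_galois_splitting k A
  exact ⟨K, _, _, h1, h2, nonempty_splitting_of_splits hn hA hX K h3⟩

/-- Severi–Brauer schemes are proper. -/
theorem isProper_of_splitting {K : Type u} [Field K] [Algebra k K] {m : ℕ}
    (e : BrSev.Splitting f K m) : IsProper f := by
  haveI : Surjective (Spec.map (CommRingCat.ofHom (algebraMap k K))) := inferInstance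
  haveI := ProjProper.Basic.isProper_toSpec m K
  have h : IsProper (BrSev.bcTo f K) := by rw [← e.comm]; infer_instance
  exact FpqcDesc.descendsAlong_isProper.of_isPullback
    (IsPullback.of_hasPullback f (Spec.map (CommRingCat.ofHom (algebraMap k K)))).flip
    ⟨⟨inferInstance, inferInstance⟩, inferInstance⟩ h

end Groth.Agent.SBTaut
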