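import Groth.Agent.SBTaut.SymTower
import Mathlib.FieldTheory.IsAlgClosed.AlgebraicClosure

/-!
# Algebras of given period and index
-/

set_option autoImplicit false
set_option maxHeartbeats 2000000
set_option synthInstance.maxHeartbeats 400000
universe u

open scoped TensorProduct
open Groth.Agent.CSA

noncomputable section

namespace Groth.Agent.SBTaut

variable {k : Type u} [Field k]

/-- All roots of unity are present. -/
def HasRoots (k : Type u) [Field k] : Prop := ∀ m : ℕ, 0 < m → ∃ ω : k, IsPrimitiveRoot ω m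

/-- A central division algebra of the given period and index. -/
def HasType (k : Type u) [Field k] (p i : ℕ) : Prop :=
  ∃ (D : Type u) (_ : DivisionRing D) (_ : Algebra k D),
    IsCSA k D ∧ Module.finrank k D = i * i ∧ CSAGal.IsPeriod k D p

theorem hasRoots_rat2 (h : HasRoots k) : HasRoots (Rat2 k) := fun m hm => by
  obtain ⟨ω, hω⟩ := h m hm
  exact ⟨algebraMap k (Rat2 k) ω, hω.map_of_injective (algebraMap k (Rat2 k)).injective⟩

theorem brEq_left_of_inv {A B C : Type u} [Ring A] [Algebra k A] [Ring B] [Algebra k B] [Ring C] [Algebra k C]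
    (h : BrEq k (A ⊗[k] B) k) (h' : BrEq k (B ⊗[k] C) k) : BrEq k A C := by
  have ha : BrEq k ((A ⊗[k] B) ⊗[k] C) (A ⊗[k] (B ⊗[k] C)) := BrEq.tensor_assoc
  exact BrEq.tensor_right_base.symm.trans ((BrEq.refl.tensor h'.symm).trans
    (ha.symm.trans ((h.tensor BrEq.refl).trans BrEq.tensor_left_base)))

theorem hasType_self : HasType k 1 1 :=
  ⟨k, inferInstance, inferInstance, IsCSA.self k, by rw [Module.finrank_self, one_mul],
    one_pos, (splits_self_iff_brEq ((IsCSA.self k).tpow 1)).2 brEq_tpow_one, fun e he he' => by omega⟩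

theorem hasType_step (hk : HasRoots k) {p i m : ℕ} (hm : 0 < m) (h : HasType k p i) :
    HasType (Rat2 k) (Nat.lcm p m) (i * m) := by
  obtain ⟨D, _, _, hD, hdD, hpD⟩ := h
  obtain ⟨ω, hω⟩ := hk m hm
  let K := Rat2 k
  obtain ⟨S, _, _, hS, hsym⟩ := exists_symbolAlg hm (hω.map_of_injective (algebraMap k K).injective)
    (gen2 k 0) (gen2 k 1) (Groth.Agent.S13273.irreducible_root K MvPolynomial.X_prime hm)
  letI : Algebra k S := Algebra.compHom S (algebraMap k K)
  haveI : IsScalarTower k K S := IsScalarTower.of_algebraMap_eq fun _ => rfl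
  have hSper := isPeriod_gen hm hω hsym
  have hdS : Module.finrank K S = m * m := by
    obtain ⟨x, y, -, -, -, -, -, hd⟩ := hsym
    rw [hd, sq]
  let e := cancelBC' (k := k) K S D
  have hE : IsCSA K (S ⊗[k] D) := (hS.tensor (hD.baseChange K)).of_algEquiv e
  have hBr : BrEq K (S ⊗[k] D) (S ⊗[K] (K ⊗[k] D)) := BrEq.of_algEquiv e.symm
  have hdE : Module.finrank K (S ⊗[k] D) = (i * m) * (i * m) := by
    rw [← e.toLinearEquiv.finrank_eq, Module.finrank_tensorProduct, Module.finrank_baseChange, hdS, hdD]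
    ring
  haveI := noZeroDivisors_symbolTensor hm hω hsym D
  haveI := hE.findim
  haveI := hE.simple
  haveI : Nontrivial (S ⊗[k] D) := inferInstance
  haveI : IsDomain (S ⊗[k] D) := NoZeroDivisors.to_isDomain _
  have hpow : ∀ e', BrEq K (CSAGal.tpow K (S ⊗[k] D) e')
      (CSAGal.tpow K S e' ⊗[K] (K ⊗[k] CSAGal.tpow k D e')) := fun e' =>
    (hBr.tpow e').trans ((brEq_tensor_tpow e').trans (BrEq.refl.tensor (brEq_baseChange_tpow K e')))
  have hSm : BrEq K (CSAGal.tpow K S m) K := (splits_self_iff_brEq (hS.tpow m)).1 hSper.2.1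
  have hDp : BrEq k (CSAGal.tpow k D p) k := (splits_self_iff_brEq (hD.tpow p)).1 hpD.2.1
  have hper : CSAGal.IsPeriod K (S ⊗[k] D) (Nat.lcm p m) := by
    refine ⟨Nat.lcm_pos hpD.1 hm, ?_, fun e' he' hlt hs => ?_⟩
    · refine (splits_self_iff_brEq (hE.tpow _)).2 ((hpow _).trans ?_)
      exact ((brEq_tpow_of_dvd hSm (Nat.dvd_lcm_right p m)).tensor
        (((brEq_tpow_of_dvd hDp (Nat.dvd_lcm_left p m)).baseChange K).trans
          (BrEq.of_algEquiv (Algebra.TensorProduct.rid k K K)))).trans BrEq.tensor_left_base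
    · have h1 := (hpow e').symm.trans ((splits_self_iff_brEq (hE.tpow e')).1 hs)
      have hDe := hD.tpow e'
      have h2 : BrEq K ((K ⊗[k] CSAGal.tpow k D e') ⊗[K] (K ⊗[k] (CSAGal.tpow k D e')ᵐᵒᵖ)) K :=
        (BrEq.of_algEquiv (baseChangeTensor K _ _)).trans
          (((BrEq.tensor_op hDe).baseChange K).trans (BrEq.of_algEquiv (Algebra.TensorProduct.rid k K K)))
      have h3 : BrEq K (CSAGal.tpow K S e') (K ⊗[k] (CSAGal.tpow k D e')ᵐᵒᵖ) :=
        brEq_left_of_inv h1 h2
      have hme : m ∣ e' := dvd_of_brEq_const hm hω hS hsym hDe.op h3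
      have h4 : BrEq K (K ⊗[k] CSAGal.tpow k D e') K :=
        BrEq.tensor_left_base.symm.trans
          (((brEq_tpow_of_dvd hSm hme).symm.tensor BrEq.refl).trans h1)
      have hpe : p ∣ e' := period_dvd hD hpD
        ((splits_self_iff_brEq hDe).1 (splits_of_splits_rat2 hDe ((splits_iff_brEq hDe K).2 h4)))
      exact absurd (Nat.le_of_dvd he' (Nat.lcm_dvd hpe hme)) (not_le.2 hlt)
  exact ⟨S ⊗[k] D, divisionRingOfFiniteDimensional K (S ⊗[k] D), inferInstance, hE, hdE, hper⟩

theorem exists_hasType (p : ℕ) (hp : 0 < p) : ∀ e : ℕ, 0 < e → (∀ q : ℕ, q.Prime → q ∣ e → q ∣ p) →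
    ∃ (k : Type u) (_ : Field k), HasRoots k ∧ HasType k p (p * e) := by
  intro e
  induction e using Nat.strong_induction_on with
  | _ e ih =>
    intro he hq
    by_cases h1 : e = 1
    · subst h1
      let k₀ : Type u := AlgebraicClosure (ULift.{u} ℚ)
      have hk : HasRoots k₀ := fun m hm => by
        haveI : NeZero m := ⟨hm.ne'⟩
        haveI : CharZero (ULift.{u} ℚ) :=
          charZero_of_injective_ringHom (f := (ULift.ringEquiv.symm : ℚ ≃+* ULift.{u} ℚ).toRingHom)
            (ULift.ringEquiv.symm : ℚ ≃+* ULift.{u} ℚ).injective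
        haveI : CharZero k₀ := charZero_of_injective_algebraMap (algebraMap (ULift.{u} ℚ) k₀).injective
        exact HasEnoughRootsOfUnity.exists_primitiveRoot k₀ m
      refine ⟨Rat2 k₀, inferInstance, hasRoots_rat2 hk, ?_⟩
      have := hasType_step hk hp (hasType_self (k := k₀))
      rw [Nat.lcm_one_left, one_mul] at this
      rwa [mul_one]
    · have hqp := Nat.minFac_prime h1
      have hqd : e.minFac ∣ e := Nat.minFac_dvd e
      obtain ⟨k, _, hk, ht⟩ := ih (e / e.minFac) (Nat.div_lt_self he hqp.one_lt)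
        (Nat.div_pos (Nat.le_of_dvd he hqd) hqp.pos)
        (fun q hq' hdvd => hq q hq' (hdvd.trans (Nat.div_dvd_of_dvd hqd)))
      refine ⟨Rat2 k, inferInstance, hasRoots_rat2 hk, ?_⟩
      have := hasType_step hk hqp.pos ht
      rwa [Nat.lcm_eq_left (hq _ hqp hqd), mul_assoc, Nat.div_mul_cancel hqd] at this

theorem exists_severiBrauer_of_type (p i d : ℕ) (hp : 0 < p) (hi : 0 < i) (hd : 0 < d)
    (hpi : p ∣ i) (hid : i ∣ d) (hprimes : ∀ q : ℕ, q.Prime → q ∣ i → q ∣ p) :
    ∃ (k : Type u) (_ : Field k) (A : Type u) (_ : Ring A) (_ : Algebra k A),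
      Algebra.IsCentral k A ∧ IsSimpleRing A ∧ Module.finrank k A = d * d ∧
      CSAGal.IsPeriod k A p ∧ CSAGal.IsIndex k A i ∧
      ∃ (X : AlgebraicGeometry.Scheme.{u}) (f : X ⟶ AlgebraicGeometry.Spec (CommRingCat.of k)),
        BrSev.IsSBOf k A (d * d - d) f := by
  obtain ⟨e, rfl⟩ := hpi
  obtain ⟨r, rfl⟩ := hid
  obtain ⟨k, _, -, D, _, _, hD, hdD, hper⟩ := exists_hasType.{u} p hp e (Nat.pos_of_mul_pos_left hi)
    (fun q hq hqe => hprimes q hq (hqe.trans (Dvd.intro_left p rfl)))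
  have hr : r ≠ 0 := fun h => by simp [h] at hd
  let A := Matrix (Fin r) (Fin r) D
  have hA : IsCSA k A := hD.matrix r hr
  have hBr : BrEq k A D := BrEq.matrix r hr
  haveI := hA.findim
  refine ⟨k, inferInstance, A, inferInstance, inferInstance, hA.central, hA.simple, ?_, ?_,
    ⟨hi, r, D, inferInstance, inferInstance, Nat.pos_of_ne_zero hr, by rw [hdD, sq], ⟨AlgEquiv.refl⟩⟩,
    exists_isSBOf k A _⟩
  · rw [Module.finrank_matrix, Fintype.card_fin, hdD]
    ring
  · have hpow : ∀ e', BrEq k (CSAGal.tpow k A e') (CSAGal.tpow k D e') := fun e' => hBr.tpow e'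
    refine ⟨hper.1, ((hpow p).splits_iff (hA.tpow p) (hD.tpow p) k).2 hper.2.1, fun e' h1 h2 h3 => ?_⟩
    exact hper.2.2 e' h1 h2 (((hpow e').splits_iff (hA.tpow e') (hD.tpow e') k).1 h3)

end Groth.Agent.SBTaut

end
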