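import Groth.Agent.KSMod.AbsSplit
import Mathlib.LinearAlgebra.Dimension.Constructions

/-!
# Endomorphisms of isotypic modules
-/

set_option autoImplicit false
universe u

open CategoryTheory CategoryTheory.Limits AlgebraicGeometry
open Groth.Agent.QCoh Groth.Agent.KFlat Groth.Agent.KFlat.PullTensor Groth.Agent.KFlat.StalkTensor
open W4c1astiltbs12

noncomputable section

namespace Groth.Agent.SBTaut

variable {X : Scheme.{u}} {k : Type u} [Field k] (f : X ⟶ Spec (CommRingCat.of k))

/-- The tensor product is linear over global functions on the right. -/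
theorem tL_map_scal (M N : X.Modules) (r : Γ(X, ⊤)) :
    ((DCoh.tensorBi (X := X)).obj M).map (KSMod.scal N r) =
      KSMod.scal ((KSMod.tR N).obj M) r := by
  refine ((preAdj X.sheaf).homEquiv (tensP M N) _).injective ?_
  rw [Adjunction.homEquiv_unit, Adjunction.homEquiv_unit]
  refine PresheafOfModules.hom_ext fun U => ?_
  refine ModuleCat.hom_ext (LinearMap.ext fun z => ?_)
  induction z using TensorProduct.induction_on with
  | zero => exact (map_zero _).trans (map_zero _).symm
  | add p q hp hq => exact (map_add _ p q).trans ((congrArg₂ (· + ·) hp hq).trans (map_add _ p q).symm)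
  | tmul m n =>
    change (((DCoh.tensorBi (X := X)).obj M).map (KSMod.scal N r)).app U.unop (tmulSec U.unop m n) =
      (KSMod.scal ((KSMod.tR N).obj M) r).app U.unop (tmulSec U.unop m n)
    rw [show ((DCoh.tensorBi (X := X)).obj M).map (KSMod.scal N r) = tensMap (𝟙 M) (KSMod.scal N r) from
      (tensMap_id_left M (KSMod.scal N r)).symm]
    refine (tensMap_tmulSec (𝟙 M) (KSMod.scal N r) U.unop m n).trans ?_
    refine (congrArg (fun z => tmulSec U.unop _ z) (KSMod.scal_app N r U.unop n)).trans ?_
    exact tmulSec_smul_right U.unop _ _ n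

/-- Endomorphisms over `k`. -/
abbrev endK (M : X.Modules) : Algebra k (End M) := KSMod.endAlgebra k f M

theorem finrank_endK (M : X.Modules) :
    (letI := endK f M; Module.finrank k (End M)) =
      (letI := KSMod.endAlg f M; Module.finrank Γ(Spec (CommRingCat.of k), ⊤) (End M)) := by
  letI := endK f M
  letI := KSMod.endAlg f M
  exact Algebra.finrank_eq_of_equiv_equiv
    (Scheme.ΓSpecIso (CommRingCat.of k)).commRingCatIsoToRingEquiv.symm (RingEquiv.refl _) rfl

/-- The endomorphisms of an isotypic module form a matrix algebra. -/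
theorem nonempty_algEquiv_matrix {T W : X.Modules} {μ : ℕ}
    (d : KSMod.Dec T (fun _ : Fin μ => W)) :
    letI := endK f T
    letI := endK f W
    Nonempty (End T ≃ₐ[k] Matrix (Fin μ) (Fin μ) (End W)) := by
  classical
  letI := endK f T
  letI := endK f W
  let φ : End T →ₐ[k] Matrix (Fin μ) (Fin μ) (End W) :=
    { toFun := fun x => Matrix.of fun a c => End.of (d.inj c ≫ End.asHom x ≫ d.proj a)
      map_one' := by
        ext a c
        by_cases h : a = c
        · subst h
          rw [Matrix.one_apply_eq, Matrix.of_apply]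
          exact (congrArg (d.inj a ≫ ·) (Category.id_comp _)).trans (d.inj_proj a)
        · rw [Matrix.one_apply_ne h, Matrix.of_apply]
          exact (congrArg (d.inj c ≫ ·) (Category.id_comp _)).trans (d.inj_proj_ne c a (Ne.symm h))
      map_mul' := fun x y => by
        ext a c
        rw [Matrix.mul_apply, Matrix.of_apply]
        change d.inj c ≫ (End.asHom y ≫ End.asHom x) ≫ d.proj a =
          ∑ l, (d.inj c ≫ End.asHom y ≫ d.proj l) ≫ (d.inj l ≫ End.asHom x ≫ d.proj a)
        calc d.inj c ≫ (End.asHom y ≫ End.asHom x) ≫ d.proj a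
            = d.inj c ≫ End.asHom y ≫ (∑ l, d.proj l ≫ d.inj l) ≫ End.asHom x ≫ d.proj a := by
              rw [d.total, Category.id_comp, Category.assoc]
          _ = _ := by simp only [Preadditive.sum_comp, Preadditive.comp_sum, Category.assoc]
      map_zero' := by
        ext a c
        exact (congrArg (d.inj c ≫ ·) zero_comp).trans comp_zero
      map_add' := fun x y => by
        ext a c
        change d.inj c ≫ (End.asHom x + End.asHom y) ≫ d.proj a = _
        rw [Preadditive.add_comp, Preadditive.comp_add]
        rfl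
      commutes' := fun r => by
        ext a c
        rw [Matrix.algebraMap_matrix_apply, Matrix.of_apply]
        change d.inj c ≫ KSMod.scal T (KSMod.kTop k f r) ≫ d.proj a = _
        rw [KSMod.scal_nat, ← Category.assoc]
        split_ifs with h
        · subst h
          rw [d.inj_proj, Category.id_comp]
          rfl
        · rw [d.inj_proj_ne c a (Ne.symm h), zero_comp] }
  refine ⟨AlgEquiv.ofBijective φ ⟨fun x y h => ?_, fun M => ⟨End.of (∑ a, ∑ c, d.proj c ≫ End.asHom (M a c) ≫ d.inj a), ?_⟩⟩⟩
  · have key : ∀ x : End T, End.asHom x =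
        ∑ c, ∑ a, d.proj c ≫ End.asHom (φ x a c) ≫ d.inj a := fun x => by
      calc End.asHom x = (∑ c, d.proj c ≫ d.inj c) ≫ End.asHom x ≫ ∑ a, d.proj a ≫ d.inj a := by
            rw [d.total, Category.id_comp, Category.comp_id]
        _ = _ := by
            simp only [Preadditive.sum_comp, Preadditive.comp_sum, Category.assoc]
            exact Finset.sum_comm.trans (Finset.sum_congr rfl fun c _ => Finset.sum_congr rfl fun a _ => by
              simp [φ])
    exact (key x).trans (Eq.trans (by rw [h]) (key y).symm)
  · ext a c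
    change d.inj c ≫ (∑ a', ∑ c', d.proj c' ≫ End.asHom (M a' c') ≫ d.inj a') ≫ d.proj a = End.asHom (M a c)
    simp only [Preadditive.sum_comp, Preadditive.comp_sum, Category.assoc]
    rw [Finset.sum_eq_single a, Finset.sum_eq_single c]
    · rw [reassoc_of% (d.inj_proj c), d.inj_proj, Category.comp_id]
    · intro c' _ hc'
      rw [reassoc_of% (d.inj_proj_ne c c' (Ne.symm hc')), zero_comp]
    · simp
    · intro a' _ ha'
      refine Finset.sum_eq_zero fun c' _ => ?_
      rw [d.inj_proj_ne a' a ha', comp_zero, comp_zero, comp_zero]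
    · simp

variable [IsProper f] {K : Type u} [Field K] [Algebra k K]

/-- Isotypic indecomposable modules have division algebras of endomorphisms. -/
theorem isUnit_or_eq_zero (hY : Function.Surjective (W4bk4gw11416.baseChangeTo f K).appTop)
    {N : (W4bk4gw11416.baseChange f K).Modules} (hN : PicF.IsInvertible N)
    [ConnectedSpace ↥(W4bk4gw11416.baseChange f K)]
    {W : X.Modules} (hWc : Coh.IsCoh W) (hWi : KSMod.Indec W) {r : ℕ}
    (dW : KSMod.Dec (bcMod f K W) (fun _ : Fin r => N)) (x : End W) : IsUnit x ∨ x = 0 := by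
  haveI := KSMod.isLocallyNoetherian f
  have hNi := KSMod.indec_of_isInvertible hN
  haveI := KSMod.isArtinian f W hWc
  haveI := hWi.isLocalRing
  by_cases hx : x = 0
  · exact Or.inr hx
  obtain ⟨n, a, b, h⟩ := KSMod.generates_of_isIso f K hWc (fun g hg => by
    obtain ⟨c, hc, -⟩ := KSMod.existsUnique_scal f K hY hN hNi.1 g
    have hc0 : c ≠ 0 := fun h0 => hg (by rw [hc, h0, KSMod.Tm, map_zero, KSMod.scal_zero])
    obtain ⟨c', hc'⟩ := (KSMod.isField_Γ K).mul_inv_cancel hc0
    refine ⟨⟨KSMod.Tm (W4bk4gw11416.baseChangeTo f K) N c', ?_, ?_⟩⟩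
    · rw [hc, KSMod.Tm, KSMod.Tm, KSMod.scal_comp, ← map_mul, mul_comm, hc', map_one, KSMod.scal_one]
    · rw [hc, KSMod.Tm, KSMod.Tm, KSMod.scal_comp, ← map_mul, hc', map_one, KSMod.scal_one]) dW
    (End.asHom x) hx
  exact Or.inl (KSMod.isUnit_of_generates (fun g hg => hWi.idem (End.asHom g) hg) Finset.univ
    (fun i => End.of (b i)) (fun i => End.of (a i))
    ((Finset.sum_congr rfl fun i _ => Category.assoc (a i) (End.asHom x) (b i) ▸ rfl).trans h))

end Groth.Agent.SBTaut
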