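import Groth.Agent.SBTaut.Index
import Groth.Agent.SBTaut.Geo
import Groth.Agent.GrpdLib.ProjVec

/-!
# Twists on split Severi–Brauer schemes over arbitrary splitting fields
-/

set_option autoImplicit false
universe u

open CategoryTheory CategoryTheory.Limits AlgebraicGeometry W4c1astiltbs12 MvPolynomial
open Groth.Agent.GrpdLib.ProjVec
open scoped TensorProduct

noncomputable section

namespace Groth.Agent.SBTaut

variable {k : Type u} [Field k] {A : Type u} [Ring A] [Algebra k A]
  {X : Scheme.{u}} {f : X ⟶ Spec (CommRingCat.of k)} {K : Type u} [Field K] [Algebra k K]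

/-- Projective space has a rational point. -/
theorem exists_section (K : Type u) [Field K] (m : ℕ) :
    ∃ r : Spec (CommRingCat.of K) ⟶ CohB1.ProjSpace m K, r ≫ CohB1.ProjSpace.toSpec m K = 𝟙 _ := by
  classical
  let ev : MvPolynomial (Fin (m + 1)) K →+* Γ(Spec (CommRingCat.of K), ⊤) :=
    eval₂Hom (Chow.specHom (𝟙 (Spec (CommRingCat.of K)))) fun j => if j = 0 then 1 else 0
  have h : Ideal.span (Set.range fun j => ev (X j)) = ⊤ :=
    (Ideal.eq_top_iff_one _).2 (Ideal.subset_span ⟨0, by simp [ev]⟩)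
  refine ⟨vecHom ev h, (vecHom_str ev h).trans ?_⟩
  have : ev.comp C = Chow.specHom (𝟙 (Spec (CommRingCat.of K))) := RingHom.ext fun a => eval₂Hom_C _ _ a
  rw [this]
  exact Chow.toSpecΓ_specHom _

/-- A splitting of the scheme splits the algebra. -/
theorem exists_theta [Algebra.IsCentral k A] [IsSimpleRing A] {n : ℕ} (hn : 0 < n)
    (hA : Module.finrank k A = n * n) (hX : BrSev.IsSBOf k A (n * n - n) f) {m : ℕ}
    (e : BrSev.Splitting f K m) : Nonempty (K ⊗[k] A ≃ₐ[K] Matrix (Fin n) (Fin n) K) := by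
  obtain ⟨σ⟩ := hX
  haveI : FiniteDimensional k A := Module.finite_of_finrank_pos (by rw [hA]; exact Nat.mul_pos hn hn)
  obtain ⟨r, hr⟩ := exists_section K m
  let g : BrSev.Pts f K := ⟨r ≫ e.iso.inv ≫ BrSev.proj f K, by
    rw [Category.assoc, Category.assoc]
    have h1 : BrSev.proj f K ≫ f = BrSev.bcTo f K ≫ Spec.map (CommRingCat.ofHom (algebraMap k K)) :=
      pullback.condition
    rw [h1, ← e.comm, Category.assoc, Iso.inv_hom_id_assoc, ← Category.assoc, hr, Category.id_comp]⟩
  let I := σ.bij K g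
  let V := I.1.toSubmodule
  haveI : Module.Finite K (K ⊗[k] A) := inferInstance
  have hB : Module.finrank K (K ⊗[k] A) = n * n := by rw [Module.finrank_baseChange, hA]
  have hV : Module.finrank K V = n := by
    have h1 := V.finrank_quotient_add_finrank
    have h2 : Module.finrank K ((K ⊗[k] A) ⧸ V) = n * n - n := by
      obtain ⟨p⟩ := (inferInstance : Nonempty (PrimeSpectrum K))
      have := I.1.rankAtStalk_eq p
      rwa [Module.rankAtStalk_eq_finrank_of_free, Pi.natCast_apply] at this
    have := Nat.le_mul_self n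
    omega
  let ρ : K ⊗[k] A →ₐ[K] Module.End K V :=
    { toFun := fun x => (LinearMap.mulLeft K x).restrict fun v hv => I.2 x v hv
      map_one' := LinearMap.ext fun v => Subtype.ext (one_mul _)
      map_mul' := fun x y => LinearMap.ext fun v => Subtype.ext (mul_assoc _ _ _)
      map_zero' := LinearMap.ext fun v => Subtype.ext (zero_mul _)
      map_add' := fun x y => LinearMap.ext fun v => Subtype.ext (add_mul _ _ _)
      commutes' := fun a => LinearMap.ext fun v => Subtype.ext (Algebra.smul_def a (v : K ⊗[k] A)).symm }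
  haveI : IsSimpleRing (K ⊗[k] A) := ((CSA.IsCSA.of k A).baseChange K).simple
  haveI : Nontrivial V := Module.nontrivial_of_finrank_pos (R := K) (by omega)
  have hinj : Function.Injective ρ := ρ.toRingHom.injective
  have hfr : Module.finrank K (K ⊗[k] A) = Module.finrank K (Module.End K V) :=
    hB.trans ((Module.finrank_linearMap K K V V).trans (by rw [hV])).symm
  have hsur : Function.Surjective ρ.toLinearMap :=
    by
      have := @LinearMap.injective_iff_surjective_of_finrank_eq_finrank K (K ⊗[k] A) _ _ _ (Module.End K V) _ _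
      exact (this hfr (f := ρ.toLinearMap)).mp hinj
  have hbij : Function.Bijective ρ := ⟨hinj, hsur⟩
  exact ⟨(AlgEquiv.ofBijective ρ hbij).trans (algEquivMatrix (Module.finBasisOfFinrankEq K V hV))⟩

variable [IsProper f]

/-- Inverse modules of a type. -/
theorem exists_dual {n : ℕ} (e : BrSev.Splitting f K n) {L : X.Modules} (hL : PicF.IsInvertible L) {a : ℤ}
    (h : BrSev.IsTwPow e a 1 L) : ∃ L' : X.Modules, PicF.IsInvertible L' ∧ BrSev.IsTwPow e (-a) 1 L' := by
  letI := PicLaw.law X
  obtain ⟨L', hL', ⟨ε⟩⟩ := KSMod.exists_inverse hL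
  let d := KSMod.powDec h.some
  let φ : BrSev.bcMod f K L ≅ e.twist a :=
    { hom := d.proj 0, inv := d.inj 0
      hom_inv_id := by have := d.total; rwa [Fin.sum_univ_one] at this
      inv_hom_id := d.inj_proj 0 }
  obtain ⟨e0⟩ := KSMod.exists_iso_bc_one f K
  let M := BrSev.bcMod f K L'
  let ε' : CohB1.tensorMod (e.twist a) M ≅ Coh.structureModule _ :=
    ProjTwist.tensCongr φ.symm (Iso.refl M) ≪≫ (KSMod.pullTens (BrSev.proj f K) L L').symm ≪≫
      (Scheme.Modules.pullback (BrSev.proj f K)).mapIso ε ≪≫ e0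
  obtain ⟨μ⟩ := nonempty_twist_tensor e (-a) a
  obtain ⟨z⟩ := nonempty_twist_zero e
  let ν : M ≅ e.twist (-a) :=
    (ProjTwist.tensOne M).symm ≪≫
      ProjTwist.tensCongr (Iso.refl M) (z ≪≫ eqToIso (by rw [neg_add_cancel]) ≪≫ μ.symm) ≪≫
      ProjTwist.tensComm M _ ≪≫ ProjTwist.tensAssoc _ _ _ ≪≫
      ProjTwist.tensCongr (Iso.refl _) ε' ≪≫ ProjTwist.tensOne _
  let d' : KSMod.Dec M (fun _ : Fin 1 => e.twist (-a)) :=
    { inj := fun _ => ν.inv, proj := fun _ => ν.hom
      inj_proj := fun _ => ν.inv_hom_id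
      inj_proj_ne := fun i j h => absurd (Subsingleton.elim i j) h
      total := by simp }
  exact ⟨L', hL', ⟨d'.powIso⟩⟩

/-- An invertible module of type `O(j)` exists exactly for multiples of the period. -/
theorem exists_invertible_iff [Algebra.IsCentral k A] [IsSimpleRing A] [Algebra.IsAlgebraic k K]
    {n : ℕ} (hn : 0 < n) (hA : Module.finrank k A = n * n) (hX : BrSev.IsSBOf k A (n * n - n) f)
    {d : ℕ} (hd : CSAGal.IsPeriod k A d) (e : BrSev.Splitting f K (n - 1)) (j : ℤ) :
    (∃ L : X.Modules, PicF.IsInvertible L ∧ BrSev.IsTwPow e j 1 L) ↔ (d : ℤ) ∣ j := by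
  classical
  haveI : FiniteDimensional k A := Module.finite_of_finrank_pos (by rw [hA]; exact Nat.mul_pos hn hn)
  have hA' := CSA.IsCSA.of k A
  obtain ⟨θ⟩ := exists_theta hn hA hX e
  have hX' := hX
  obtain ⟨σ⟩ := hX
  let b := Module.finBasisOfFinrankEq k A hA
  obtain ⟨m, hm, ⟨dT⟩⟩ := exists_type_of σ b hn (Nat.sub_add_cancel (Nat.le_mul_self n)) rfl θ e
  obtain ⟨T, hT, ⟨dj⟩, hφ⟩ := exists_power σ b e dT j.natAbs
  letI := endK f T
  obtain ⟨φ⟩ := hφ
  set q := n ^ j.natAbs with hq
  have hq0 : 0 < q := pow_pos hn _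
  haveI := KSMod.isLocallyNoetherian f
  haveI := KSMod.connectedSpace_of_splitting e
  have hjm : m * (j.natAbs : ℤ) = j ∨ m * (j.natAbs : ℤ) = -j := by
    rcases hm with rfl | rfl <;> rcases Int.natAbs_eq j with hj | hj <;> omega
  constructor
  · rintro ⟨L, hL, hLt⟩
    obtain ⟨J, hJ, hJt⟩ : ∃ J, PicF.IsInvertible J ∧ BrSev.IsTwPow e (m * (j.natAbs : ℤ)) 1 J := by
      rcases hjm with h | h
      · exact ⟨L, hL, h.symm ▸ hLt⟩
      · rw [h]; exact exists_dual e hL hLt
    have hJf : FlatMod.IsFinLocFree J :=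
      VBLib.isFinLocFree_of_ofRank (ProjTwist.isFinLocFreeOfRank_one hJ)
    let P := W4c1astiltbs12.pow J q
    have hPf : FlatMod.IsFinLocFree P := KFlat.TensorLocFree.isFinLocFree_sigma _ Finset.univ
      (fun i hi => absurd (Finset.mem_univ i) hi) fun _ => hJf
    let dJ := KSMod.powDec hJt.some
    have dP : KSMod.Dec (BrSev.bcMod f K P) (fun _ : Fin q => e.twist (m * (j.natAbs : ℤ))) :=
      ((((KSMod.powDec (Iso.refl P)).map (Scheme.Modules.pullback (BrSev.proj f K))).trans
        (fun _ => dJ)).reindex (Equiv.prodUnique (Fin q) (Fin 1)).symm)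
    obtain ⟨eT⟩ := KSMod.nonempty_iso f K T P (VBLib.isCoh_of_isFinLocFree hT)
      (VBLib.isCoh_of_isFinLocFree hPf) (dj.powIso ≪≫ dP.powIso.symm)
    letI := endK f J
    obtain ⟨M⟩ := nonempty_algEquiv_matrix f (KSMod.powDec eT)
    let Kb := AlgebraicClosure k
    obtain ⟨eb⟩ := nonempty_splitting_of_splits hn hA hX' Kb (by
      haveI : IsAlgClosed Kb := inferInstance
      haveI := (hA'.baseChange Kb).simple
      obtain ⟨n', hn', h⟩ := IsSimpleRing.exists_algEquiv_matrix_of_isAlgClosed Kb (Kb ⊗[k] A)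
      exact ⟨n', hn'.out, h⟩)
    haveI := KSMod.connectedSpace_of_splitting eb
    have hJb : PicF.IsInvertible (BrSev.bcMod f Kb J) := PicLoc.isInvertible_pullback _ hJ
    have hdim : Module.finrank k (End J) = 1 :=
      (finrank_endK f J).trans ((KSMod.finrank_end_of_dec f Kb (KSMod.surjective_appTop_of_splitting eb)
        (VBLib.isCoh_of_isFinLocFree hJf) hJb (KSMod.indec_of_isInvertible hJb).1
        { inj := fun _ => 𝟙 _, proj := fun _ => 𝟙 _, inj_proj := fun _ => Category.id_comp _
          inj_proj_ne := fun i l h => absurd (Subsingleton.elim i l) h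
          total := (Fin.sum_univ_one _).trans (Category.id_comp _) }).trans (one_mul 1))
    haveI : Nontrivial (End J) := Module.nontrivial_of_finrank_pos (R := k) (by omega)
    haveI : Module.Finite k (End J) := Module.finite_of_finrank_pos (by omega)
    have hk : Function.Bijective (Algebra.ofId k (End J)) := ⟨(algebraMap k (End J)).injective,
      (LinearMap.injective_iff_surjective_of_finrank_eq_finrank (f := (Algebra.ofId k (End J)).toLinearMap)
        (by rw [Module.finrank_self, hdim])).mp (algebraMap k (End J)).injective⟩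
    let ψ : CSAGal.tpow k A j.natAbs →ₐ[k] Matrix (Fin q) (Fin q) k :=
      ((AlgEquiv.ofBijective _ hk).symm.mapMatrix.toAlgHom.comp M.toAlgHom).comp φ
    haveI : IsSimpleRing (CSAGal.tpow k A j.natAbs) := (hA'.tpow _).simple
    haveI : FiniteDimensional k (CSAGal.tpow k A j.natAbs) := (hA'.tpow _).findim
    haveI : NeZero q := ⟨hq0.ne'⟩
    have hinj : Function.Injective ψ := ψ.toRingHom.injective
    have hbij : Function.Bijective ψ := ⟨hinj,
      (LinearMap.injective_iff_surjective_of_finrank_eq_finrank (f := ψ.toLinearMap)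
        (by rw [finrank_tpow hA, Module.finrank_matrix]; simp [hq])).mp hinj⟩
    exact Int.natCast_dvd.2 (CSA.period_dvd hA' hd
      (CSA.BrEq.of_matrix (AlgEquiv.ofBijective ψ hbij) hq0.ne'))
  · intro hdj
    obtain ⟨z, hz⟩ := Int.natCast_dvd.1 hdj
    have hbr : CSA.BrEq k (CSAGal.tpow k A j.natAbs) k :=
      hz ▸ CSA.brEq_tpow_mul_of_brEq ((CSA.splits_self_iff_brEq (hA'.tpow d)).1 hd.2.1) z
    obtain ⟨q', hq', ⟨α⟩⟩ : Curves.Splits k (CSAGal.tpow k A j.natAbs) k :=
      (CSA.splits_self_iff_brEq (hA'.tpow _)).2 hbr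
    have hq'q : q' = q := by
      have h := α.toLinearEquiv.finrank_eq
      rw [Module.finrank_baseChange, finrank_tpow hA, Module.finrank_matrix] at h
      simp only [Fintype.card_fin, Module.finrank_self, mul_one] at h
      exact (Nat.mul_self_inj.mp h).symm
    subst hq'q
    obtain ⟨L, ⟨dL⟩, i, p, hip⟩ := exists_dec_of_ringHom hq0
      (φ.comp (((Algebra.TensorProduct.lid k _).symm.trans α).symm.toAlgHom)).toRingHom
    have hLf : FlatMod.IsFinLocFree L := KSMod.isFinLocFree_of_retract i p hip hT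
    have hLi : KSMod.Indec (e.twist (m * (j.natAbs : ℤ))) :=
      KSMod.indec_of_isInvertible (KSMod.isInvertible_twist e _)
    obtain ⟨s, ⟨ds⟩⟩ := KSMod.exists_dec_of_retract f K (M := BrSev.bcMod f K L)
      (KSMod.isCoh_bcMod f K (VBLib.isCoh_of_isFinLocFree hLf)) hLi dj
      ((Scheme.Modules.pullback (BrSev.proj f K)).map i) ((Scheme.Modules.pullback (BrSev.proj f K)).map p)
      (by rw [← Functor.map_comp, hip, CategoryTheory.Functor.map_id])
    have hs : q * s = q := KSMod.card_eq_of_dec f K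
      (KSMod.isCoh_bcMod f K (VBLib.isCoh_of_isFinLocFree hT)) hLi hLi
      (((dL.map (Scheme.Modules.pullback (BrSev.proj f K))).trans (fun _ => ds)).reindex finProdFinEquiv.symm) dj
    obtain rfl : s = 1 := (Nat.mul_eq_left hq0.ne').mp hs
    have hLt : BrSev.IsTwPow e (m * (j.natAbs : ℤ)) 1 L := ⟨ds.powIso⟩
    have hLinv := isInvertible_of_isTwPow_one e hLf hLt
    rcases hjm with h | h
    · exact ⟨L, hLinv, h ▸ hLt⟩
    · obtain ⟨L', hL', hL't⟩ := exists_dual e hLinv hLt
      refine ⟨L', hL', ?_⟩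
      rwa [h, neg_neg] at hL't

end Groth.Agent.SBTaut
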