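import Groth.Agent.SBTaut.Type
import Groth.Agent.SBTaut.EndMat
import Groth.Agent.CSA.Period
import Groth.Agent.ProjTwist.Zero
import Groth.Agent.S14202

/-!
# Tensor powers of the tautological bundle and the index
-/

set_option autoImplicit false
universe u

open CategoryTheory CategoryTheory.Limits AlgebraicGeometry W4c1astiltbs12
open scoped TensorProduct

noncomputable section

namespace Groth.Agent.SBTaut

variable {k : Type u} [Field k] {A : Type u} [Ring A] [Algebra k A] {c N : ℕ} {X : Scheme.{u}}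
  {f : X ⟶ Spec (CommRingCat.of k)} (σ : BrSev.SBStr k A c f) (b : Module.Basis (Fin N) k A)
  {K : Type u} [Field K] [Algebra k K]

/-- The action as an algebra map. -/
def actAlg : letI := endK f (taut σ b); A →ₐ[k] End (taut σ b) :=
  letI := endK f (taut σ b)
  { actR σ b with commutes' := act_algebraMap σ b }

theorem nonempty_twist_tensor {r : ℕ} (e : BrSev.Splitting f K r) (i j : ℤ) :
    Nonempty ((KSMod.tR (e.twist j)).obj (e.twist i) ≅ e.twist (i + j)) := by
  obtain ⟨φ⟩ := ProjTwist.nonempty_twistProjSpace_tensor r K i j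
  exact ⟨(KSMod.pullTens e.iso.hom _ _).symm ≪≫ (Scheme.Modules.pullback e.iso.hom).mapIso φ⟩

theorem nonempty_twist_zero {r : ℕ} (e : BrSev.Splitting f K r) :
    Nonempty (Coh.structureModule (BrSev.bc f K) ≅ e.twist 0) :=
  ⟨(QCoh.pullbackUnitIso e.iso.hom).symm ≪≫
    (Scheme.Modules.pullback e.iso.hom).mapIso (ProjTwist.twistZeroIso _)⟩

/-- The algebra map from a tensor product. -/
theorem exists_tensor_hom {A₁ A₂ : Type u} [Ring A₁] [Algebra k A₁] [Ring A₂] [Algebra k A₂]
    (M₁ M₂ : X.Modules) (φ₁ : letI := endK f M₁; A₁ →ₐ[k] End M₁)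
    (φ₂ : letI := endK f M₂; A₂ →ₐ[k] End M₂) :
    letI := endK f ((KSMod.tR M₂).obj M₁)
    Nonempty (A₁ ⊗[k] A₂ →ₐ[k] End ((KSMod.tR M₂).obj M₁)) := by
  letI := endK f M₁
  letI := endK f M₂
  letI := endK f ((KSMod.tR M₂).obj M₁)
  let L : X.Modules ⥤ X.Modules := (DCoh.tensorBi (X := X)).obj M₁
  haveI : L.Additive := DCoh.additive_tensorBi_obj M₁
  let l₁ : A₁ →ₐ[k] End ((KSMod.tR M₂).obj M₁) :=
    { toFun := fun a => End.of ((KSMod.tR M₂).map (End.asHom (φ₁ a)))
      map_one' := by rw [map_one]; exact (KSMod.tR M₂).map_id _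
      map_mul' := fun a a' => by rw [map_mul]; exact (KSMod.tR M₂).map_comp _ _
      map_zero' := by rw [map_zero]; exact (KSMod.tR M₂).map_zero _ _
      map_add' := fun a a' => by rw [map_add]; exact (KSMod.tR M₂).map_add
      commutes' := fun r => by
        rw [AlgHom.commutes]
        exact KSMod.tR_map_scal M₁ M₂ (KSMod.kTop k f r) }
  let l₂ : A₂ →ₐ[k] End ((KSMod.tR M₂).obj M₁) :=
    { toFun := fun a => End.of (L.map (End.asHom (φ₂ a)))
      map_one' := by rw [map_one]; exact L.map_id _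
      map_mul' := fun a a' => by rw [map_mul]; exact L.map_comp _ _
      map_zero' := by rw [map_zero]; exact L.map_zero _ _
      map_add' := fun a a' => by rw [map_add]; exact L.map_add
      commutes' := fun r => by
        rw [AlgHom.commutes]
        exact tL_map_scal M₁ M₂ (KSMod.kTop k f r) }
  exact ⟨Algebra.TensorProduct.lift l₁ l₂ fun a a' =>
    ((DCoh.tensorBi (X := X)).map (End.asHom (φ₁ a))).naturality (End.asHom (φ₂ a'))⟩

variable [IsProper f] [IsAlgClosure k K] {r : ℕ} (e : BrSev.Splitting f K r)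

omit [IsAlgClosure k K] in
/-- The tensor powers of the tautological bundle. -/
theorem exists_power {n : ℕ} {m : ℤ}
    (d : KSMod.Dec (BrSev.bcMod f K (taut σ b)) (fun _ : Fin n => e.twist m)) :
    ∀ j : ℕ, ∃ T : X.Modules, FlatMod.IsFinLocFree T ∧
      Nonempty (KSMod.Dec (BrSev.bcMod f K T) (fun _ : Fin (n ^ j) => e.twist (m * j))) ∧
      (letI := endK f T; Nonempty (CSAGal.tpow k A j →ₐ[k] End T))
  | 0 => by
    refine ⟨Coh.structureModule X, ?_, ?_, ?_⟩
    · exact VBLib.isFinLocFree_of_ofRank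
        (ProjTwist.isFinLocFreeOfRank_one (PicLoc.isInvertible_structureModule X))
    · obtain ⟨e0⟩ := KSMod.exists_iso_bc_one f K
      obtain ⟨z⟩ := nonempty_twist_zero e
      have hz : m * ((0 : ℕ) : ℤ) = 0 := by simp
      rw [hz, pow_zero]
      exact ⟨{ inj := fun _ => (e0 ≪≫ z).inv
               proj := fun _ => (e0 ≪≫ z).hom
               inj_proj := fun _ => (e0 ≪≫ z).inv_hom_id
               inj_proj_ne := fun i j h => absurd (Subsingleton.elim i j) h
               total := by simp }⟩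
    · letI := endK f (Coh.structureModule X)
      exact ⟨(Algebra.ofId k _).comp (CSA.powEmpty A (Fin 0)).toAlgHom⟩
  | j + 1 => by
    obtain ⟨T, hT, ⟨dT⟩, hφ⟩ := exists_power d j
    refine ⟨(KSMod.tR (taut σ b)).obj T, KFlat.TensorLocFree.isFinLocFree_tensM hT (isFinLocFree_taut σ b),
      ?_, ?_⟩
    · obtain ⟨μ⟩ := nonempty_twist_tensor e (m * j) m
      have g : KSMod.Dec ((KSMod.tR (BrSev.bcMod f K (taut σ b))).obj (e.twist (m * j)))
          (fun _ : Fin n => e.twist (m * ((j + 1 : ℕ) : ℤ))) :=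
        (d.map (KSMod.tR (e.twist (m * j)))).congr (ProjTwist.tensComm _ _)
          (fun _ => ProjTwist.tensComm _ _ ≪≫ μ ≪≫ eqToIso (by push_cast; ring_nf))
      exact ⟨((((dT.map (KSMod.tR (BrSev.bcMod f K (taut σ b)))).congr
        (KSMod.pullTens (BrSev.proj f K) T (taut σ b)).symm (fun _ => Iso.refl _)).trans
          (fun _ => g)).reindex (finCongr (pow_succ n j)|>.trans finProdFinEquiv.symm))⟩
    · letI := endK f T
      obtain ⟨φ⟩ := hφ
      letI := endK f ((KSMod.tR (taut σ b)).obj T)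
      obtain ⟨Ψ⟩ := exists_tensor_hom T (taut σ b) φ (actAlg σ b)
      exact ⟨Ψ.comp ((CSA.powAdd A j 1).symm.trans
        (Algebra.TensorProduct.congr AlgEquiv.refl (CSA.powUnique A (Fin 1)))).toAlgHom⟩

theorem finrank_tpow {n : ℕ} (hA : Module.finrank k A = n * n) [FiniteDimensional k A] :
    ∀ j : ℕ, Module.finrank k (CSAGal.tpow k A j) = n ^ j * n ^ j
  | 0 => by rw [(CSA.powEmpty A (Fin 0)).toLinearEquiv.finrank_eq]; simp
  | j + 1 => by
    rw [← (CSA.powAdd A j 1).toLinearEquiv.finrank_eq, Module.finrank_tensorProduct,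
      finrank_tpow hA j, (CSA.powUnique A (Fin 1)).toLinearEquiv.finrank_eq, hA]
    ring

variable [Algebra.IsCentral k A] [IsSimpleRing A]

/-- The indecomposable summand of a tensor power. -/
theorem exists_summand {n : ℕ} (hn : 0 < n) (hA : Module.finrank k A = n * n) {m : ℤ}
    (d : KSMod.Dec (BrSev.bcMod f K (taut σ b)) (fun _ : Fin n => e.twist m)) (j : ℕ) :
    ∃ (W : X.Modules) (r₀ : ℕ), FlatMod.IsFinLocFree W ∧ KSMod.Indec W ∧ 0 < r₀ ∧
      BrSev.IsTwPow e (m * j) r₀ W ∧ CSAGal.IsIndex k (CSAGal.tpow k A j) r₀ := by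
  haveI : IsAlgClosed K := IsAlgClosure.isAlgClosed k
  haveI : FiniteDimensional k A := Module.finite_of_finrank_pos (by rw [hA]; exact Nat.mul_pos hn hn)
  haveI := KSMod.isLocallyNoetherian f
  haveI := KSMod.connectedSpace_of_splitting e
  have hY := KSMod.surjective_appTop_of_splitting e
  obtain ⟨T, hT, ⟨dT⟩, hφ⟩ := exists_power σ b e d j
  letI := endK f T
  obtain ⟨φ⟩ := hφ
  have hTc := VBLib.isCoh_of_isFinLocFree hT
  have hL : PicF.IsInvertible (e.twist (m * j)) :=
    PicLoc.isInvertible_pullback e.iso.hom (ProjTwist.isInvertible_twistProjSpace r K _)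
  have hLi := KSMod.indec_of_isInvertible hL
  have hfin : Module.finrank k (End T) = n ^ j * n ^ j :=
    (finrank_endK f T).trans (KSMod.finrank_end_of_dec f K hY hTc hL hLi.1 dT)
  haveI : IsSimpleRing (CSAGal.tpow k A j) := ((CSA.IsCSA.of (k := k) (A := A)).tpow j).simple
  haveI : FiniteDimensional k (CSAGal.tpow k A j) := ((CSA.IsCSA.of (k := k) (A := A)).tpow j).findim
  haveI : Module.Finite k (End T) := Module.finite_of_finrank_pos (by rw [hfin]; positivity)
  haveI : Nontrivial (End T) := Module.nontrivial_of_finrank_pos (R := k) (by rw [hfin]; positivity)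
  have hinj : Function.Injective φ := φ.toRingHom.injective
  have hbij : Function.Bijective φ := ⟨hinj,
    (LinearMap.injective_iff_surjective_of_finrank_eq_finrank (f := φ.toLinearMap)
      (by rw [finrank_tpow hA j, hfin])).mp hinj⟩
  haveI := KSMod.isArtinian f T hTc
  obtain ⟨μ, Fs, hFs, ⟨dF⟩⟩ := KSMod.exists_dec T
  have hfree : ∀ a, FlatMod.IsFinLocFree (Fs a) := fun a =>
    KSMod.isFinLocFree_of_retract _ _ (dF.inj_proj a) hT
  have hdec : ∀ a, ∃ s, Nonempty (KSMod.Dec (BrSev.bcMod f K (Fs a)) (fun _ : Fin s => e.twist (m * j))) :=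
    fun a => KSMod.exists_dec_of_retract f K (KSMod.isCoh_bcMod f K (VBLib.isCoh_of_isFinLocFree (hfree a)))
      hLi dT ((Scheme.Modules.pullback (BrSev.proj f K)).map (dF.inj a))
      ((Scheme.Modules.pullback (BrSev.proj f K)).map (dF.proj a))
      (by rw [← Functor.map_comp, dF.inj_proj, CategoryTheory.Functor.map_id])
  have hT0 : ¬ IsZero T := fun h => not_subsingleton (End T)
    ⟨fun x y => h.eq_of_src x y⟩
  have hμ : 0 < μ := KSMod.pos_of_dec dF hT0
  let W := Fs ⟨0, hμ⟩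
  have hWc := VBLib.isCoh_of_isFinLocFree (hfree ⟨0, hμ⟩)
  obtain ⟨r₀, ⟨dW⟩⟩ := hdec ⟨0, hμ⟩
  have hiso : ∀ a, Nonempty (Fs a ≅ W) := fun a => by
    obtain ⟨s, ⟨da⟩⟩ := hdec a
    exact KSMod.indecomposable_unique f K _ (VBLib.isCoh_of_isFinLocFree (hfree a)) hWc (hFs a)
      (hFs _) da dW
  have hr₀ : 0 < r₀ := KSMod.pos_of_dec dW (KSMod.not_isZero_bcMod f K hWc (hFs _).1)
  letI := endK f W
  obtain ⟨M⟩ := nonempty_algEquiv_matrix f (dF.congr (Iso.refl T) fun a => (hiso a).some)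
  haveI : Nontrivial (End W) := ⟨⟨0, 1, fun h => (hFs ⟨0, hμ⟩).1
    ((IsZero.iff_id_eq_zero W).mpr h.symm)⟩⟩
  letI : DivisionRing (End W) := DivisionRing.ofIsUnitOrEqZero
    (isUnit_or_eq_zero f hY hL hWc (hFs _) dW)
  refine ⟨W, r₀, hfree _, hFs _, hr₀, ⟨dW.powIso⟩, hr₀, μ, End W, inferInstance, inferInstance, hμ, ?_,
    ⟨(AlgEquiv.ofBijective φ hbij).trans M⟩⟩
  rw [finrank_endK f W, KSMod.finrank_end_of_dec f K hY hWc hL hLi.1 dW, sq]

omit [IsProper f] [IsAlgClosure k K] [Algebra.IsCentral k A] [IsSimpleRing A] e in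
theorem eq_of_isTwPow [IsProper f] {r s : ℕ} {n' : ℕ} (e : BrSev.Splitting f K n') {W W' : X.Modules}
    (hW : FlatMod.IsFinLocFree W) (hW' : FlatMod.IsFinLocFree W') (hWi : KSMod.Indec W)
    (hW'i : KSMod.Indec W') {j : ℤ} (h : BrSev.IsTwPow e j r W) (h' : BrSev.IsTwPow e j s W') :
    r = s := by
  haveI := KSMod.isLocallyNoetherian f
  haveI := KSMod.connectedSpace_of_splitting e
  have hLi : KSMod.Indec (e.twist j) := KSMod.indec_of_isInvertible
    (PicLoc.isInvertible_pullback e.iso.hom (ProjTwist.isInvertible_twistProjSpace n' K j))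
  let dW := KSMod.powDec h.some
  let dW' := KSMod.powDec h'.some
  obtain ⟨φ⟩ := KSMod.indecomposable_unique f K _ (VBLib.isCoh_of_isFinLocFree hW)
    (VBLib.isCoh_of_isFinLocFree hW') hWi hW'i dW dW'
  exact KSMod.card_eq_of_dec f K (KSMod.isCoh_bcMod f K (VBLib.isCoh_of_isFinLocFree hW')) hLi hLi
    (dW.congr ((Scheme.Modules.pullback (BrSev.proj f K)).mapIso φ) fun _ => Iso.refl _) dW'

omit e in
include σ in
/-- The index theorem. -/
theorem isIndex {n : ℕ} (hn : 0 < n) (hA : Module.finrank k A = n * n) (hc : c + n = n * n)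
    (e : BrSev.Splitting f K (n - 1)) {W : X.Modules} (hW : FlatMod.IsFinLocFree W)
    (hWi : KSMod.Indec W) {j : ℤ} {r : ℕ} (hr : 0 < r) (hWt : BrSev.IsTwPow e j r W) :
    CSAGal.IsIndex k (CSAGal.tpow k A j.natAbs) r := by
  haveI : FiniteDimensional k A := Module.finite_of_finrank_pos (by rw [hA]; exact Nat.mul_pos hn hn)
  let b := Module.finBasisOfFinrankEq k A hA
  obtain ⟨m, hm, ⟨d⟩⟩ := exists_type σ b hn hA hc rfl e
  obtain ⟨W', r', hW', hW'i, hr', hW't, hidx⟩ := exists_summand σ b e hn hA d j.natAbs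
  suffices r = r' by rw [this]; exact hidx
  rcases Int.natAbs_eq j with hj | hj <;> rcases hm with rfl | rfl
  · rw [one_mul, ← hj] at hW't
    exact eq_of_isTwPow e hW hW' hWi hW'i hWt hW't
  · rw [neg_one_mul, ← hj] at hW't
    exact S14202.result k f (n - 1) K e j W W' hW hW' ⟨hWi.1, hWi.2⟩ ⟨hW'i.1, hW'i.2⟩ r r' hr hr' hWt hW't
  · rw [one_mul] at hW't
    rw [show ((j.natAbs : ℕ) : ℤ) = -j by omega] at hW't
    exact S14202.result k f (n - 1) K e j W W' hW hW' ⟨hWi.1, hWi.2⟩ ⟨hW'i.1, hW'i.2⟩ r r' hr hr' hWt hW't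
  · rw [neg_one_mul, ← hj] at hW't
    exact eq_of_isTwPow e hW hW' hWi hW'i hWt hW't

end Groth.Agent.SBTaut
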