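import Groth.Agent.SBTaut.Type
import Groth.Agent.SBTaut.Power
import Groth.Agent.ProjTwist.Pn.MulX
import Groth.Agent.ProjTwist.Pn.DimDrop
import Groth.Agent.KFlat.ProjFormula
import Groth.Agent.KSMod.GalTwist

/-!
# Maps from twists to the structure module on split Severi–Brauer schemes
-/

set_option autoImplicit false
universe u

open CategoryTheory CategoryTheory.Limits AlgebraicGeometry Opposite TopologicalSpace
open Groth.Agent.QCoh Groth.Agent.Props.GenLocus
open Groth.Agent.ProjTwist.Pn (h0Equiv)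

noncomputable section

namespace Groth.Agent.SBTaut

/-- Tensoring with an invertible module is faithful. -/
theorem tR_map_injective {X : Scheme.{u}} {J J' : X.Modules}
    (i : CohB1.tensorMod J J' ≅ Coh.structureModule X) {A B : X.Modules} {g g' : A ⟶ B}
    (h : (KSMod.tR J).map g = (KSMod.tR J).map g') : g = g' := by
  let ν : KSMod.tR J ⋙ KSMod.tR J' ≅ 𝟭 X.Modules :=
    ProjTwist.assocNat J J' (Coh.structureModule X) i ≪≫ KFlat.ProjFormula.unitRight X
  have h1 := ν.hom.naturality g
  have h2 := ν.hom.naturality g'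
  rw [Functor.comp_map, h] at h1
  rw [Functor.comp_map] at h2
  have h3 := h1.symm.trans h2
  simpa using h3

variable {K : Type u} [Field K]

/-- Maps to the structure module from a module with invertible image under an isomorphism. -/
theorem exists_embedding_aux {P Q : Scheme.{u}} (φ : P ≅ Q) (hP : P ⟶ Spec (CommRingCat.of K))
    (hQ : Q ⟶ Spec (CommRingCat.of K)) (hφ : φ.inv ≫ hP = hQ) (L : P.Modules) (L' T : Q.Modules)
    (α₁ : (Scheme.Modules.pullback φ.inv).obj L ≅ L')
    (μ : CohB1.tensorMod L' T ≅ Coh.structureModule Q) (μ' : CohB1.tensorMod T L' ≅ Coh.structureModule Q) :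
    ∃ Φ : (L ⟶ Coh.structureModule P) →+ Γ(T, ⊤), Function.Injective Φ ∧
      ∀ g c, Φ (g ≫ KSMod.scal _ (Coh.toGlobal hP c)) = (show Γ(Q, ⊤) from Coh.toGlobal hQ c) • Φ g := by
  let F := Scheme.Modules.pullback φ.inv
  let G := KSMod.tR T
  haveI : G.Additive := KSMod.additive_tR T
  let α : Coh.structureModule Q ≅ G.obj (F.obj L) := μ.symm ≪≫ G.mapIso α₁.symm
  let β : G.obj (F.obj (Coh.structureModule P)) ≅ T :=
    G.mapIso (QCoh.pullbackUnitIso φ.inv) ≪≫ ProjTwist.tensComm _ _ ≪≫ ProjTwist.tensOne T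
  let hom : (L ⟶ Coh.structureModule P) → (Coh.structureModule Q ⟶ T) :=
    fun g => α.hom ≫ G.map (F.map g) ≫ β.hom
  let Φ : (L ⟶ Coh.structureModule P) →+ Γ(T, ⊤) := AddMonoidHom.mk' (fun g => sec (hom g) ⊤)
    fun g g' => by
      simp only [hom, Functor.map_add, Preadditive.add_comp, Preadditive.comp_add]
      rfl
  refine ⟨Φ, fun g g' (h1 : sec (hom g) ⊤ = sec (hom g') ⊤) => ?_, fun g c => ?_⟩
  · have h2 : hom g = hom g' := by
      refine Scheme.Modules.hom_ext _ _ fun U => ?_
      ext a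
      rw [app_eq, app_eq, ← sec_res (hom g) (le_top : U ≤ ⊤), ← sec_res (hom g') (le_top : U ≤ ⊤), h1]
    have h3 : F.map g = F.map g' :=
      tR_map_injective (J := T) (J' := L') μ' ((cancel_mono β.hom).1 ((cancel_epi α.hom).1 h2))
    let ν : F ⋙ Scheme.Modules.pullback φ.hom ≅ 𝟭 P.Modules :=
      Scheme.Modules.pullbackComp φ.hom φ.inv ≪≫
        Scheme.Modules.pullbackCongr φ.hom_inv_id ≪≫ Scheme.Modules.pullbackId P
    have n1 := ν.hom.naturality g
    have n2 := ν.hom.naturality g'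
    rw [Functor.comp_map, h3] at n1
    rw [Functor.comp_map] at n2
    simpa using n1.symm.trans n2
  · have w : φ.inv ≫ hP = hQ ≫ Spec.map (CommRingCat.ofHom (algebraMap K K)) := by
      rw [Algebra.algebraMap_self, CommRingCat.ofHom_id, Spec.map_id, Category.comp_id, hφ]
    have hs : F.map (KSMod.scal (Coh.structureModule P) (Coh.toGlobal hP c)) =
        KSMod.scal _ (Coh.toGlobal hQ c) := by
      have h := pullback_scal (f := hP) (K := K) φ.inv hQ w (Coh.structureModule P) c
      simpa using h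
    have hhom : hom (g ≫ KSMod.scal _ (Coh.toGlobal hP c)) =
        hom g ≫ KSMod.scal T (Coh.toGlobal hQ c) := by
      simp only [hom, Functor.map_comp, Category.assoc, hs]
      rw [show G.map (KSMod.scal (F.obj (Coh.structureModule P)) (Coh.toGlobal hQ c)) = KSMod.scal _ _ from
        KSMod.tR_map_scal _ T (Coh.toGlobal hQ c), KSMod.scal_nat]
    simp only [Φ, AddMonoidHom.mk'_apply, hhom]
    change (KSMod.scal T (Coh.toGlobal hQ c)).app ⊤ ((hom g).app ⊤ _) = _
    rw [KSMod.scal_app]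
    have hid : KSMod.rtop Q ⊤ (Coh.toGlobal hQ c) = Coh.toGlobal hQ c :=
      congrArg (fun q : Q.ringCatSheaf.obj.obj (op ⊤) ⟶ _ => q.hom (Coh.toGlobal hQ c))
        (Q.ringCatSheaf.obj.map_id (op ⊤))
    rw [hid]
    rfl

theorem nonempty_tensor_neg (m : ℕ) (a a' : ℤ) (h : a + a' = 0) :
    Nonempty (CohB1.tensorMod (Twist.twistProjSpace m K a) (Twist.twistProjSpace m K a') ≅
      Coh.structureModule (CohB1.ProjSpace m K)) := by
  obtain ⟨μ⟩ := ProjTwist.nonempty_twistProjSpace_tensor m K a a'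
  exact ⟨μ ≪≫ eqToIso (congrArg (Twist.twistProjSpace m K) h) ≪≫ (ProjTwist.twistZeroIso _).symm⟩

variable {k : Type u} [Field k] {X : Scheme.{u}} {f : X ⟶ Spec (CommRingCat.of k)} [Algebra k K] {m : ℕ}

/-- Maps from a twist to the structure module are forms of the opposite degree. -/
theorem exists_sections_embedding (e : BrSev.Splitting f K m) (j : ℤ) :
    ∃ Φ : (e.twist j ⟶ Coh.structureModule (BrSev.bc f K)) →+
        Coh.HH (CohB1.ProjSpace m K) (Twist.twistProjSpace m K (-j)) 0,
      Function.Injective Φ ∧ ∀ g c, Φ (g ≫ KSMod.scal _ (Coh.toGlobal (BrSev.bcTo f K) c)) = c • Φ g := by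
  obtain ⟨μ⟩ := nonempty_tensor_neg (K := K) m j (-j) (add_neg_cancel j)
  obtain ⟨μ'⟩ := nonempty_tensor_neg (K := K) m (-j) j (neg_add_cancel j)
  obtain ⟨Φ, hΦ, hs⟩ := exists_embedding_aux e.iso (BrSev.bcTo f K) (CohB1.ProjSpace.toSpec m K)
    (by rw [← e.comm, Iso.inv_hom_id_assoc]) (e.twist j) _ _
    ((Scheme.Modules.pullbackComp e.iso.inv e.iso.hom).app _ ≪≫
      (Scheme.Modules.pullbackCongr e.iso.inv_hom_id).app _ ≪≫ (Scheme.Modules.pullbackId _).app _) μ μ'
  let E := ProjTwist.Pn.DimDrop.e0 (n := m) (k := K) (Twist.twistProjSpace m K (-j))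
  refine ⟨E.symm.toAddMonoidHom.comp Φ, E.symm.injective.comp hΦ, fun g c => E.injective ?_⟩
  refine (E.apply_symm_apply _).trans ((hs g c).trans ?_)
  refine Eq.trans ?_ (ProjTwist.Pn.DimDrop.e0_smul _ c _).symm
  exact congrArg ((show Γ(CohB1.ProjSpace m K, ⊤) from Coh.toGlobal (CohB1.ProjSpace.toSpec m K) c) • ·) (E.apply_symm_apply _).symm

/-- There are no maps from `O(1)` to the structure module. -/
theorem eq_zero_of_twist_one (e : BrSev.Splitting f K m) (hm : 1 ≤ m)
    (g : e.twist 1 ⟶ Coh.structureModule (BrSev.bc f K)) : g = 0 := by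
  obtain ⟨Φ, hΦ, -⟩ := exists_sections_embedding e 1
  haveI := ProjTwist.Pn.subsingleton_H0 (R := K) (d := -1) hm (by norm_num)
  exact hΦ (Subsingleton.elim _ _)

/-- Enough maps from `O(-1)` are linearly dependent. -/
theorem exists_relation (e : BrSev.Splitting f K m) {ι : Type} [Fintype ι] {n : ℕ}
    (g : ι → Fin n → (e.twist (-1) ⟶ Coh.structureModule (BrSev.bc f K)))
    (hcard : n * (m + 1) < Fintype.card ι) :
    ∃ a : ι → K, a ≠ 0 ∧
      ∀ s, ∑ i, g i s ≫ KSMod.scal _ (Coh.toGlobal (BrSev.bcTo f K) (a i)) = 0 := by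
  classical
  obtain ⟨Φ, hΦ, hΦs⟩ := exists_sections_embedding e (-1)
  let H := Coh.HH (CohB1.ProjSpace m K) (Twist.twistProjSpace m K (-(-1))) 0
  let E : MvPolynomial.homogeneousSubmodule (Fin (m + 1)) K 1 ≃ₗ[K] H :=
    h0Equiv m K 1
  have hX : ∀ i : Fin (m + 1), MvPolynomial.X i ∈ MvPolynomial.homogeneousSubmodule (Fin (m + 1)) K 1 :=
    fun i => (MvPolynomial.mem_homogeneousSubmodule 1 _).mpr (MvPolynomial.isHomogeneous_X K i)
  haveI : Module.Finite K H := by
    haveI : Module.Finite K (MvPolynomial.homogeneousSubmodule (Fin (m + 1)) K 1) := by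
      rw [MvPolynomial.homogeneousSubmodule_one_eq_span_X]
      exact Module.Finite.span_of_finite K (Set.finite_range _)
    exact Module.Finite.equiv E
  have hdim : Module.finrank K H ≤ m + 1 := by
    rw [← E.finrank_eq, MvPolynomial.homogeneousSubmodule_one_eq_span_X]
    exact (finrank_range_le_card _).trans (Fintype.card_fin _).le
  have hdep : ¬ LinearIndependent K (fun i s => Φ (g i s) : ι → Fin n → H) := fun h => by
    have h1 := h.fintype_card_le_finrank
    rw [Module.finrank_pi_fintype] at h1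
    simp only [Finset.sum_const, Finset.card_univ, Fintype.card_fin, smul_eq_mul] at h1
    exact absurd (h1.trans (Nat.mul_le_mul_left n hdim)) (not_le.mpr hcard)
  obtain ⟨a, ha, i, hi⟩ := Fintype.not_linearIndependent_iff.mp hdep
  refine ⟨a, fun h => hi (congrFun h i), fun s => hΦ ?_⟩
  rw [map_sum, map_zero]
  simpa [hΦs] using congrFun ha s

end Groth.Agent.SBTaut
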