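import Groth.Agent.SBTaut.Dual
import Groth.Agent.SBTaut.TwistHom
import Groth.Agent.SBTaut.EndMat
import Groth.Agent.SBTaut.GenType
import Groth.Agent.CSA.Modules

/-!
# Rigidity of Severi–Brauer structures
-/

set_option autoImplicit false
universe u

open CategoryTheory CategoryTheory.Limits AlgebraicGeometry Opposite TopologicalSpace
open Groth.Agent.QCoh Groth.Agent.PullStalk.Sky
open scoped TensorProduct

noncomputable section

namespace Groth.Agent.SBTaut

variable {k : Type u} [Field k] {A : Type u} [Ring A] [Algebra k A] {c N : ℕ} {X : Scheme.{u}}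
  {f : X ⟶ Spec (CommRingCat.of k)}

/-- A relation after extending the field gives one over the field. -/
theorem exists_relation_descend {K : Type u} [Field K] [Algebra k K] [QuasiCompact f] (M : X.Modules)
    [M.IsQuasicoherent] {ι : Type} [Fintype ι] (φ : ι → (M ⟶ Coh.structureModule X)) (a : ι → K)
    (ha : a ≠ 0)
    (h : ∑ i, (Scheme.Modules.pullback (BrSev.proj f K)).map (φ i) ≫
      KSMod.scal _ (Coh.toGlobal (BrSev.bcTo f K) (a i)) = 0) :
    ∃ a' : ι → k, a' ≠ 0 ∧ ∑ i, φ i ≫ KSMod.scal _ (Coh.toGlobal f (a' i)) = 0 := by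
  classical
  letI := KSMod.baseAlg (Spec.map (CommRingCat.ofHom (algebraMap k K)))
  letI : Field Γ(Spec (CommRingCat.of k), ⊤) := (KSMod.isField_Γ k).toField
  haveI := ProjTwist.isQuasicoherent_structureModule X
  obtain ⟨i₀, hi₀⟩ : ∃ i, a i ≠ 0 := by simpa [funext_iff] using ha
  let c : ι → Γ(Spec (CommRingCat.of K), ⊤) := fun i => (Scheme.ΓSpecIso (CommRingCat.of K)).inv (a i)
  have hc0 : c i₀ ≠ 0 := fun h0 => hi₀ (by
    have h2 := congrArg (Scheme.ΓSpecIso (CommRingCat.of K)).hom h0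
    rwa [Iso.inv_hom_id_apply, map_zero] at h2)
  obtain ⟨l, hl⟩ := LinearMap.exists_leftInverse_of_injective
    (LinearMap.toSpanSingleton Γ(Spec (CommRingCat.of k), ⊤) _ (c i₀))
    (LinearMap.ker_eq_bot.mpr (smul_left_injective _ hc0))
  have hl1 : l (c i₀) = 1 := by simpa using LinearMap.congr_fun hl 1
  have h2 := KSMod.coeff_eq_zero (KSMod.sq f K) M (Coh.structureModule X) Finset.univ c φ h l
  refine ⟨fun i => (Scheme.ΓSpecIso (CommRingCat.of k)).hom (l (c i)), fun h0 => ?_, ?_⟩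
  · have := congrFun h0 i₀
    simp [hl1] at this
  · refine Eq.trans (Finset.sum_congr rfl fun i _ => ?_) h2
    refine congrArg (fun r => φ i ≫ KSMod.scal _ r) ?_
    exact congrArg f.appTop (Iso.hom_inv_id_apply (Scheme.ΓSpecIso (CommRingCat.of k)) (l (c i)))

theorem fnl_sum_single (σ : BrSev.SBStr k A c f) (b : Module.Basis (Fin N) k A) (a : Fin N → k) :
    ∑ j, fnl σ b (Pi.single j 1) ≫ KSMod.scal _ (Coh.toGlobal f (a j)) = fnl σ b a := by
  classical
  refine Scheme.Modules.hom_ext _ _ fun V => ConcreteCategory.hom_ext _ _ fun t => ?_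
  rw [KSMod.sum_app, fnl_app]
  refine Finset.sum_congr rfl fun j _ => ?_
  change (KSMod.scal _ _).app V ((fnl σ b (Pi.single j 1)).app V t) = _
  rw [KSMod.scal_app, fnl_app, Finset.sum_eq_single j (fun l _ hl => by simp [hl])
    (fun h => absurd (Finset.mem_univ j) h), Pi.single_eq_same, map_one, one_mul]
  rfl

theorem neg_eq_of {R : Type*} [CommRing R] {x y z w : R} (h3 : x * y = 1) (h : x * w + z = 0) :
    w = -(y * z) := by
  linear_combination (-w) * h3 + y * h

/-- A split epimorphism is surjective on sections. -/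
theorem surjective_app_of_section {Y : Scheme.{u}} {M N : Y.Modules} (p : M ⟶ N) (s : N ⟶ M)
    (h : s ≫ p = 𝟙 N) (V : Y.Opens) : Function.Surjective (p.app V) := fun t =>
  ⟨s.app V t, congrArg (fun g : N ⟶ N => g.app V t) h⟩

/-- Two isomorphisms from a central simple algebra differ by an inner automorphism. -/
theorem exists_conj {k A B : Type u} [Field k] [Ring A] [Algebra k A] [Algebra.IsCentral k A]
    [IsSimpleRing A] [FiniteDimensional k A] [Ring B] [Algebra k B] (Φ χ : A →ₐ[k] B)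
    (hΦ : Function.Bijective Φ) :
    ∃ u : Aˣ, ∀ a, χ a = Φ ((u : A) * a * (u⁻¹ : Aˣ)) := by
  obtain ⟨u, hu⟩ := CSA.skolemNoether ((AlgEquiv.ofBijective Φ hΦ).symm.toAlgHom.comp χ) (AlgHom.id k A)
  exact ⟨u, fun a => ((AlgEquiv.ofBijective Φ hΦ).apply_symm_apply (χ a)).symm.trans
    (congrArg Φ (hu a))⟩

variable [IsProper f]

/-- The tautological bundle is a sum of copies of `O(-1)`. -/
theorem exists_dec_neg [Algebra.IsCentral k A] [IsSimpleRing A] {K : Type u} [Field K] [Algebra k K]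
    [IsAlgClosure k K] (σ : BrSev.SBStr k A c f) (b : Module.Basis (Fin N) k A) {n : ℕ}
    (hn : 0 < n) (hA : Module.finrank k A = n * n) (hc : c + n = n * n) (hN : N = n * n)
    (e : BrSev.Splitting f K (n - 1)) :
    Nonempty (KSMod.Dec (BrSev.bcMod f K (taut σ b)) (fun _ : Fin n => e.twist (-1))) := by
  obtain ⟨m, hm, ⟨d⟩⟩ := exists_type σ b hn hA hc hN e
  rcases Nat.lt_or_ge n 2 with hlt | hge
  · obtain rfl : n = 1 := by omega
    exact ⟨d.congr (Iso.refl _) fun _ => (nonempty_twist_iso_zero e m (-1)).some⟩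
  rcases hm with rfl | rfl
  swap
  · exact ⟨d⟩
  exfalso
  haveI := KSMod.connectedSpace_of_splitting e
  let s := d.inj ⟨0, hn⟩
  have h1 : s ≫ pIncl (BrSev.proj f K) σ b = 0 := biproduct.hom_ext _ _ fun j => by
    rw [zero_comp]
    exact eq_zero_of_twist_one e (by omega) _
  have h2 : s = 0 := by
    refine Scheme.Modules.hom_ext _ _ fun V => ?_
    ext t
    refine pCoo_injective (BrSev.proj f K) σ b V ?_
    change coo ((pIncl _ σ b).app V (s.app V t)) = pCoo (BrSev.proj f K) σ b V 0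
    rw [map_zero, show (pIncl (BrSev.proj f K) σ b).app V (s.app V t) = 0 from
      congrArg (fun g : e.twist 1 ⟶ FF _ N => g.app V t) h1]
    exact map_zero (cooLin V)
  refine (KSMod.indec_of_isInvertible (KSMod.isInvertible_twist e (1 : ℤ))).1 ?_
  rw [IsZero.iff_id_eq_zero, ← d.inj_proj ⟨0, hn⟩]
  exact (congrArg (· ≫ d.proj ⟨0, hn⟩) h2).trans zero_comp

/-- An isomorphism of tautological bundles can be made equivariant. -/
theorem exists_equivariant [Algebra.IsCentral k A] [IsSimpleRing A] [FiniteDimensional k A]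
    (σ σ' : BrSev.SBStr k A c f) (b : Module.Basis (Fin N) k A) (ψ : taut σ b ≅ taut σ' b)
    (hbij : letI := endK f (taut σ b); Function.Bijective (actAlg σ b)) :
    ∃ ψ' : taut σ b ⟶ taut σ' b, (∀ a, act σ b a ≫ ψ' = ψ' ≫ act σ' b a) ∧
      ∀ V : X.Opens, Function.Surjective (ψ'.app V) := by
  letI := endK f (taut σ b)
  let χ : A →ₐ[k] End (taut σ b) :=
    { toFun := fun a => End.of (ψ.hom ≫ act σ' b a ≫ ψ.inv)
      map_one' := by
        change ψ.hom ≫ actR σ' b 1 ≫ ψ.inv = 𝟙 _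
        rw [map_one]
        exact (congrArg (ψ.hom ≫ ·) (Category.id_comp ψ.inv)).trans ψ.hom_inv_id
      map_mul' := fun a a' => by
        change ψ.hom ≫ actR σ' b (a * a') ≫ ψ.inv =
          (ψ.hom ≫ act σ' b a' ≫ ψ.inv) ≫ (ψ.hom ≫ act σ' b a ≫ ψ.inv)
        rw [map_mul]
        simp only [Category.assoc, Iso.inv_hom_id_assoc]
        exact congrArg (ψ.hom ≫ ·) (Category.assoc _ _ _)
      map_zero' := by
        change ψ.hom ≫ actR σ' b 0 ≫ ψ.inv = 0
        rw [map_zero]
        exact (congrArg (ψ.hom ≫ ·) zero_comp).trans comp_zero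
      map_add' := fun a a' => by
        change ψ.hom ≫ actR σ' b (a + a') ≫ ψ.inv = _
        rw [map_add]
        exact (congrArg (ψ.hom ≫ ·) (Preadditive.add_comp _ _ _ _ _ _)).trans
          (Preadditive.comp_add _ _ _ _ _ _)
      commutes' := fun r => by
        change ψ.hom ≫ act σ' b (algebraMap k A r) ≫ ψ.inv = KSMod.scal (taut σ b) (KSMod.kTop k f r)
        rw [act_algebraMap, ← Category.assoc, ← KSMod.scal_nat, Category.assoc, Iso.hom_inv_id,
          Category.comp_id]
        rfl }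
  obtain ⟨u, hu⟩ := @exists_conj k A (End (taut σ b)) _ _ _ _ _ _ _ _ (actAlg σ b) χ hbij
  have hχ : ∀ a, ψ.hom ≫ act σ' b a ≫ ψ.inv = act σ b ((u : A) * a * (u⁻¹ : Aˣ)) := fun a => hu a
  let ψ' : taut σ b ⟶ taut σ' b := act σ b (u : A) ≫ ψ.hom
  have hmul : ∀ x y : A, act σ b x ≫ act σ b y = act σ b (y * x) := fun x y =>
    (map_mul (actR σ b) y x).symm
  have hψ'0 : ∀ a, act σ b a ≫ ψ' = ψ' ≫ act σ' b a := fun a => by
    have h1 : ψ.hom ≫ act σ' b a = act σ b ((u : A) * a * (u⁻¹ : Aˣ)) ≫ ψ.hom := by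
      rw [← hχ a, Category.assoc, Category.assoc, Iso.inv_hom_id, Category.comp_id]
    simp only [ψ', Category.assoc]
    rw [h1, ← Category.assoc (act σ b (u : A)), hmul (u : A), mul_assoc _ ((u⁻¹ : Aˣ) : A), Units.inv_mul,
      mul_one, ← Category.assoc, hmul]
  have h1 : act σ b ((u⁻¹ : Aˣ) : A) ≫ act σ b (u : A) = 𝟙 _ := by
    rw [hmul, Units.mul_inv]
    exact map_one (actR σ b)
  have hsurj : ∀ V : X.Opens, Function.Surjective (ψ'.app V) :=
    surjective_app_of_section ψ' (ψ.inv ≫ act σ b ((u⁻¹ : Aˣ) : A)) (by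
      simp only [ψ', Category.assoc]
      rw [reassoc_of% h1, Iso.inv_hom_id])
  exact ⟨ψ', hψ'0, hsurj⟩

/-- Every functional on the tautological bundle has constant coefficients. -/
theorem exists_eq_fnl [IsSimpleRing A] [FiniteDimensional k A] [Nonempty X] {K : Type u} [Field K]
    [Algebra k K] (σ : BrSev.SBStr k A c f) (b : Module.Basis (Fin N) k A) {n : ℕ} (hn : 0 < n)
    (hc : c + n = N) (hN : N = n * n) (e : BrSev.Splitting f K (n - 1))
    (d : KSMod.Dec (BrSev.bcMod f K (taut σ b)) (fun _ : Fin n => e.twist (-1)))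
    (φ : taut σ b ⟶ Coh.structureModule X) : ∃ τ, φ = fnl σ b τ := by
  classical
  let fam : Option (Fin N) → (taut σ b ⟶ Coh.structureModule X) := fun o =>
    o.elim φ fun j => fnl σ b (Pi.single j 1)
  obtain ⟨e0⟩ := KSMod.exists_iso_bc_one f K
  obtain ⟨a, ha, hrel⟩ := exists_relation e (ι := Option (Fin N)) (n := n)
    (fun o s => d.inj s ≫ (Scheme.Modules.pullback (BrSev.proj f K)).map (fam o) ≫ e0.hom)
    (by rw [Fintype.card_option, Fintype.card_fin, Nat.sub_add_cancel hn, hN]; omega)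
  have hbc : ∑ o, (Scheme.Modules.pullback (BrSev.proj f K)).map (fam o) ≫
      KSMod.scal _ (Coh.toGlobal (BrSev.bcTo f K) (a o)) = 0 := by
    refine (cancel_mono e0.hom).1 ?_
    rw [zero_comp, ← Category.id_comp ((∑ o, _) ≫ e0.hom), ← d.total, Preadditive.sum_comp]
    refine Finset.sum_eq_zero fun s _ => ?_
    rw [Category.assoc, Preadditive.sum_comp, Preadditive.comp_sum, Finset.sum_congr rfl fun o _ => ?_,
      hrel s, comp_zero]
    simp only [Category.assoc, KSMod.scal_nat]
  obtain ⟨a', ha', hsum⟩ := exists_relation_descend (taut σ b) fam a ha hbc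
  rw [Fintype.sum_option] at hsum
  simp only [fam, Option.elim] at hsum
  rw [fnl_sum_single σ b fun j => a' (some j)] at hsum
  have h0 : a' none ≠ 0 := fun h0 => ha' (funext fun o => by
    rcases o with _ | j
    · exact h0
    · have hz : φ ≫ KSMod.scal _ (Coh.toGlobal f (a' none)) = 0 :=
        (congrArg (φ ≫ ·) ((congrArg (KSMod.scal _) ((congrArg _ h0).trans (map_zero _))).trans
          (KSMod.scal_zero _))).trans comp_zero
      exact congrFun (eq_zero_of_fnl σ b hn hc ((zero_add _).symm.trans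
        ((congrArg (· + _) hz.symm).trans hsum))) j)
  refine ⟨fun j => -(a' none)⁻¹ * a' (some j),
    Scheme.Modules.hom_ext _ _ fun V => ConcreteCategory.hom_ext _ _ fun t => ?_⟩
  have h := congrArg (fun g : taut σ b ⟶ Coh.structureModule X => g.app V t) hsum
  change algHom f V (a' none) * (show Γ(X, V) from φ.app V t) +
    (show Γ(X, V) from (fnl σ b fun j => a' (some j)).app V t) = 0 at h
  rw [fnl_app] at h ⊢
  have h3 : algHom f V (a' none) * algHom f V (a' none)⁻¹ = 1 := by
    rw [← map_mul, mul_inv_cancel₀ h0, map_one]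
  simp only [map_mul, map_neg, neg_mul, mul_assoc, Finset.sum_neg_distrib, ← Finset.mul_sum]
  exact @neg_eq_of Γ(X, V) _ (algHom f V (a' none)) _ _ _ h3 h

/-- Two structures differ by a right multiplication. -/
theorem exists_rmat [Algebra.IsCentral k A] [IsSimpleRing A] (σ σ' : BrSev.SBStr k A c f)
    (b : Module.Basis (Fin N) k A) {n : ℕ} (hn : 0 < n) (hA : Module.finrank k A = n * n)
    (hc : c = n * n - n) (hN : N = n * n) :
    ∃ a : A, ∀ (V : X.Opens) (hV : IsAffineOpen V),
      N0 σ' b hV = (N0 σ b hV).map ((rmat b a).map (algHom f V)).mulVecLin := by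
  classical
  subst hc
  subst hN
  haveI : FiniteDimensional k A := Module.finite_of_finrank_pos (by rw [hA]; exact Nat.mul_pos hn hn)
  have hA' := CSA.IsCSA.of k A
  let Kb := AlgebraicClosure k
  obtain ⟨e⟩ := nonempty_splitting_of_splits hn hA ⟨σ⟩ Kb (by
    haveI := (hA'.baseChange Kb).simple
    obtain ⟨n', hn', h⟩ := IsSimpleRing.exists_algEquiv_matrix_of_isAlgClosed Kb (Kb ⊗[k] A)
    exact ⟨n', hn'.out, h⟩)
  haveI := KSMod.connectedSpace_of_splitting e
  haveI : Nonempty X := (inferInstance : Nonempty ↥(BrSev.bc f Kb)).map (BrSev.proj f Kb)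
  have hc : n * n - n + n = n * n := Nat.sub_add_cancel (Nat.le_mul_self n)
  obtain ⟨d⟩ := exists_dec_neg (K := Kb) σ b hn hA hc rfl e
  obtain ⟨d'⟩ := exists_dec_neg (K := Kb) σ' b hn hA hc rfl e
  have hT := isFinLocFree_taut σ b
  have hT' := isFinLocFree_taut σ' b
  obtain ⟨ψ⟩ := KSMod.nonempty_iso f Kb (taut σ b) (taut σ' b) (VBLib.isCoh_of_isFinLocFree hT)
    (VBLib.isCoh_of_isFinLocFree hT') (d.powIso ≪≫ d'.powIso.symm)
  letI := endK f (taut σ b)
  have hL := KSMod.isInvertible_twist e (-1 : ℤ)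
  have hdim : Module.finrank k (End (taut σ b)) = n * n :=
    (finrank_endK f (taut σ b)).trans (KSMod.finrank_end_of_dec f Kb
      (KSMod.surjective_appTop_of_splitting e) (VBLib.isCoh_of_isFinLocFree hT) hL
      (KSMod.indec_of_isInvertible hL).1 d)
  haveI : Module.Finite k (End (taut σ b)) :=
    Module.finite_of_finrank_pos (by rw [hdim]; exact Nat.mul_pos hn hn)
  haveI : Nontrivial (End (taut σ b)) :=
    Module.nontrivial_of_finrank_pos (R := k) (by rw [hdim]; exact Nat.mul_pos hn hn)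
  have hinj : Function.Injective (actAlg σ b) := (actAlg σ b).toRingHom.injective
  have hbij : Function.Bijective (actAlg σ b) := by
    refine ⟨hinj, ?_⟩
    have H := @LinearMap.injective_iff_surjective_of_finrank_eq_finrank k A _ _ _ (End (taut σ b)) _ _
    exact (H (hA.trans hdim.symm) (f := (actAlg σ b).toLinearMap)).mp hinj
  obtain ⟨ψ', hψ', hsurj⟩ := exists_equivariant σ σ' b ψ hbij
  choose τ hτ using fun i => exists_eq_fnl σ b hn hc rfl e d
    (ψ' ≫ tIncl σ' b ≫ biproduct.π (fun _ : Fin (n * n) => Coh.structureModule X) i)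
  let M : Matrix (Fin (n * n)) (Fin (n * n)) k := τ
  have hψM : ∀ (V : X.Opens) (t : Γ(taut σ b, V)),
      tCoo σ' b V (ψ'.app V t) = (M.map (algHom f V)).mulVec (tCoo σ b V t) := fun V t => funext fun i => by
    have h := congrArg (fun g : taut σ b ⟶ Coh.structureModule X => g.app V t) (hτ i)
    refine h.trans ?_
    rw [fnl_app]
    rfl
  have hcomm : ∀ a, M * lmat b a = lmat b a * M := fun a => by
    rw [← sub_eq_zero]
    refine eq_zero_of_kills σ b hn hc fun V hV v hv => ?_
    rw [← range_tCoo σ b hV] at hv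
    obtain ⟨t, rfl⟩ := hv
    rw [Matrix.map_sub _ (map_sub _), Matrix.sub_mulVec, Matrix.map_mul, Matrix.map_mul,
      ← Matrix.mulVec_mulVec, ← Matrix.mulVec_mulVec, sub_eq_zero, ← tCoo_act, ← hψM, ← hψM,
      ← tCoo_act]
    exact congrArg (fun g : taut σ b ⟶ taut σ' b => tCoo σ' b V (g.app V t)) (hψ' a)
  obtain ⟨a, ha⟩ := eq_rmat b hcomm
  refine ⟨a, fun V hV => ?_⟩
  rw [← ha, ← range_tCoo σ' b hV, ← range_tCoo σ b hV]
  refine le_antisymm ?_ ?_
  · rintro _ ⟨t', rfl⟩
    obtain ⟨t, rfl⟩ := hsurj V t'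
    exact ⟨_, ⟨t, rfl⟩, (hψM V t).symm⟩
  · rintro _ ⟨_, ⟨t, rfl⟩, rfl⟩
    exact ⟨_, hψM V t⟩

/-- A right multiplication fixing all ideals is a nonzero scalar. -/
theorem eq_algebraMap_of_fix [Algebra.IsCentral k A] [IsSimpleRing A] (σ : BrSev.SBStr k A c f)
    (b : Module.Basis (Fin N) k A) {n : ℕ} (hn : 0 < n) (hA : Module.finrank k A = n * n)
    (hc : c = n * n - n) (hN : N = n * n) {a : A}
    (h : ∀ (V : X.Opens) (hV : IsAffineOpen V),
      N0 σ b hV = (N0 σ b hV).map ((rmat b a).map (algHom f V)).mulVecLin) :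
    ∃ r : k, r ≠ 0 ∧ a = algebraMap k A r := by
  classical
  subst hc
  subst hN
  haveI : FiniteDimensional k A := Module.finite_of_finrank_pos (by rw [hA]; exact Nat.mul_pos hn hn)
  have hA' := CSA.IsCSA.of k A
  let Kb := AlgebraicClosure k
  obtain ⟨e⟩ := nonempty_splitting_of_splits hn hA ⟨σ⟩ Kb (by
    haveI := (hA'.baseChange Kb).simple
    obtain ⟨n', hn', h⟩ := IsSimpleRing.exists_algEquiv_matrix_of_isAlgClosed Kb (Kb ⊗[k] A)
    exact ⟨n', hn'.out, h⟩)
  haveI := KSMod.connectedSpace_of_splitting e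
  haveI : Nonempty X := (inferInstance : Nonempty ↥(BrSev.bc f Kb)).map (BrSev.proj f Kb)
  have hc : n * n - n + n = n * n := Nat.sub_add_cancel (Nat.le_mul_self n)
  obtain ⟨d⟩ := exists_dec_neg (K := Kb) σ b hn hA hc rfl e
  letI := endK f (taut σ b)
  have hL := KSMod.isInvertible_twist e (-1 : ℤ)
  have hdim : Module.finrank k (End (taut σ b)) = n * n :=
    (finrank_endK f (taut σ b)).trans (KSMod.finrank_end_of_dec f Kb
      (KSMod.surjective_appTop_of_splitting e) (VBLib.isCoh_of_isFinLocFree (isFinLocFree_taut σ b)) hL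
      (KSMod.indec_of_isInvertible hL).1 d)
  haveI : Module.Finite k (End (taut σ b)) :=
    Module.finite_of_finrank_pos (by rw [hdim]; exact Nat.mul_pos hn hn)
  haveI : Nontrivial (End (taut σ b)) :=
    Module.nontrivial_of_finrank_pos (R := k) (by rw [hdim]; exact Nat.mul_pos hn hn)
  have hinj : Function.Injective (actAlg σ b) := (actAlg σ b).toRingHom.injective
  have hsur : Function.Surjective (actAlg σ b) := by
    have H := @LinearMap.injective_iff_surjective_of_finrank_eq_finrank k A _ _ _ (End (taut σ b)) _ _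
    exact (H (hA.trans hdim.symm) (f := (actAlg σ b).toLinearMap)).mp hinj
  obtain ⟨g, hg⟩ := exists_lift σ σ b (rmat b a) fun V hV => (h V hV).symm.le
  obtain ⟨y, hy⟩ := hsur g
  have hyg : act σ b y = g := hy
  have hco : ∀ (V : X.Opens) (t : Γ(taut σ b, V)),
      ((lmat b y).map (algHom f V)).mulVec (tCoo σ b V t) =
        ((rmat b a).map (algHom f V)).mulVec (tCoo σ b V t) := fun V t => by
    rw [← tCoo_act, hyg, tCoo_of_lift σ σ b hg]
  have hcen : y ∈ Subalgebra.center k A := Subalgebra.mem_center_iff.mpr fun z => hinj (by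
    change act σ b (z * y) = act σ b (y * z)
    refine hom_ext_tCoo σ b fun V t => ?_
    rw [tCoo_act, tCoo_act]
    simp only [lmat, map_mul, Matrix.map_mul]
    rw [← Matrix.mulVec_mulVec, ← Matrix.mulVec_mulVec]
    change ((lmat b z).map _).mulVec (((lmat b y).map _).mulVec _) =
      ((lmat b y).map _).mulVec (((lmat b z).map _).mulVec _)
    rw [hco, ← tCoo_act σ b z V t, hco, tCoo_act, Matrix.mulVec_mulVec, Matrix.mulVec_mulVec,
      ← Matrix.map_mul, ← Matrix.map_mul, rmat_commute])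
  rw [Algebra.IsCentral.center_eq_bot, Algebra.mem_bot] at hcen
  obtain ⟨r, rfl⟩ := hcen
  have hM : rmat b a = rmat b (algebraMap k A r) := by
    rw [← sub_eq_zero]
    refine eq_zero_of_kills σ b hn hc fun V hV v hv => ?_
    rw [← range_tCoo σ b hV] at hv
    obtain ⟨t, rfl⟩ := hv
    rw [Matrix.map_sub _ (map_sub _), Matrix.sub_mulVec, ← hco, sub_eq_zero]
    congr 2
    rw [rmat_algebraMap, lmat, AlgHom.commutes, Algebra.algebraMap_eq_smul_one]
  have ha : a = algebraMap k A r := by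
    have h1 := (LinearMap.toMatrix b b).injective hM
    simpa using LinearMap.congr_fun h1 1
  refine ⟨r, fun hr => ?_, ha⟩
  obtain ⟨V, hV, v, hv, hv0⟩ := exists_nontrivial_ideal σ b hn hc
  rw [h V hV, ha, hr] at hv
  obtain ⟨w, -, rfl⟩ := hv
  refine hv0 ?_
  simp [rmat, Matrix.map_zero _ (map_zero (algHom f V))]

/-- Two structures differ by a unit. -/
theorem exists_unit [Algebra.IsCentral k A] [IsSimpleRing A] (σ σ' : BrSev.SBStr k A c f)
    (b : Module.Basis (Fin N) k A) {n : ℕ} (hn : 0 < n) (hA : Module.finrank k A = n * n)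
    (hc : c = n * n - n) (hN : N = n * n) :
    ∃ u : Aˣ, ∀ (V : X.Opens) (hV : IsAffineOpen V),
      N0 σ' b hV = (N0 σ b hV).map ((rmat b (u : A)).map (algHom f V)).mulVecLin := by
  obtain ⟨a, ha⟩ := exists_rmat σ σ' b hn hA hc hN
  obtain ⟨a', ha'⟩ := exists_rmat σ' σ b hn hA hc hN
  obtain ⟨r, hr, h1⟩ := eq_algebraMap_of_fix σ b hn hA hc hN (a := a * a') fun V hV => by
    rw [rmat_mul, Matrix.map_mul, Matrix.mulVecLin_mul, Submodule.map_comp, ← ha V hV, ← ha' V hV]
  obtain ⟨r', hr', h2⟩ := eq_algebraMap_of_fix σ' b hn hA hc hN (a := a' * a) fun V hV => by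
    rw [rmat_mul, Matrix.map_mul, Matrix.mulVecLin_mul, Submodule.map_comp, ← ha' V hV, ← ha V hV]
  have hu : IsUnit a := isUnit_iff_exists_and_exists.mpr
    ⟨⟨a' * algebraMap k A r⁻¹, by rw [← mul_assoc, h1, ← map_mul, mul_inv_cancel₀ hr, map_one]⟩,
      ⟨algebraMap k A r'⁻¹ * a', by rw [mul_assoc, h2, ← map_mul, inv_mul_cancel₀ hr', map_one]⟩⟩
  exact ⟨hu.unit, ha⟩

end Groth.Agent.SBTaut
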