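import Groth.Agent.SBTaut.Index
import Mathlib.Logic.Equiv.Sum

/-!
# Decompositions on Severi–Brauer schemes of index two
-/

set_option autoImplicit false
universe u v w

open CategoryTheory CategoryTheory.Limits AlgebraicGeometry W4c1astiltbs12
open Groth.Agent.CSA
open scoped Classical

noncomputable section

namespace Groth.Agent.SBTaut

/-- A coproduct over a sum type. -/
def sigmaSum {C : Type w} [Category.{v} C] [Preadditive C] [HasBinaryBiproducts C] {ι κ : Type}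
    (F : ι ⊕ κ → C) [HasCoproduct F] [HasCoproduct fun a => F (Sum.inl a)]
    [HasCoproduct fun a => F (Sum.inr a)] :
    (∐ F) ≅ (∐ fun a => F (Sum.inl a)) ⊞ (∐ fun a => F (Sum.inr a)) where
  hom := Sigma.desc fun x => match x with
    | Sum.inl a => Sigma.ι (fun a => F (Sum.inl a)) a ≫ biprod.inl
    | Sum.inr a => Sigma.ι (fun a => F (Sum.inr a)) a ≫ biprod.inr
  inv := biprod.desc (Sigma.desc fun a => Sigma.ι F (Sum.inl a)) (Sigma.desc fun a => Sigma.ι F (Sum.inr a))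
  hom_inv_id := Sigma.hom_ext _ _ fun x => by cases x <;> simp
  inv_hom_id := by
    refine biprod.hom_ext' _ _ ?_ ?_ <;> refine Sigma.hom_ext _ _ fun a => ?_ <;> simp

variable {k : Type u} [Field k] {A : Type u} [Ring A] [Algebra k A] [Algebra.IsCentral k A]
  [IsSimpleRing A] {X : Scheme.{u}} {f : X ⟶ Spec (CommRingCat.of k)} [IsProper f]
  {K : Type u} [Field K] [Algebra k K] [IsAlgClosure k K]

/-- Absolutely split modules in index two. -/
theorem decomp {n : ℕ} (hn : 0 < n) (hA : Module.finrank k A = n * n)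
    (hX : BrSev.IsSBOf k A (n * n - n) f) (e : BrSev.Splitting f K (n - 1)) (hi : ind k A = 2)
    {E : X.Modules} (hE : FlatMod.IsFinLocFree E) {s₀ : ℕ} {Ns : Fin s₀ → (BrSev.bc f K).Modules}
    (hNs : ∀ i, PicF.IsInvertible (Ns i)) (hsplit : Nonempty (BrSev.bcMod f K E ≅ ∐ Ns)) :
    ∃ (s t : ℕ) (Ls : Fin s → X.Modules) (Ms : Fin t → X.Modules) (a : Fin s → ℤ) (b : Fin t → ℤ),
      (∀ i, PicF.IsInvertible (Ls i) ∧ BrSev.IsTwPow e (2 * a i) 1 (Ls i)) ∧
      (∀ i, FlatMod.IsFinLocFree (Ms i) ∧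
        (¬ IsZero (Ms i) ∧ ∀ M₁ M₂ : X.Modules, Nonempty ((Ms i) ≅ M₁ ⊞ M₂) → IsZero M₁ ∨ IsZero M₂) ∧
        BrSev.IsTwPow e (2 * b i + 1) 2 (Ms i)) ∧
      Nonempty (E ≅ (∐ Ls) ⊞ (∐ Ms)) := by
  have hA' := isCSA_of_finrank hn hA
  have h2 : BrEq k (CSAGal.tpow k A 2) k := hi ▸ brEq_tpow_ind hA'
  have hodd : ∀ j : ℤ, ind k (CSAGal.tpow k A j.natAbs) = if Even j then 1 else 2 := fun j => by
    have := brEq_tpow_mod h2 j.natAbs
    rw [this.ind_eq (hA'.tpow _) (hA'.tpow _)]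
    split_ifs with h
    · rw [Nat.even_iff.1 (Int.natAbs_even.2 h)]
      exact (ind_eq_one_iff (hA'.tpow 0)).2 brEq_tpow_zero
    · rw [Nat.not_even_iff.1 (fun h' => h (Int.natAbs_even.1 h')),
        brEq_tpow_one.ind_eq (hA'.tpow 1) hA', hi]
  obtain ⟨t, Ms, js, rs, hM, ⟨φ⟩⟩ := KSMod.exists_split_twPow e hE hNs hsplit
  have hr : ∀ i, rs i = if Even (js i) then 1 else 2 := fun i =>
    (eq_ind hn hA hX e (hM i).1 (hM i).2.1 (hM i).2.2.1 (hM i).2.2.2).trans (hodd _)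
  let eP := Fintype.equivFin {i : Fin t // Even (js i)}
  let eN := Fintype.equivFin {i : Fin t // ¬ Even (js i)}
  let σ : Fin (Fintype.card {i : Fin t // Even (js i)}) ⊕ Fin (Fintype.card {i : Fin t // ¬ Even (js i)})
      ≃ Fin t := (Equiv.sumCongr eP.symm eN.symm).trans (Equiv.sumCompl fun i => Even (js i))
  have hev : ∀ a, ∃ z, js (eP.symm a).1 = 2 * z := fun a =>
    let ⟨z, hz⟩ := (eP.symm a).2
    ⟨z, hz.trans (two_mul z).symm⟩
  have hod : ∀ a, ∃ z, js (eN.symm a).1 = 2 * z + 1 := fun a =>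
    Int.not_even_iff_odd.1 (eN.symm a).2
  choose za hza using hev
  choose zb hzb using hod
  refine ⟨_, _, fun a => Ms (σ (Sum.inl a)), fun a => Ms (σ (Sum.inr a)), za, zb, fun a => ?_, fun a => ?_,
    ⟨φ ≪≫ (Sigma.whiskerEquiv σ fun _ => Iso.refl _).symm ≪≫ sigmaSum fun x => Ms (σ x)⟩⟩
  · have h := (hM (eP.symm a).1).2.2.2
    rw [hr, if_pos (eP.symm a).2, hza a] at h
    exact ⟨isInvertible_of_isTwPow_one e (hM _).1 h, h⟩
  · have h := (hM (eN.symm a).1).2.2.2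
    rw [hr, if_neg (eN.symm a).2, hzb a] at h
    exact ⟨(hM _).1, ⟨(hM _).2.1.1, (hM _).2.1.2⟩, h⟩

omit [IsProper f] [IsAlgClosure k K] in
/-- Every bundle on a split conic is a sum of invertible modules. -/
theorem exists_split_conic (e : BrSev.Splitting f K 1) {E : X.Modules} (hE : FlatMod.IsFinLocFree E) :
    ∃ (s₀ : ℕ) (Ns : Fin s₀ → (BrSev.bc f K).Modules), (∀ i, PicF.IsInvertible (Ns i)) ∧
      Nonempty (BrSev.bcMod f K E ≅ ∐ Ns) := by
  haveI := PicPn.isIntegral_line (k := K)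
  let F := (Scheme.Modules.pullback e.iso.inv).obj (BrSev.bcMod f K E)
  have hF : FlatMod.IsFinLocFree F :=
    KFlat.LocFree.isFinLocFree_pull _ (KFlat.LocFree.isFinLocFree_pull _ hE)
  obtain ⟨d, -, ⟨φ⟩⟩ := PicPn.exists_splitting (VBLib.ofRank_rk hF)
  haveI : PreservesColimitsOfSize.{0, 0} (Scheme.Modules.pullback e.iso.hom) :=
    (Scheme.Modules.pullbackPushforwardAdjunction e.iso.hom).leftAdjoint_preservesColimits
  exact ⟨_, fun i => e.twist (d i),
    fun i => PicLoc.isInvertible_pullback e.iso.hom (ProjTwist.isInvertible_twistProjSpace 1 K (d i)),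
    ⟨((Scheme.Modules.pullbackId _).app _).symm ≪≫
      (Scheme.Modules.pullbackCongr e.iso.hom_inv_id.symm).app _ ≪≫
      ((Scheme.Modules.pullbackComp e.iso.hom e.iso.inv).app _).symm ≪≫
      (Scheme.Modules.pullback e.iso.hom).mapIso φ ≪≫
      PreservesCoproduct.iso (Scheme.Modules.pullback e.iso.hom) _⟩⟩

end Groth.Agent.SBTaut
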