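import Groth.Agent.CSA.CharPDegree
import Mathlib.RingTheory.SimpleModule.WedderburnArtin
import Mathlib.Algebra.CharP.Lemmas
import Mathlib.GroupTheory.FiniteAbelian.Basic

/-!
# Unbounded finite subgroups of units modulo scalars in characteristic `p`
-/

set_option autoImplicit false
universe u v w'

open Polynomial

noncomputable section

namespace Groth.Agent.SBTaut

variable {k : Type u} [Field k] {A : Type v} [Ring A] [Algebra k A]

/-- A purely inseparable generator yields large finite subgroups. -/
theorem exists_finite_subgroup [Infinite k] [Nontrivial A] (p : ℕ) [Fact p.Prime] [CharP k p] (w : A)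
    (hw : w ^ p ∈ Set.range (algebraMap k A)) (hwk : w ∉ Set.range (algebraMap k A))
    {Q : Type w'} [Group Q] (ξ : Aˣ →* Q) (hker : ξ.ker = (Units.map (algebraMap k A : k →* A)).range)
    (N : ℕ) : ∃ G : Subgroup Q, Finite G ∧ N < Nat.card G := by
  classical
  have hp : p.Prime := Fact.out
  haveI : CharP A p := charP_of_injective_algebraMap (algebraMap k A).injective p
  obtain ⟨c, hc⟩ := hw
  let bad : Set k := {l | 1 + l ^ p * c = 0}
  have hbad : bad.Subsingleton := fun l hl l' hl' => by
    have hl : 1 + l ^ p * c = 0 := hl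
    have hl' : 1 + l' ^ p * c = 0 := hl'
    have hc0 : c ≠ 0 := fun h => by simp [h] at hl
    exact frobenius_inj k p (mul_right_cancel₀ hc0 (add_left_cancel (hl.trans hl'.symm)))
  have hinf : Set.Infinite badᶜ := hbad.finite.infinite_compl
  obtain ⟨s, hs, hcard⟩ := hinf.exists_subset_card_eq (N + 1)
  have hpow : ∀ l : k, (1 + l • w) ^ p = algebraMap k A (1 + l ^ p * c) := fun l => by
    rw [add_pow_char_of_commute p (Commute.one_left _), one_pow, smul_pow, ← hc, map_add, map_one, map_mul,
      Algebra.smul_def]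
  have hunit : ∀ l : s, IsUnit (1 + (l : k) • w) := fun l => by
    have hl : 1 + (l : k) ^ p * c ≠ 0 := hs l.2
    refine (isUnit_pow_iff hp.ne_zero).mp ?_
    rw [hpow]
    exact hl.isUnit.map (algebraMap k A)
  let u : s → Q := fun l => ξ (hunit l).unit
  have hcomm : ∀ x ∈ Set.range u, ∀ y ∈ Set.range u, x * y = y * x := by
    rintro _ ⟨l, rfl⟩ _ ⟨l', rfl⟩
    simp only [u, ← map_mul]
    refine congrArg ξ (Units.ext ?_)
    simp only [Units.val_mul, IsUnit.unit_spec]
    exact ((Commute.one_left _).add_left ((Commute.one_right _).add_right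
      (((Commute.refl w).smul_right _).smul_left _))).eq
  have hord : ∀ x ∈ Set.range u, x ^ p = 1 := by
    rintro _ ⟨l, rfl⟩
    simp only [u, ← map_pow, ← MonoidHom.mem_ker, hker]
    refine ⟨Units.mk0 _ (hs l.2 : 1 + (l : k) ^ p * c ≠ 0), Units.ext ?_⟩
    rw [Units.val_pow_eq_pow_val, IsUnit.unit_spec, hpow]
    rfl
  let G : Subgroup Q := Subgroup.closure (Set.range u)
  have hG : ∀ x ∈ G, ∀ y ∈ G, x * y = y * x := fun x hx y hy => by
    have := Subgroup.isMulCommutative_closure hcomm
    exact congrArg Subtype.val (this.is_comm.comm ⟨x, hx⟩ ⟨y, hy⟩)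
  letI : CommGroup G := { (inferInstance : Group G) with mul_comm := fun a b => Subtype.ext (hG a a.2 b b.2) }
  have hGp : ∀ x : G, x ^ p = 1 := fun x => Subtype.ext (by
    obtain ⟨x, hx⟩ := x
    change x ^ p = 1
    induction hx using Subgroup.closure_induction with
    | mem z hz => exact hord z hz
    | one => exact one_pow p
    | mul a b ha hb iha ihb => rw [Commute.mul_pow (hG a ha b hb), iha, ihb, one_mul]
    | inv a _ iha => rw [inv_pow, iha, inv_one])
  haveI : Group.FG G := Group.closure_finite_fg _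
  haveI : Finite G := CommGroup.finite_of_fg_torsion G fun x =>
    isOfFinOrder_iff_pow_eq_one.mpr ⟨p, hp.pos, hGp x⟩
  refine ⟨G, inferInstance, ?_⟩
  have hu : Function.Injective u := fun l l' h => by
    obtain ⟨r, hr⟩ : (hunit l').unit⁻¹ * (hunit l).unit ∈ (Units.map (algebraMap k A : k →* A)).range := by
      rw [← hker, MonoidHom.mem_ker, map_mul, map_inv]
      exact inv_mul_eq_one.mpr h.symm
    have h1 : 1 + (l : k) • w = (1 + (l' : k) • w) * algebraMap k A (r : k) := by
      rw [eq_inv_mul_iff_mul_eq] at hr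
      have := congrArg Units.val hr
      simpa using this.symm
    rw [← Algebra.commutes, ← Algebra.smul_def, smul_add, smul_smul] at h1
    by_contra hne
    have hd : (l : k) - r * l' ≠ 0 := fun h0 => by
      rw [sub_eq_zero.mp h0, add_left_inj] at h1
      have hr1 : (r : k) = 1 := by
        refine (algebraMap k A).injective ?_
        rw [map_one, Algebra.algebraMap_eq_smul_one, ← h1]
      rw [hr1, one_mul, sub_eq_zero] at h0
      exact hne (Subtype.ext h0)
    refine hwk ⟨((l : k) - r * l')⁻¹ * ((r : k) - 1), ?_⟩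
    rw [Algebra.algebraMap_eq_smul_one, mul_smul]
    refine (inv_smul_eq_iff₀ hd).mpr ?_
    rw [sub_smul, sub_smul, one_smul]
    rw [eq_comm, sub_eq_sub_iff_add_eq_add, add_comm, h1]
  have hle := Nat.card_le_card_of_injective (fun l : s => (⟨u l, Subgroup.subset_closure ⟨l, rfl⟩⟩ : G))
    fun a b h => hu (congrArg Subtype.val h)
  rw [Nat.card_eq_finsetCard, hcard] at hle
  omega

/-- In degree `p ∈ {2, 3}` there is always a purely inseparable generator. -/
theorem exists_insep (p : ℕ) [Fact p.Prime] [CharP k p] (hp : p = 2 ∨ p = 3)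
    [Algebra.IsCentral k A] [IsSimpleRing A] (hA : Module.finrank k A = p * p) :
    ∃ w : A, w ^ p ∈ Set.range (algebraMap k A) ∧ w ∉ Set.range (algebraMap k A) := by
  classical
  have hp' : p.Prime := Fact.out
  haveI : FiniteDimensional k A := Module.finite_of_finrank_pos (by rw [hA]; exact Nat.mul_pos hp'.pos hp'.pos)
  haveI := IsArtinianRing.of_finite k A
  obtain ⟨n, hn, D, hD, hDalg, ⟨e⟩⟩ := IsSimpleRing.exists_algEquiv_matrix_divisionRing k A
  by_cases h2 : 2 ≤ n
  · refine ⟨e.symm (Matrix.single ⟨0, by omega⟩ ⟨1, by omega⟩ 1), ⟨0, ?_⟩, ?_⟩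
    · have hz : (Matrix.single (⟨0, by omega⟩ : Fin n) (⟨1, by omega⟩ : Fin n) (1 : D)) ^ 2 = 0 := by
        rw [pow_two]; exact Matrix.single_mul_single_of_ne _ _ _ _ (fun h => absurd (congrArg Fin.val h) Nat.one_ne_zero) _
      rw [map_zero, ← map_pow, pow_eq_zero_of_le hp'.two_le hz, map_zero]
    · rintro ⟨r, hr⟩
      have h := congrArg (fun x => e x ⟨0, by omega⟩ ⟨1, by omega⟩) hr
      simp [Matrix.algebraMap_matrix_apply] at h
  · have hn1 : n = 1 := by
      have := NeZero.ne n
      omega
    subst hn1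
    have hunit : ∀ a : A, IsUnit a ∨ a = 0 := fun a => by
      by_cases ha : a = 0
      · exact Or.inr ha
      refine Or.inl ?_
      have h0 : e a 0 0 ≠ 0 := fun h => ha (e.injective (by
        rw [map_zero]
        ext i j
        rw [Subsingleton.elim i 0, Subsingleton.elim j 0]
        exact h))
      let B : Matrix (Fin 1) (Fin 1) D := fun _ _ => (e a 0 0)⁻¹
      have h1 : e a * B = 1 := by
        ext i j
        rw [Subsingleton.elim i 0, Subsingleton.elim j 0]
        simp [B, Matrix.mul_apply, h0]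
      have h2 : B * e a = 1 := by
        ext i j
        rw [Subsingleton.elim i 0, Subsingleton.elim j 0]
        simp [B, Matrix.mul_apply, h0]
      exact ⟨⟨a, e.symm B, e.injective (by simp [h1]), e.injective (by simp [h2])⟩, rfl⟩
    letI : DivisionRing A := DivisionRing.ofIsUnitOrEqZero hunit
    obtain ⟨v, hv⟩ : ∃ v : A, ¬ IsSeparable k v := by
      rcases hp with rfl | rfl
      · exact CSA.exists_not_isSeparable_two (p := 2) rfl (hA.trans (by norm_num))
      · exact CSA.exists_not_isSeparable_three (hA.trans (by norm_num))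
    obtain ⟨hvk, r, hr⟩ := CSA.pow_char_mem_of_not_isSeparable (hA.trans (sq p).symm) hv
    exact ⟨v, ⟨r, hr⟩, fun ⟨r', hr'⟩ => hvk ⟨r', hr'⟩⟩

end Groth.Agent.SBTaut
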