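import Groth.Agent.SBTaut.Rigid

/-!
# The automorphism group of a Severi–Brauer scheme
-/

set_option autoImplicit false
universe u

open CategoryTheory CategoryTheory.Limits AlgebraicGeometry Opposite TopologicalSpace
open scoped TensorProduct

noncomputable section

namespace Groth.Agent.SBTaut

variable {k : Type u} [Field k] {A : Type u} [Ring A] [Algebra k A] {X : Scheme.{u}}
  {f : X ⟶ Spec (CommRingCat.of k)}

theorem map_smul_submodule {R M : Type*} [CommRing R] [AddCommGroup M] [Module R M] {r : R}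
    (hr : IsUnit r) (S : Submodule R M) : S.map (r • LinearMap.id) = S := by
  refine le_antisymm ?_ fun v hv => ⟨(↑hr.unit⁻¹ : R) • v, S.smul_mem _ hv, ?_⟩
  · rintro _ ⟨v, hv, rfl⟩
    exact S.smul_mem r hv
  · simp [smul_smul]

theorem NV_congr {c N : ℕ} (σ : BrSev.SBStr k A c f) (b : Module.Basis (Fin N) k A) {T : Scheme.{u}}
    {ψ ψ' : T ⟶ X} (e : ψ = ψ') {h : T ⟶ Spec (CommRingCat.of k)} (w : ψ ≫ f = h) (w' : ψ' ≫ f = h)
    {V : T.Opens} (hV : IsAffineOpen V) : NV σ b ψ w hV = NV σ b ψ' w' hV := by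
  subst e; rfl

/-- The automorphisms of a Severi–Brauer scheme are the units of the algebra modulo scalars. -/
theorem exists_aut_hom [Algebra.IsCentral k A] [IsSimpleRing A] {n : ℕ} (hn : 0 < n)
    (hA : Module.finrank k A = n * n) (hX : BrSev.IsSBOf k A (n * n - n) f) :
    ∃ ξ : Aˣ →* Aut (Over.mk f), Function.Surjective ξ ∧
      ξ.ker = (Units.map (algebraMap k A : k →* A)).range := by
  obtain ⟨σ⟩ := hX
  haveI : FiniteDimensional k A := Module.finite_of_finrank_pos (by rw [hA]; exact Nat.mul_pos hn hn)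
  obtain ⟨K, _, _, h1, h2, ⟨e⟩⟩ := exists_galois_splitting hn hA ⟨σ⟩
  haveI := isProper_of_splitting e
  let b := Module.finBasisOfFinrankEq k A hA
  refine ⟨trHom b σ, fun g => ?_, ?_⟩
  · let gi : X ≅ X := (Over.forget _).mapIso g
    have w : gi.hom ≫ f = f := Over.w g.hom
    obtain ⟨u, hu⟩ := exists_unit σ (transStr σ gi w) b hn hA rfl rfl
    refine ⟨u⁻¹, Iso.ext (Over.OverMorphism.ext ?_)⟩
    change tr b σ u⁻¹⁻¹ = gi.hom
    rw [inv_inv]
    refine hom_unique b σ (tr_comp_str b σ u) w fun V hV => ?_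
    rw [NV_tr, ← hu V hV]
    refine (NV_transStr b σ gi w (𝟙 X) (Category.id_comp f) hV).trans ?_
    exact NV_congr σ b (Category.id_comp _) _ _ hV
  · ext u
    constructor
    · intro hu
      have h1 : tr b σ u⁻¹ = 𝟙 X :=
        congrArg (fun g : Aut (Over.mk f) => g.hom.left) (MonoidHom.mem_ker.mp hu)
      obtain ⟨r, hr, hur⟩ := eq_algebraMap_of_fix σ b hn hA rfl rfl (a := ((u⁻¹ : Aˣ) : A)) fun V hV => by
        rw [← NV_tr b σ u⁻¹ hV]
        exact NV_congr σ b h1.symm _ _ hV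
      refine ⟨(Units.mk0 r hr)⁻¹, ?_⟩
      have h2 : Units.map (algebraMap k A : k →* A) (Units.mk0 r hr) = u⁻¹ := Units.ext hur.symm
      rw [map_inv, h2, inv_inv]
    · rintro ⟨r, rfl⟩
      refine MonoidHom.mem_ker.mpr (Iso.ext (Over.OverMorphism.ext ?_))
      change tr b σ _ = 𝟙 X
      refine hom_unique b σ (tr_comp_str b σ _) (Category.id_comp f) fun V hV => ?_
      rw [NV_tr]
      have h3 : ((Units.map (algebraMap k A : k →* A) r)⁻¹ : Aˣ).val = algebraMap k A (r⁻¹ : kˣ) := by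
        rw [← map_inv]; rfl
      rw [h3, rmat_algebraMap]
      have h4 : (((r⁻¹ : kˣ) : k) • (1 : Matrix (Fin (n * n)) (Fin (n * n)) k)).map (algHom f V) =
          algHom f V ((r⁻¹ : kˣ) : k) • 1 := by
        ext i j
        simp [Matrix.one_apply, apply_ite (algHom f V)]
      rw [h4, show (algHom f V ((r⁻¹ : kˣ) : k) • (1 : Matrix (Fin (n * n)) (Fin (n * n)) Γ(X, V))).mulVecLin =
        algHom f V ((r⁻¹ : kˣ) : k) • LinearMap.id from LinearMap.ext fun v => by simp]
      exact map_smul_submodule ((r⁻¹).isUnit.map (algHom f V)) _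

end Groth.Agent.SBTaut
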