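import Groth.Agent.CSA.SubfieldThrough
import Mathlib.GroupTheory.Transfer
import Mathlib.GroupTheory.PGroup
import Mathlib.RingTheory.Adjoin.Field
import Mathlib.Algebra.CharP.Lemmas
import Mathlib.FieldTheory.IsAlgClosed.AlgebraicClosure

/-!
# Finite subgroups of the units of a division algebra modulo scalars
-/

set_option autoImplicit false
universe u

open Polynomial

noncomputable section

namespace Groth.Agent.SBTaut

variable {k : Type u} [Field k]

/-- A radical element over a field with all roots of unity is a radical of exponent its degree. -/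
theorem pow_natDegree_mem_range {L : Type u} [Field L] [Algebra k L] [FiniteDimensional k L]
    (hk : ∀ m : ℕ, 0 < m → (X ^ m - 1 : k[X]).Splits) {x : L} (hx0 : x ≠ 0) {m : ℕ} (hm : 0 < m)
    (hx : x ^ m ∈ Set.range (algebraMap k L)) :
    x ^ (minpoly k x).natDegree ∈ Set.range (algebraMap k L) := by
  classical
  let Ω := AlgebraicClosure L
  let α : Ω := algebraMap L Ω x
  have hα0 : α ≠ 0 := (_root_.map_ne_zero _).mpr hx0
  obtain ⟨c, hc⟩ := hx
  let μ := minpoly k x
  have hdvd : μ ∣ X ^ m - C c := minpoly.dvd k x (by simp [hc])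
  have hroot : ∀ r ∈ (μ.map (algebraMap k Ω)).roots, ∃ z : k, r = algebraMap k Ω z * α := fun r hr => by
    have h0 : μ.map (algebraMap k Ω) ≠ 0 := Polynomial.map_ne_zero (minpoly.ne_zero (IsIntegral.of_finite k x))
    rw [mem_roots h0, IsRoot, eval_map] at hr
    have h1 : eval₂ (algebraMap k Ω) r (X ^ m - C c) = 0 :=
      eval₂_eq_zero_of_dvd_of_eval₂_eq_zero _ _ hdvd hr
    rw [eval₂_sub, eval₂_pow, eval₂_X, eval₂_C, sub_eq_zero] at h1
    have h2 : (r / α) ^ m = 1 := by
      rw [div_pow, h1, ← map_pow, ← hc, ← IsScalarTower.algebraMap_apply, div_self]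
      rw [IsScalarTower.algebraMap_apply k L Ω, hc, map_pow]
      exact pow_ne_zero _ hα0
    have h3 : r / α ∈ ((X ^ m - 1 : k[X]).map (algebraMap k Ω)).roots := by
      rw [mem_roots (by
        rw [Polynomial.map_sub, Polynomial.map_pow, map_X, Polynomial.map_one]
        exact X_pow_sub_C_ne_zero hm 1)]
      simp [h2]
    rw [(hk m hm).roots_map] at h3
    obtain ⟨z, -, hz⟩ := Multiset.mem_map.mp h3
    exact ⟨z, by rw [hz, div_mul_cancel₀ r hα0]⟩
  choose! z hz using hroot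
  have hspl : (μ.map (algebraMap k Ω)).Splits := IsAlgClosed.splits _
  have hmon : (μ.map (algebraMap k Ω)).Monic := (minpoly.monic (IsIntegral.of_finite k x)).map _
  have hprod := hspl.coeff_zero_eq_prod_roots_of_monic hmon
  have hp2 : (μ.map (algebraMap k Ω)).roots.prod =
      ((μ.map (algebraMap k Ω)).roots.map fun r => algebraMap k Ω (z r) * α).prod :=
    congrArg Multiset.prod ((Multiset.map_id' _).symm.trans (Multiset.map_congr rfl hz))
  rw [natDegree_map, coeff_map, hp2, Multiset.prod_map_mul, Multiset.map_const',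
    Multiset.prod_replicate, ← hspl.natDegree_eq_card_roots, natDegree_map] at hprod
  set d := μ.natDegree
  set Z : k := ((μ.map (algebraMap k Ω)).roots.map z).prod with hZ
  have hZ' : ((μ.map (algebraMap k Ω)).roots.map fun r => algebraMap k Ω (z r)).prod = algebraMap k Ω Z := by
    rw [hZ, map_multiset_prod, Multiset.map_map]; rfl
  rw [hZ'] at hprod
  have hne : μ.coeff 0 ≠ 0 := minpoly.coeff_zero_ne_zero (IsIntegral.of_finite k x) hx0
  have hq : ((-1 : k) ^ d * Z) ≠ 0 := fun h => (_root_.map_ne_zero (algebraMap k Ω)).mpr hne (by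
    rw [hprod, ← mul_assoc]
    have := congrArg (algebraMap k Ω) h
    rw [map_mul, map_pow, map_neg, map_one, map_zero] at this
    rw [this, zero_mul])
  refine ⟨μ.coeff 0 / ((-1 : k) ^ d * Z), (algebraMap L Ω).injective ?_⟩
  rw [← IsScalarTower.algebraMap_apply, map_div₀, hprod, map_mul, map_pow, map_neg, map_one, ← mul_assoc,
    map_pow, mul_div_cancel_left₀]
  have := (_root_.map_ne_zero (algebraMap k Ω)).mpr hq
  rwa [map_mul, map_pow, map_neg, map_one] at this

variable {D : Type u} [DivisionRing D] [Algebra k D] [Algebra.IsCentral k D] {n : ℕ}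

/-- Elements of finite order modulo scalars have order dividing the degree. -/
theorem pow_degree_mem_range (hk : ∀ m : ℕ, 0 < m → (X ^ m - 1 : k[X]).Splits) (hn : 0 < n)
    (hD : Module.finrank k D = n * n) {a : D} (ha0 : a ≠ 0) {m : ℕ} (hm : 0 < m)
    (ha : a ^ m ∈ Set.range (algebraMap k D)) : a ^ n ∈ Set.range (algebraMap k D) := by
  haveI : FiniteDimensional k D := Module.finite_of_finrank_pos (by rw [hD]; exact Nat.mul_pos hn hn)
  obtain ⟨L, _, _, ι, x, hL, -, rfl⟩ := CSA.exists_maximal_subfield_through k a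
  haveI : FiniteDimensional k L := CSA.finiteDimensional_of_algHom ι
  have hLn : Module.finrank k L = n := by
    have h : Module.finrank k L * Module.finrank k L = n * n := by rw [← sq, ← hL, hD]
    exact Nat.mul_self_inj.mp h
  obtain ⟨c, hc⟩ := ha
  have hx : x ^ m ∈ Set.range (algebraMap k L) := ⟨c, ι.toRingHom.injective (by simp [hc])⟩
  obtain ⟨q, hq⟩ := pow_natDegree_mem_range hk (fun h => ha0 (by rw [h, map_zero])) hm hx
  obtain ⟨t, ht⟩ := (minpoly.degree_dvd (IsIntegral.of_finite k x) : (minpoly k x).natDegree ∣ Module.finrank k L)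
  refine ⟨q ^ t, ?_⟩
  rw [← hLn, ht, pow_mul, ← map_pow ι x, ← hq, AlgHom.commutes, map_pow]

theorem conj_pow_inv {D : Type*} [DivisionRing D] {a : D} (ha : a ≠ 0) (b : D) (i : ℕ) :
    (a * b * a⁻¹) ^ i = a * b ^ i * a⁻¹ := by
  induction i with
  | zero => simp [ha]
  | succ i ih => rw [pow_succ, ih, pow_succ]; simp [mul_assoc, inv_mul_cancel_left₀ ha]

variable {Q : Type u} [Group Q] (ξ : Dˣ →* Q) (hξ : Function.Surjective ξ)
  (hker : ξ.ker = (Units.map (algebraMap k D : k →* D)).range)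

include hξ hker in
omit [Algebra.IsCentral k D] in
theorem exists_lift_of_pow_eq_one (g : Q) (m : ℕ) (h : g ^ m = 1) :
    ∃ a : Dˣ, ξ a = g ∧ (a : D) ^ m ∈ Set.range (algebraMap k D) := by
  obtain ⟨a, rfl⟩ := hξ g
  obtain ⟨r, hr⟩ : a ^ m ∈ (Units.map (algebraMap k D : k →* D)).range := by
    rw [← hker, MonoidHom.mem_ker, map_pow, h]
  exact ⟨a, rfl, r, by rw [← Units.val_pow_eq_pow_val, ← hr]; rfl⟩

include hξ hker in
/-- Elements of finite order in the units modulo scalars have order dividing the degree. -/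
theorem pow_degree_eq_one (hk : ∀ m : ℕ, 0 < m → (X ^ m - 1 : k[X]).Splits) (hn : 0 < n)
    (hD : Module.finrank k D = n * n) (g : Q) (hg : IsOfFinOrder g) : g ^ n = 1 := by
  obtain ⟨m, hm, hgm⟩ := isOfFinOrder_iff_pow_eq_one.mp hg
  obtain ⟨a, rfl, ha⟩ := exists_lift_of_pow_eq_one ξ hξ hker g m hgm
  obtain ⟨r, hr⟩ := pow_degree_mem_range hk hn hD a.ne_zero hm ha
  rw [← map_pow, ← MonoidHom.mem_ker, hker]
  have hr0 : r ≠ 0 := fun h => pow_ne_zero n a.ne_zero (by rw [← hr, h, map_zero])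
  exact ⟨Units.mk0 r hr0, Units.ext (by rw [Units.val_pow_eq_pow_val]; exact hr)⟩

variable {p : ℕ} [Fact p.Prime] [CharP k p]

include hξ hker in
omit [Algebra.IsCentral k D] in
/-- A conjugate of a `p`-element differing by a commuting `p`-element is the element itself. -/
theorem eq_one_of_conj {x y c : Q} (hxc : Commute x c) (h : y * x * y⁻¹ = x * c) {r : ℕ}
    (hx : x ^ p ^ r = 1) (hc : c ^ p ^ r = 1) : c = 1 := by
  haveI : CharP D p := charP_of_injective_algebraMap (algebraMap k D).injective p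
  obtain ⟨a, rfl, la, hla⟩ := exists_lift_of_pow_eq_one ξ hξ hker x _ hx
  obtain ⟨e₀, rfl, le₀, hle₀⟩ := exists_lift_of_pow_eq_one ξ hξ hker c _ hc
  obtain ⟨b, rfl⟩ := hξ y
  have hscal : ∀ u v : Dˣ, ξ u = ξ v → ∃ s : kˣ, u = v * Units.map (algebraMap k D : k →* D) s := fun u v huv => by
    obtain ⟨s, hs⟩ : v⁻¹ * u ∈ (Units.map (algebraMap k D : k →* D)).range := by
      rw [← hker, MonoidHom.mem_ker, map_mul, map_inv, huv, inv_mul_cancel]
    exact ⟨s, by rw [hs, mul_inv_cancel_left]⟩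
  have hcen : ∀ (s : k) (z : D), Commute (algebraMap k D s) z := fun s z => Algebra.commutes s z
  have hinj : ∀ z : D, z ^ p ^ r = 1 → z = 1 := fun z hz => by
    rw [← sub_eq_zero]
    refine eq_zero_of_pow_eq_zero (n := p ^ r) ?_
    rw [sub_pow_char_pow_of_commute p r (Commute.one_right z), one_pow, hz, sub_self]
  have hae : Commute (a : D) (e₀ : D) := by
    obtain ⟨s, hs⟩ := hscal (a * e₀) (e₀ * a) (by rw [map_mul, map_mul]; exact hxc)
    have h0 : (a : D) * e₀ = (e₀ : D) * a * algebraMap k D (s : k) := congrArg Units.val hs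
    have h1 : Commute ((e₀ : D) * algebraMap k D (s : k)) (algebraMap k D (s : k)) := (hcen _ _).symm
    have h2 : (a : D) * e₀ * (a : D)⁻¹ = (e₀ : D) * algebraMap k D (s : k) := by
      rw [h0, mul_assoc (e₀ : D), (hcen (s : k) (a : D)).eq.symm, ← mul_assoc, mul_assoc,
        mul_inv_cancel₀ a.ne_zero, mul_one]
    have h3 : algebraMap k D (s : k) ^ p ^ r = 1 := by
      have h4 : ((a : D) * e₀ * (a : D)⁻¹) ^ p ^ r = (e₀ : D) ^ p ^ r := by
        rw [conj_pow_inv a.ne_zero, ← hle₀, (hcen le₀ (a : D)).eq.symm, mul_assoc, mul_inv_cancel₀ a.ne_zero,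
          mul_one]
      rw [h2, ((hcen _ _).symm).mul_pow] at h4
      exact mul_left_cancel₀ (pow_ne_zero _ e₀.ne_zero) (h4.trans (mul_one _).symm)
    rw [hinj _ h3, mul_one] at h0
    exact h0
  obtain ⟨s, hs⟩ := hscal (b * a * b⁻¹) (a * e₀) (by rw [map_mul, map_mul, map_inv, map_mul]; exact h)
  let e : D := (e₀ : D) * algebraMap k D (s : k)
  have h0 : (b : D) * a * (b : D)⁻¹ = (a : D) * e := by
    have := congrArg Units.val hs
    simpa [e, mul_assoc] using this
  have he : e = 1 := by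
    refine hinj _ ?_
    have h4 : ((b : D) * a * (b : D)⁻¹) ^ p ^ r = (a : D) ^ p ^ r := by
      rw [conj_pow_inv b.ne_zero, ← hla, (hcen la (b : D)).eq.symm, mul_assoc, mul_inv_cancel₀ b.ne_zero, mul_one]
    rw [h0, (hae.mul_right (hcen _ _).symm).mul_pow] at h4
    exact mul_left_cancel₀ (pow_ne_zero _ a.ne_zero) (h4.trans (mul_one _).symm)
  rw [← MonoidHom.mem_ker, hker]
  refine ⟨s⁻¹, ?_⟩
  rw [map_inv]
  exact inv_eq_of_mul_eq_one_left (Units.ext he)

/-- Lifting the previous statement to finite subgroups. -/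
theorem exists_semidirect (hker' : ξ.ker = (Units.map (algebraMap k D : k →* D)).range)
    (hsur : Function.Surjective ξ) (hk : ∀ m : ℕ, 0 < m → (X ^ m - 1 : k[X]).Splits) (hn : 0 < n)
    (hD : Module.finrank k D = n * n) (n' m : ℕ) (hnm : n = n' * p ^ m) (hn' : ¬ p ∣ n')
    (G : Subgroup Q) [Finite G] :
    ∃ H S : Subgroup Q, H ≤ G ∧ S ≤ G ∧
      (∀ g ∈ G, ∀ h ∈ H, g * h * g⁻¹ ∈ H) ∧ H ⊓ S = ⊥ ∧ H ⊔ S = G ∧
      (∀ h ∈ H, ((orderOf h : ℕ) : k) ≠ 0) ∧
      (∀ s ∈ S, ∀ t ∈ S, s * t = t * s) ∧ (∀ s ∈ S, s ^ (p ^ m) = 1) := by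
  classical
  have hp : p.Prime := Fact.out
  obtain ⟨P⟩ := (inferInstance : Nonempty (Sylow p G))
  obtain ⟨R, hR⟩ := IsPGroup.iff_card.mp P.2
  have hRp : ∀ x : G, x ∈ P → (x : Q) ^ p ^ R = 1 := fun x hx => by
    have h : (⟨x, hx⟩ : (P : Subgroup G)) ^ p ^ R = 1 := by rw [← hR]; exact pow_card_eq_one'
    simpa using congrArg (fun z : (P : Subgroup G) => ((z : G) : Q)) h
  have key : ∀ x y c : G, x ∈ P → c ∈ P → x * c = c * x → y * x * y⁻¹ = x * c → c = 1 :=
    fun x y c hx hc hcomm h => Subtype.ext (eq_one_of_conj ξ hsur hker' (x := (x : Q)) (y := (y : Q))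
      (congrArg Subtype.val hcomm) (by exact_mod_cast congrArg Subtype.val h) (hRp x hx) (hRp c hc))
  have habel : ∀ x y : G, x ∈ P → y ∈ P → x * y = y * x := by
    by_contra hne
    push Not at hne
    obtain ⟨x₀, y₀, hx₀, hy₀, hxy⟩ := hne
    let P' : Subgroup G := P
    haveI : Nontrivial (P' ⧸ Subgroup.center P') := by
      refine ⟨⟨QuotientGroup.mk ⟨x₀, hx₀⟩, 1, fun h => hxy ?_⟩⟩
      have h1 := (QuotientGroup.eq_one_iff _).mp h
      exact congrArg Subtype.val (Subgroup.mem_center_iff.mp h1 ⟨y₀, hy₀⟩).symm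
    have hq : IsPGroup p (P' ⧸ Subgroup.center P') := P.2.to_quotient _
    haveI := hq.center_nontrivial
    obtain ⟨⟨q, hq⟩, hq1⟩ := exists_ne (1 : Subgroup.center (P' ⧸ Subgroup.center P'))
    obtain ⟨x, rfl⟩ := QuotientGroup.mk_surjective q
    apply hq1
    refine Subtype.ext ((QuotientGroup.eq_one_iff x).mpr (Subgroup.mem_center_iff.mpr fun y => ?_))
    let c : P' := x⁻¹ * (y * x * y⁻¹)
    have hc : c ∈ Subgroup.center P' := by
      rw [← QuotientGroup.eq_one_iff]
      have h2 := Subgroup.mem_center_iff.mp hq (QuotientGroup.mk y)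
      simp only [c, QuotientGroup.mk_mul, QuotientGroup.mk_inv]
      rw [h2]
      group
    have h3 : (c : G) = 1 := key x y c x.2 c.2
      (congrArg Subtype.val (Subgroup.mem_center_iff.mp hc x))
      (by simp only [c, Subgroup.coe_mul, Subgroup.coe_inv]; group)
    have h4 : x⁻¹ * (y * x * y⁻¹) = 1 := Subtype.ext h3
    rw [inv_mul_eq_one] at h4
    exact (mul_inv_eq_iff_eq_mul.mp h4.symm)
  have hP : Subgroup.normalizer ((P : Subgroup G) : Set G) ≤ Subgroup.centralizer ((P : Subgroup G) : Set G) := by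
    intro y hy
    rw [Subgroup.mem_centralizer_iff]
    intro x hx
    have hyx : y * x * y⁻¹ ∈ (P : Subgroup G) := (Subgroup.mem_normalizer_iff.mp hy x).mp hx
    have hc : x⁻¹ * (y * x * y⁻¹) ∈ (P : Subgroup G) := mul_mem (inv_mem hx) hyx
    have h := key x y _ hx hc (habel x _ hx hc) (by group)
    rw [inv_mul_eq_one] at h
    exact (mul_inv_eq_iff_eq_mul.mp h.symm).symm
  obtain ⟨H0, hnorm, hcompl, hcard⟩ : ∃ H0 : Subgroup G, H0.Normal ∧
      Subgroup.IsComplement' H0 (P : Subgroup G) ∧ ¬ p ∣ Nat.card H0 :=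
    ⟨(MonoidHom.transferSylow P hP).ker, MonoidHom.normal_ker _, MonoidHom.ker_transferSylow_isComplement' P hP,
      MonoidHom.not_dvd_card_ker_transferSylow P hP⟩
  refine ⟨H0.map G.subtype, (P : Subgroup G).map G.subtype, Subgroup.map_subtype_le _,
    Subgroup.map_subtype_le _, ?_, ?_, ?_, ?_, ?_, ?_⟩
  · rintro g hg _ ⟨h, hh, rfl⟩
    exact ⟨⟨g, hg⟩ * h * ⟨g, hg⟩⁻¹, hnorm.conj_mem h hh _, rfl⟩
  · rw [← Subgroup.map_inf_eq _ _ _ G.subtype_injective, hcompl.disjoint.eq_bot, Subgroup.map_bot]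
  · rw [← Subgroup.map_sup, hcompl.sup_eq_top, ← MonoidHom.range_eq_map, Subgroup.range_subtype]
  · rintro _ ⟨h, hh, rfl⟩ h0
    rw [Subgroup.subtype_apply, Subgroup.orderOf_coe, CharP.cast_eq_zero_iff k p] at h0
    refine hcard (h0.trans ?_)
    exact Subgroup.orderOf_dvd_natCard _ hh
  · rintro _ ⟨s, hs, rfl⟩ _ ⟨t, ht, rfl⟩
    exact congrArg Subtype.val (habel s t hs ht)
  · rintro _ ⟨s, hs, rfl⟩
    have h1 : (s : Q) ^ n = 1 := pow_degree_eq_one ξ hsur hker' hk hn hD _
      (isOfFinOrder_iff_pow_eq_one.mpr ⟨p ^ R, pow_pos hp.pos R, hRp s hs⟩)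
    obtain ⟨j, -, hj⟩ := (Nat.dvd_prime_pow hp).mp (orderOf_dvd_of_pow_eq_one (hRp s hs))
    refine orderOf_dvd_iff_pow_eq_one.mp (?_ : orderOf (s : Q) ∣ p ^ m)
    have h2 : orderOf (s : Q) ∣ n' * p ^ m := hnm ▸ orderOf_dvd_of_pow_eq_one h1
    rw [hj] at h2 ⊢
    exact ((hp.coprime_iff_not_dvd.mpr hn').pow_left j).dvd_of_dvd_mul_left h2

end Groth.Agent.SBTaut
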