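import Groth.Agent.SBTaut.SplitIso

/-!
# Right translations and comparison of Severi–Brauer structures
-/

set_option autoImplicit false
universe u

open CategoryTheory CategoryTheory.Limits AlgebraicGeometry Opposite TopologicalSpace
open Groth.Agent.QCoh
open scoped TensorProduct

noncomputable section

namespace Groth.Agent.SBTaut

variable {k : Type u} [Field k] {A : Type u} [Ring A] [Algebra k A] {c N : ℕ}
  (b : Module.Basis (Fin N) k A)

/-- The matrix of right multiplication. -/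
def rmat (a : A) : Matrix (Fin N) (Fin N) k := LinearMap.toMatrix b b (LinearMap.mulRight k a)

theorem rmat_mul (a a' : A) : rmat b (a * a') = rmat b a' * rmat b a := by
  rw [rmat, rmat, rmat, ← LinearMap.toMatrix_comp b b b]
  congr 1
  exact LinearMap.ext fun x => (mul_assoc x a a').symm

theorem rmat_one : rmat b (1 : A) = 1 := by
  rw [rmat, LinearMap.mulRight_one, LinearMap.toMatrix_id]

theorem rmat_algebraMap (r : k) : rmat b (algebraMap k A r) = r • 1 := by
  rw [rmat, ← LinearMap.toMatrix_id b, ← map_smul]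
  congr 1
  exact LinearMap.ext fun x => (Algebra.commutes r x).symm.trans (Algebra.smul_def r x).symm

theorem rmat_commute (a a' : A) : rmat b a * lmat b a' = lmat b a' * rmat b a := by
  rw [rmat, lmat, Algebra.leftMulMatrix_apply, ← LinearMap.toMatrix_comp b b b,
    ← LinearMap.toMatrix_comp b b b]
  congr 1
  exact LinearMap.ext fun x => mul_assoc a' x a

/-- The matrices commuting with all left multiplications. -/
theorem eq_rmat {M : Matrix (Fin N) (Fin N) k} (h : ∀ a, M * lmat b a = lmat b a * M) :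
    ∃ a, M = rmat b a := by
  let φ := Matrix.toLin b b M
  refine ⟨φ 1, ?_⟩
  have hφ : ∀ x, φ x = x * φ 1 := fun x => by
    have h1 := congrArg (Matrix.toLin b b) (h x)
    rw [Matrix.toLin_mul b b b, Matrix.toLin_mul b b b] at h1
    have h2 := LinearMap.congr_fun h1 1
    simp only [lmat, Algebra.leftMulMatrix_apply, Matrix.toLin_toMatrix, LinearMap.comp_apply] at h2
    simpa using h2
  rw [rmat, show LinearMap.mulRight k (φ 1) = φ from LinearMap.ext fun x => (hφ x).symm]
  exact (LinearMap.toMatrix_toLin b b M).symm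

variable {R : Type u} [CommRing R] [Algebra k R]

theorem crd_rmul (a : A) (x : R ⊗[k] A) :
    crd b R (x * (1 ⊗ₜ a)) = ((rmat b a).map (algebraMap k R)).mulVec (crd b R x) := by
  induction x using TensorProduct.induction_on with
  | zero => rw [zero_mul, map_zero, Matrix.mulVec_zero]
  | add x y hx hy => rw [add_mul, map_add, map_add, Matrix.mulVec_add, hx, hy]
  | tmul r a' =>
    funext i
    rw [Algebra.TensorProduct.tmul_mul_tmul, mul_one, crd_tmul]
    have h := congrFun (LinearMap.toMatrix_mulVec_repr b b (LinearMap.mulRight k a) a') i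
    rw [LinearMap.mulRight_apply] at h
    rw [← h]
    simp only [Matrix.mulVec, dotProduct, Matrix.map_apply, crd_tmul, map_sum, map_mul,
      Finset.mul_sum, rmat]
    exact Finset.sum_congr rfl fun j _ => by ring

/-- Right multiplication by a unit. -/
def rEquiv (u : Aˣ) : R ⊗[k] A ≃ₗ[R] R ⊗[k] A where
  toFun x := x * (1 ⊗ₜ (u : A))
  invFun x := x * (1 ⊗ₜ ((u⁻¹ : Aˣ) : A))
  map_add' x y := add_mul _ _ _
  map_smul' r x := smul_mul_assoc _ _ _
  left_inv x := by
    dsimp only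
    rw [mul_assoc, Algebra.TensorProduct.tmul_mul_tmul, one_mul, Units.mul_inv]
    exact mul_one x
  right_inv x := by
    dsimp only
    rw [mul_assoc, Algebra.TensorProduct.tmul_mul_tmul, one_mul, Units.inv_mul]
    exact mul_one x

/-- The translated ideal. -/
def rtr (u : Aˣ) (I : BrSev.SBSet k A c R) : BrSev.SBSet k A c R :=
  ⟨{  toSubmodule := I.1.toSubmodule.map (rEquiv u).toLinearMap
      finite_quotient := Module.Finite.equiv
        (Submodule.Quotient.equiv I.1.toSubmodule _ (rEquiv u) rfl)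
      projective_quotient := Module.Projective.of_equiv
        (Submodule.Quotient.equiv I.1.toSubmodule _ (rEquiv u) rfl)
      rankAtStalk_eq := fun p => by
        rw [← Module.rankAtStalk_eq_of_equiv
          (Submodule.Quotient.equiv I.1.toSubmodule _ (rEquiv u) rfl)]
        exact I.1.rankAtStalk_eq p }, fun a x hx => by
    obtain ⟨y, hy, rfl⟩ := hx
    exact ⟨a * y, I.2 a y hy, mul_assoc a y _⟩⟩

theorem cN_rtr (u : Aˣ) (I : BrSev.SBSet k A c R) :
    cN b (rtr u I) = (cN b I).map (((rmat b (u : A)).map (algebraMap k R)).mulVecLin) := by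
  rw [cN, cN, ← Submodule.map_comp]
  change (I.1.toSubmodule.map (rEquiv u).toLinearMap).map _ = _
  rw [← Submodule.map_comp]
  congr 1
  exact LinearMap.ext fun x => crd_rmul b (u : A) x

/-- Translations are inverse to each other. -/
theorem rtr_rtr (u v : Aˣ) (I : BrSev.SBSet k A c R) : rtr v (rtr u I) = rtr (u * v) I := by
  refine Subtype.ext (Module.Grassmannian.ext ?_)
  change (I.1.toSubmodule.map _).map _ = I.1.toSubmodule.map _
  rw [← Submodule.map_comp]
  congr 1
  refine LinearMap.ext fun x => ?_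
  change x * (1 ⊗ₜ (u : A)) * (1 ⊗ₜ (v : A)) = x * (1 ⊗ₜ ((u * v : Aˣ) : A))
  rw [mul_assoc, Algebra.TensorProduct.tmul_mul_tmul, one_mul, Units.val_mul]

theorem rtr_one (I : BrSev.SBSet k A c R) : rtr 1 I = I := by
  refine Subtype.ext (Module.Grassmannian.ext ?_)
  change I.1.toSubmodule.map _ = I.1.toSubmodule
  refine (congrArg (fun l => I.1.toSubmodule.map l) ?_).trans (Submodule.map_id _)
  exact LinearMap.ext fun x => mul_one x

variable {X X' : Scheme.{u}} {f : X ⟶ Spec (CommRingCat.of k)} {f' : X' ⟶ Spec (CommRingCat.of k)}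

/-- The translated structure. -/
def twistStr (σ : BrSev.SBStr k A c f) (b : Module.Basis (Fin N) k A) (u : Aˣ) : BrSev.SBStr k A c f where
  bij R _ _ := (σ.bij R).trans
    { toFun := rtr u
      invFun := rtr u⁻¹
      left_inv := fun I => by rw [rtr_rtr, mul_inv_cancel, rtr_one]
      right_inv := fun I => by rw [rtr_rtr, inv_mul_cancel, rtr_one] }
  natural R S _ _ _ _ φ g := by
    apply Submodule.map_injective_of_injective (crd b S).injective
    change cN b (rtr u (σ.bij S (BrSev.Pts.map f φ g))) = _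
    rw [cN_rtr, cN_natural, map_crd_map]
    change _ = Submodule.span S (_ '' (cN b (rtr u (σ.bij R g)) : Set (Fin N → R)))
    rw [cN_rtr, Submodule.map_span, Submodule.map_coe, ← Set.image_comp, ← Set.image_comp]
    refine congrArg (fun F => Submodule.span S (F '' _)) (funext fun v => funext fun i => ?_)
    simp only [Function.comp_apply, Matrix.mulVecLin_apply, Matrix.mulVec, dotProduct, Matrix.map_apply,
      map_sum, map_mul, AlgHom.commutes]

/-- The structure transported by an automorphism. -/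
def transStr (σ : BrSev.SBStr k A c f) (g : X' ≅ X) (w : g.hom ≫ f = f') : BrSev.SBStr k A c f' where
  bij R _ _ :=
    ({ toFun := fun p => ⟨p.1 ≫ g.hom, by rw [Category.assoc, w]; exact p.2⟩
       invFun := fun p => ⟨p.1 ≫ g.inv, by rw [← w, Category.assoc, Iso.inv_hom_id_assoc]; exact p.2⟩
       left_inv := fun p => Subtype.ext (by simp)
       right_inv := fun p => Subtype.ext (by simp) } : BrSev.Pts f' R ≃ BrSev.Pts f R).trans (σ.bij R)
  natural R S _ _ _ _ φ p := by
    refine Eq.trans ?_ (σ.natural R S φ _)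
    exact congrArg (fun q => (σ.bij S q).1.toSubmodule) (Subtype.ext (Category.assoc _ _ _))

theorem NV_twistStr (σ : BrSev.SBStr k A c f) (u : Aˣ) {T : Scheme.{u}} (ψ : T ⟶ X)
    {h : T ⟶ Spec (CommRingCat.of k)} (w : ψ ≫ f = h) {V : T.Opens} (hV : IsAffineOpen V) :
    NV (twistStr σ b u) b ψ w hV =
      (NV σ b ψ w hV).map (((rmat b (u : A)).map (algHom h V)).mulVecLin) :=
  letI := alg h V
  cN_rtr b u _

theorem NV_transStr (σ : BrSev.SBStr k A c f) (g : X' ≅ X) (w₀ : g.hom ≫ f = f') {T : Scheme.{u}}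
    (ψ : T ⟶ X') {h : T ⟶ Spec (CommRingCat.of k)} (w : ψ ≫ f' = h) {V : T.Opens}
    (hV : IsAffineOpen V) :
    NV (transStr σ g w₀) b ψ w hV =
      NV σ b (ψ ≫ g.hom) (h := h) (by rw [Category.assoc, w₀, w]) hV :=
  letI := alg h V
  congrArg (fun p => cN b (σ.bij Γ(T, V) p)) (Subtype.ext (Category.assoc _ _ _))

theorem exists_hom_affine (σ : BrSev.SBStr k A c f) (σ' : BrSev.SBStr k A c f') :
    ∃ (ψ : X' ⟶ X) (w : ψ ≫ f = f'), ∀ (V : X'.Opens) (hV : IsAffineOpen V),
      NV σ b ψ w hV = NV σ' b (𝟙 X') (Category.id_comp f') hV := by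
  let p : ∀ V : X'.affineOpens, letI := alg f' V.1; BrSev.Pts f Γ(X', V.1) := fun V =>
    letI := alg f' V.1
    (σ.bij Γ(X', V.1)).symm (σ'.bij Γ(X', V.1) (pt (𝟙 X') (Category.id_comp f') V.2))
  let gl : ∀ V : X'.affineOpens, (V.1 : Scheme.{u}) ⟶ X := fun V => V.2.isoSpec.hom ≫ (p V).1
  have hglf : ∀ V, gl V ≫ f = V.1.ι ≫ f' := fun V => by
    letI := alg f' V.1
    rw [show gl V ≫ f = V.2.isoSpec.hom ≫ (p V).1 ≫ f from Category.assoc _ _ _, (p V).2]
    exact ((congrArg (V.2.isoSpec.hom ≫ ·) (fromSpec_comp f' V.2).symm).trans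
      (V.2.isoSpec_hom_fromSpec_assoc f'))
  have hres : ∀ (U W : X'.affineOpens) (e : W.1 ≤ U.1), X'.homOfLE e ≫ gl U = gl W := fun U W e => by
    letI := alg f' U.1
    letI := alg f' W.1
    let φ : Γ(X', U.1) →ₐ[k] Γ(X', W.1) :=
      { (rres e).hom with commutes' := fun a => rres_algHom f' e a }
    simp only [gl]
    rw [reassoc_of% (homOfLE_isoSpec U.2 W.2 e)]
    refine congrArg (W.2.isoSpec.hom ≫ ·) (congrArg Subtype.val (?_ :
      BrSev.Pts.map f φ (p U) = p W))
    refine (σ.bij _).injective (cN_injective b ?_)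
    rw [cN_natural, Equiv.apply_symm_apply, Equiv.apply_symm_apply]
    exact (NV_res σ' b (𝟙 X') (Category.id_comp f') U.2 W.2 e).symm
  let 𝒰 := X'.openCoverOfIsOpenCover (fun V : X'.affineOpens => V.1) (iSup_affineOpens_eq_top X')
  have hcompat : ∀ U V : X'.affineOpens, X'.homOfLE (inf_le_left : U.1 ⊓ V.1 ≤ U.1) ≫ gl U =
      X'.homOfLE (inf_le_right : U.1 ⊓ V.1 ≤ V.1) ≫ gl V := fun U V => by
    choose W hW hxW hWle using fun x : (U.1 ⊓ V.1 : X'.Opens) => show ∃ W : X'.Opens, IsAffineOpen W ∧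
        x.1 ∈ W ∧ W ≤ U.1 ⊓ V.1 from by
      obtain ⟨_, ⟨W, hW, rfl⟩, hx, hle⟩ :=
        X'.isBasis_affineOpens.exists_subset_of_mem_open x.2 (U.1 ⊓ V.1).2
      exact ⟨W, hW, hx, hle⟩
    refine ((U.1 ⊓ V.1 : X'.Opens).toScheme.openCoverOfIsOpenCover
      (fun x => (U.1 ⊓ V.1).ι ⁻¹ᵁ W x) (eq_top_iff.mpr fun x _ =>
        Opens.mem_iSup.mpr ⟨x, hxW x⟩)).hom_ext _ _ fun x => ?_
    let e' : W x ≤ U.1 ⊓ V.1 := hWle x
    let q : ((U.1 ⊓ V.1).ι ⁻¹ᵁ W x).toScheme ⟶ (W x).toScheme := (U.1 ⊓ V.1).ι ∣_ W x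
    have hq : ((U.1 ⊓ V.1).ι ⁻¹ᵁ W x).ι = q ≫ X'.homOfLE e' := by
      rw [← cancel_mono (U.1 ⊓ V.1).ι, Category.assoc, Scheme.homOfLE_ι]
      exact (morphismRestrict_ι _ _).symm
    change ((U.1 ⊓ V.1).ι ⁻¹ᵁ W x).ι ≫ _ = ((U.1 ⊓ V.1).ι ⁻¹ᵁ W x).ι ≫ _
    rw [hq, Category.assoc, Category.assoc, Scheme.homOfLE_homOfLE_assoc,
      Scheme.homOfLE_homOfLE_assoc, hres U ⟨W x, hW x⟩, hres V ⟨W x, hW x⟩]
  let ψ : X' ⟶ X := Scheme.Cover.glueMorphisms 𝒰 gl fun U V => by
    refine (cancel_epi (isPullback_opens_inf U.1 V.1).isoPullback.hom).mp ?_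
    erw [(isPullback_opens_inf U.1 V.1).isoPullback_hom_fst_assoc,
      (isPullback_opens_inf U.1 V.1).isoPullback_hom_snd_assoc]
    exact hcompat U V
  have hψ : ∀ V : X'.affineOpens, V.1.ι ≫ ψ = gl V := fun V => Scheme.Cover.ι_glueMorphisms 𝒰 _ _ V
  have w : ψ ≫ f = f' := 𝒰.hom_ext _ _ fun V => by
    change V.1.ι ≫ ψ ≫ f = V.1.ι ≫ f'
    rw [← Category.assoc, hψ, hglf]
  refine ⟨ψ, w, fun V hV => ?_⟩
  letI := alg f' V
  have hp : pt (f := f) ψ w hV = p ⟨V, hV⟩ := Subtype.ext (by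
    change hV.fromSpec ≫ ψ = (p ⟨V, hV⟩).1
    rw [← IsAffineOpen.isoSpec_inv_ι, Category.assoc, hψ ⟨V, hV⟩]
    exact Iso.inv_hom_id_assoc _ _)
  change cN b (σ.bij _ (pt (f := f) ψ w hV)) = _
  rw [hp, Equiv.apply_symm_apply]
  rfl

include b in
/-- A morphism is determined by its ideals on the affine opens. -/
theorem hom_unique (σ : BrSev.SBStr k A c f) {ψ ψ' : X' ⟶ X} (w : ψ ≫ f = f') (w' : ψ' ≫ f = f')
    (H : ∀ (V : X'.Opens) (hV : IsAffineOpen V), NV σ b ψ w hV = NV σ b ψ' w' hV) : ψ = ψ' :=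
  hom_ext_NV σ b w w' fun y => by
    obtain ⟨_, ⟨W, hW, rfl⟩, hy, -⟩ :=
      X'.isBasis_affineOpens.exists_subset_of_mem_open (Set.mem_univ y) isOpen_univ
    exact ⟨W, hW, hy, H W hW⟩

/-- A right translation preserves pullback of ideals. -/
theorem span_image_map_rmat (a : A) {T T' : Scheme.{u}} (q : T' ⟶ T) {h : T ⟶ Spec (CommRingCat.of k)}
    {h' : T' ⟶ Spec (CommRingCat.of k)} (hq : q ≫ h = h') {V : T.Opens} {V' : T'.Opens}
    (e : V' ≤ q ⁻¹ᵁ V) (S : Submodule Γ(T, V) (Fin N → Γ(T, V))) :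
    Submodule.span Γ(T', V') ((fun (v : Fin N → Γ(T, V)) i => q.appLE V V' e (v i)) ''
        (S.map (((rmat b a).map (algHom h V)).mulVecLin) : Set (Fin N → Γ(T, V)))) =
      (Submodule.span Γ(T', V') ((fun (v : Fin N → Γ(T, V)) i => q.appLE V V' e (v i)) ''
        (S : Set (Fin N → Γ(T, V))))).map (((rmat b a).map (algHom h' V')).mulVecLin) := by
  subst hq
  rw [Submodule.map_span, Submodule.map_coe, ← Set.image_comp, ← Set.image_comp]
  refine congrArg (fun F => Submodule.span Γ(T', V') (F '' _)) (funext fun v => funext fun i => ?_)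
  simp only [Function.comp_apply, Matrix.mulVecLin_apply, Matrix.mulVec, dotProduct, Matrix.map_apply,
    map_sum, map_mul]
  exact Finset.sum_congr rfl fun j _ => congrArg (· * _) (appLE_algHom h q e _)

variable (σ : BrSev.SBStr k A c f)

/-- The translation by a unit. -/
def tr (u : Aˣ) : X ⟶ X := (exists_hom_affine b σ (twistStr σ b u)).choose

theorem tr_comp_str (u : Aˣ) : tr b σ u ≫ f = f := (exists_hom_affine b σ (twistStr σ b u)).choose_spec.1

theorem NV_tr (u : Aˣ) {V : X.Opens} (hV : IsAffineOpen V) :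
    NV σ b (tr b σ u) (tr_comp_str b σ u) hV =
      (N0 σ b hV).map (((rmat b (u : A)).map (algHom f V)).mulVecLin) :=
  ((exists_hom_affine b σ (twistStr σ b u)).choose_spec.2 V hV).trans
    (NV_twistStr b σ u (𝟙 X) (Category.id_comp f) hV)

theorem tr_comp (u v : Aˣ) : tr b σ u ≫ tr b σ v = tr b σ (u * v) := by
  have w : (tr b σ u ≫ tr b σ v) ≫ f = f := by rw [Category.assoc, tr_comp_str, tr_comp_str]
  refine hom_ext_NV σ b w (tr_comp_str b σ (u * v)) fun y => ?_
  obtain ⟨_, ⟨U, hU, rfl⟩, hy, -⟩ :=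
    X.isBasis_affineOpens.exists_subset_of_mem_open (Set.mem_univ (tr b σ u y)) isOpen_univ
  obtain ⟨_, ⟨W, hW, rfl⟩, hyW, hle⟩ := X.isBasis_affineOpens.exists_subset_of_mem_open
    (show y ∈ tr b σ u ⁻¹ᵁ U from hy) (tr b σ u ⁻¹ᵁ U).2
  have e : W ≤ tr b σ u ⁻¹ᵁ U := hle
  refine ⟨W, hW, hyW, ?_⟩
  rw [NV_map σ b (tr b σ u) (tr b σ v) (tr_comp_str b σ v) rfl w hU hW e, NV_tr b σ v hU,
    span_image_map_rmat b (v : A) (tr b σ u) (tr_comp_str b σ u) e,
    ← NV_map σ b (tr b σ u) (𝟙 X) (Category.id_comp f) (Category.comp_id _) (tr_comp_str b σ u) hU hW e,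
    NV_tr b σ u hW, NV_tr b σ (u * v) hW, ← Submodule.map_comp, Units.val_mul, rmat_mul, Matrix.map_mul,
    Matrix.mulVecLin_mul]

theorem tr_one : tr b σ 1 = 𝟙 X :=
  hom_unique b σ (tr_comp_str b σ 1) (Category.id_comp f) fun V hV => by
    rw [NV_tr, Units.val_one, rmat_one, Matrix.map_one _ (map_zero _) (map_one _), Matrix.mulVecLin_one,
      Submodule.map_id]

/-- The automorphisms given by units. -/
def trHom : Aˣ →* Aut (Over.mk f) where
  toFun u := Over.isoMk
    { hom := tr b σ u⁻¹, inv := tr b σ u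
      hom_inv_id := by rw [tr_comp, inv_mul_cancel, tr_one]
      inv_hom_id := by rw [tr_comp, mul_inv_cancel, tr_one] } (tr_comp_str b σ u⁻¹)
  map_one' := Iso.ext (Over.OverMorphism.ext (by
    change tr b σ (1 : Aˣ)⁻¹ = 𝟙 X
    rw [inv_one, tr_one]))
  map_mul' u v := Iso.ext (Over.OverMorphism.ext (by
    change tr b σ (u * v)⁻¹ = tr b σ v⁻¹ ≫ tr b σ u⁻¹
    rw [tr_comp, mul_inv_rev]))

end Groth.Agent.SBTaut
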