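import Groth.Agent.SBTaut.Line
import Groth.Agent.KSMod.AbsSplit
import Groth.Agent.CSA.Brauer
import Groth.Agent.KFlat.LocFree
import Mathlib.RingTheory.SimpleModule.IsAlgClosed

/-!
# The type of the tautological bundle
-/

set_option autoImplicit false
universe u

open CategoryTheory CategoryTheory.Limits AlgebraicGeometry Opposite TopologicalSpace
open Groth.Agent.QCoh W4c1astiltbs12
open scoped TensorProduct Groth.Agent.PicLaw

noncomputable section

namespace Groth.Agent.SBTaut

/-- A module over a split algebra decomposes into copies of the image of a minimal idempotent. -/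
theorem exists_dec_of_ringHom {C : Type*} [Category C] [Preadditive C] [IsIdempotentComplete C]
    [HasBinaryBiproducts C] {T : C} {R : Type*} [Ring R] {n : ℕ} (hn : 0 < n)
    (Φ : Matrix (Fin n) (Fin n) R →+* End T) :
    ∃ L : C, Nonempty (KSMod.Dec T (fun _ : Fin n => L)) ∧ ∃ (i : L ⟶ T) (p : T ⟶ L), i ≫ p = 𝟙 L := by
  classical
  let o : Fin n := ⟨0, hn⟩
  let E : Fin n → Fin n → (T ⟶ T) := fun a c => Φ (Matrix.single a c 1)
  have hmul : ∀ a c a' c', E a c ≫ E a' c' = if c' = a then E a' c else 0 := fun a c a' c' => by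
    change Φ _ * Φ _ = _
    rw [← map_mul]
    split_ifs with h
    · subst h; rw [Matrix.single_mul_single_same, one_mul]
    · rw [Matrix.single_mul_single_of_ne (h := h), map_zero]
  obtain ⟨L, Q, i, p, i', p', hip, hpi, -, -, -⟩ :=
    KSMod.exists_split (E o o) (by rw [hmul, if_pos rfl])
  refine ⟨L, ⟨{ inj := fun a => i ≫ E a o, proj := fun a => E o a ≫ p,
                 inj_proj := fun a => ?_, inj_proj_ne := fun a c h => ?_, total := ?_ }⟩, i, p, hip⟩
  · rw [Category.assoc, reassoc_of% (hmul a o o a)]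
    simp [← hpi, reassoc_of% hip, hip]
  · rw [Category.assoc, reassoc_of% (hmul a o o c), if_neg (Ne.symm h), zero_comp, comp_zero]
  · have h1 : ∀ a, (E o a ≫ p) ≫ i ≫ E a o = Φ (Matrix.single a a 1) := fun a => by
      rw [Category.assoc, ← Category.assoc p, hpi, ← Category.assoc, hmul, if_pos rfl, hmul, if_pos rfl]
    rw [Finset.sum_congr rfl fun a _ => h1 a, ← map_sum, Matrix.sum_single_one, map_one]
    rfl

variable {k : Type u} [Field k] {A : Type u} [Ring A] [Algebra k A] {c N : ℕ} {X : Scheme.{u}}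
  {f : X ⟶ Spec (CommRingCat.of k)} (σ : BrSev.SBStr k A c f) (b : Module.Basis (Fin N) k A)
  {K : Type u} [Field K] [Algebra k K]

theorem pullback_scal {X' : Scheme.{u}} (q : X' ⟶ X) (g : X' ⟶ Spec (CommRingCat.of K))
    (w : q ≫ f = g ≫ Spec.map (CommRingCat.ofHom (algebraMap k K))) (M : X.Modules) (a : k) :
    (Scheme.Modules.pullback q).map (KSMod.scal M (Coh.toGlobal f a)) =
      KSMod.scal _ (Coh.toGlobal g (algebraMap k K a)) := by
  have h := KSMod.map_scal (f := f) (g := Spec.map (CommRingCat.ofHom (algebraMap k K))) (p := q) (q := g)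
    w M ((Scheme.ΓSpecIso (CommRingCat.of k)).inv a)
  refine h.trans ?_
  refine congrArg (fun x => KSMod.scal _ (g.appTop x)) ?_
  exact (congrArg (fun φ : CommRingCat.of k ⟶ Γ(Spec (CommRingCat.of K), ⊤) => φ a)
    (Scheme.ΓSpecIso_inv_naturality (CommRingCat.ofHom (algebraMap k K)))).symm

include σ b in
/-- The split algebra acts on the extended tautological bundle. -/
theorem exists_matrix_hom {n : ℕ} (θ : K ⊗[k] A ≃ₐ[K] Matrix (Fin n) (Fin n) K) :
    Nonempty (Matrix (Fin n) (Fin n) K →+* End (BrSev.bcMod f K (taut σ b))) := by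
  let TK := BrSev.bcMod f K (taut σ b)
  let ρ : K →+* End TK := (KSMod.scalHom TK).comp (Coh.toGlobal (BrSev.bcTo f K))
  have hρ : ∀ (a : K) (x : End TK), ρ a * x = x * ρ a := fun a x => KSMod.scalHom_commutes TK _ x
  letI : Algebra K (End TK) := ρ.toAlgebra' hρ
  letI : Algebra k (End TK) := (ρ.comp (algebraMap k K)).toAlgebra' fun a x => hρ _ x
  haveI : IsScalarTower k K (End TK) := IsScalarTower.of_algebraMap_eq fun _ => rfl
  let φA : A →ₐ[k] End TK :=
    { toFun := fun a => (Scheme.Modules.pullback (BrSev.proj f K)).map (actR σ b a)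
      map_one' := by rw [map_one]; exact (Scheme.Modules.pullback (BrSev.proj f K)).map_id _
      map_mul' := fun a a' => by rw [map_mul]; exact (Scheme.Modules.pullback (BrSev.proj f K)).map_comp _ _
      map_zero' := by rw [map_zero]; exact (Scheme.Modules.pullback (BrSev.proj f K)).map_zero _ _
      map_add' := fun a a' => by rw [map_add]; exact (Scheme.Modules.pullback (BrSev.proj f K)).map_add
      commutes' := fun r => (congrArg (Scheme.Modules.pullback (BrSev.proj f K)).map
        (act_algebraMap σ b r)).trans (pullback_scal (BrSev.proj f K) (BrSev.bcTo f K) pullback.condition _ r) }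
  exact ⟨(Algebra.TensorProduct.lift (Algebra.ofId K (End TK)) φA
    fun a x => Algebra.commutes a _).toRingHom.comp θ.symm.toAlgHom.toRingHom⟩

/-- Frames of the tautological bundle have size `n`. -/
theorem exists_frame_size {n : ℕ} (hc : c + n = N) (x : X) :
    ∃ (U : X.Opens) (e : Fin n → Γ(taut σ b, U)), x ∈ U ∧ LFFrame.IsFrame (taut σ b) U e := by
  obtain ⟨U', r, t', hx', ht'⟩ := LFFrame.exists_isFrame_of_isFinLocFree (isFinLocFree_taut σ b) x
  obtain ⟨_, ⟨U, hU, rfl⟩, hx, hle⟩ := X.isBasis_affineOpens.exists_subset_of_mem_open hx' U'.2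
  have ht := PicPn.isFrame_res' ht' (show U ≤ U' from hle)
  haveI : Nontrivial Γ(X, U) := (X.presheaf.germ U x hx).hom.domain_nontrivial
  letI := alg f U
  let cmb := Fintype.linearCombination Γ(X, U) (fun a => res (taut σ b) (show U ≤ U' from hle) (t' a))
  have hb : Function.Bijective cmb := by
    have := ht U le_rfl
    rwa [show LFFrame.comb (taut σ b) _ (le_refl U) = cmb from funext fun a => by
      simp [cmb, LFFrame.comb, Fintype.linearCombination_apply]] at this
  have hr := add_eq_of_basis b (σ.bij Γ(X, U) (pt (𝟙 X) (Category.id_comp f) hU))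
    (Module.Basis.ofEquivFun ((LinearEquiv.ofBijective cmb hb).trans (secEquiv σ b hU)).symm)
  obtain rfl : r = n := by omega
  exact ⟨U, _, hx, ht⟩

theorem isInvertible_of_dec {Y : Scheme.{u}} {T L : Y.Modules} {n : ℕ} (hn : 0 < n)
    (hT : ∀ y : Y, ∃ (U : Y.Opens) (e : Fin n → Γ(T, U)), y ∈ U ∧ LFFrame.IsFrame T U e)
    (hL : FlatMod.IsFinLocFree L) (d : KSMod.Dec T (fun _ : Fin n => L)) : PicF.IsInvertible L := by
  intro y
  obtain ⟨U, e, hy, he⟩ := hT y
  obtain ⟨U', r, t, hy', ht⟩ := LFFrame.exists_isFrame_of_isFinLocFree hL y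
  let W := U ⊓ U'
  have hyW : y ∈ W := ⟨hy, hy'⟩
  haveI : Nontrivial Γ(Y, W) := (Y.presheaf.germ W y hyW).hom.domain_nontrivial
  let bT : (Fin n → Γ(Y, W)) →ₗ[Γ(Y, W)] Γ(T, W) :=
    Fintype.linearCombination Γ(Y, W) (fun a => res T (inf_le_left : W ≤ U) (e a))
  let bL : (Fin r → Γ(Y, W)) →ₗ[Γ(Y, W)] Γ(L, W) :=
    Fintype.linearCombination Γ(Y, W) (fun a => res L (inf_le_right : W ≤ U') (t a))
  have hbT : Function.Bijective bT := by
    have := (PicPn.isFrame_res' he (inf_le_left : W ≤ U)) W le_rfl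
    rwa [show LFFrame.comb T _ (le_refl W) = bT from funext fun a => by
      simp [bT, LFFrame.comb, Fintype.linearCombination_apply]] at this
  have hbL : Function.Bijective bL := by
    have := (PicPn.isFrame_res' ht (inf_le_right : W ≤ U')) W le_rfl
    rwa [show LFFrame.comb L _ (le_refl W) = bL from funext fun a => by
      simp [bL, LFFrame.comb, Fintype.linearCombination_apply]] at this
  let split : Γ(T, W) →ₗ[Γ(Y, W)] (Fin n → Γ(L, W)) :=
    { toFun := fun m a => (d.proj a).app W m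
      map_add' := fun m m' => funext fun a => map_add _ m m'
      map_smul' := fun s m => funext fun a => Scheme.Modules.Hom.app_smul (d.proj a) s m }
  have hs : Function.Bijective split := by
    refine ⟨fun m m' h => ?_, fun v => ⟨∑ a, (d.inj a).app W (v a), funext fun a => ?_⟩⟩
    · have key : ∀ z, z = ∑ a, (d.inj a).app W (split z a) := fun z => by
        have := congrArg (fun ψ : T ⟶ T => ψ.app W z) d.total
        rw [KSMod.sum_app] at this
        exact this.symm
      rw [key m, key m', h]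
    · change (d.proj a).app W (∑ c, (d.inj c).app W (v c)) = v a
      rw [map_sum]
      refine (Finset.sum_eq_single a (fun c _ hc => ?_) (fun h => absurd (Finset.mem_univ a) h)).trans ?_
      · exact congrArg (fun ψ : L ⟶ L => ψ.app W (v c)) (d.inj_proj_ne c a hc)
      · exact congrArg (fun ψ : L ⟶ L => ψ.app W (v a)) (d.inj_proj a)
  let Θ := (LinearEquiv.ofBijective bT hbT).trans ((LinearEquiv.ofBijective split hs).trans
    (LinearEquiv.piCongrRight fun _ : Fin n => (LinearEquiv.ofBijective bL hbL).symm))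
  have h := Θ.finrank_eq
  rw [Module.finrank_pi, Module.finrank_pi_fintype] at h
  simp only [Module.finrank_pi, Fintype.card_fin, Finset.sum_const, Finset.card_univ, smul_eq_mul] at h
  obtain rfl : r = 1 := Nat.eq_of_mul_eq_mul_left hn (by omega)
  exact ⟨U', hy', LFFrame.IsFrame.nonempty_restrict_iso ht⟩

/-- All twists of a point are isomorphic. -/
theorem nonempty_twist_iso_zero (e : BrSev.Splitting f K 0) (i j : ℤ) :
    Nonempty (e.twist i ≅ e.twist j) :=
  ⟨(Scheme.Modules.pullback e.iso.hom).mapIso (KSMod.nonempty_iso_of_zero i j).some⟩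

variable [IsProper f]

include σ b in
theorem exists_dec_taut_of {n : ℕ} (hn : 0 < n) (hc : c + n = n * n) (hN : N = n * n)
    (θ' : K ⊗[k] A ≃ₐ[K] Matrix (Fin n) (Fin n) K) :
    ∃ L : (BrSev.bc f K).Modules, PicF.IsInvertible L ∧
      Nonempty (KSMod.Dec (BrSev.bcMod f K (taut σ b)) (fun _ : Fin n => L)) := by
  obtain ⟨Φ⟩ := exists_matrix_hom σ b θ'
  obtain ⟨L, ⟨d⟩, i, p, hip⟩ := exists_dec_of_ringHom hn Φ
  haveI : IsLocallyNoetherian (BrSev.bc f K) := KSMod.isLocallyNoetherian (BrSev.bcTo f K)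
  have hTK : FlatMod.IsFinLocFree (BrSev.bcMod f K (taut σ b)) :=
    KFlat.LocFree.isFinLocFree_pull _ (isFinLocFree_taut σ b)
  refine ⟨L, isInvertible_of_dec hn (fun y => ?_) (KSMod.isFinLocFree_of_retract i p hip hTK) d, ⟨d⟩⟩
  obtain ⟨U, t, hy, ht⟩ := exists_frame_size σ b (hc.trans hN.symm) (BrSev.proj f K y)
  exact ⟨_, _, hy, ht.pullback (BrSev.proj f K)⟩

include σ b in
theorem exists_dec_taut [Algebra.IsCentral k A] [IsSimpleRing A] [IsAlgClosed K] {n : ℕ}
    (hn : 0 < n) (hA : Module.finrank k A = n * n) (hc : c + n = n * n) (hN : N = n * n) :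
    ∃ (_ : K ⊗[k] A ≃ₐ[K] Matrix (Fin n) (Fin n) K) (L : (BrSev.bc f K).Modules),
      PicF.IsInvertible L ∧ Nonempty (KSMod.Dec (BrSev.bcMod f K (taut σ b)) (fun _ : Fin n => L)) := by
  haveI : FiniteDimensional k A := Module.finite_of_finrank_pos (by rw [hA]; exact Nat.mul_pos hn hn)
  obtain ⟨hc1, hs, hf⟩ := CSA.IsCSA.baseChange (CSA.IsCSA.of (k := k) (A := A)) K
  obtain ⟨n', _, ⟨θ'⟩⟩ := IsSimpleRing.exists_algEquiv_matrix_of_isAlgClosed K (K ⊗[k] A)
  obtain rfl : n' = n := by
    have h := θ'.toLinearEquiv.finrank_eq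
    rw [Module.finrank_baseChange, hA, Module.finrank_matrix] at h
    simp only [Fintype.card_fin, Module.finrank_self, mul_one] at h
    exact (Nat.mul_self_inj.mp h).symm
  obtain ⟨L, h⟩ := exists_dec_taut_of σ b hn hc hN θ'
  exact ⟨θ', L, h⟩

theorem twCls_eq (n : ℕ) (j : ℤ) : KSMod.twCls n K (Multiplicative.ofAdd j) =
    PicGrp.cls (Twist.twistProjSpace n K j) (ProjTwist.isInvertible_twistProjSpace n K j) := rfl
/-- A map from the line pulling a twist back to `O(-1)` forces the twist to be `O(±1)`. -/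
theorem eq_one_or_neg_one {r : ℕ} (h : CohB1.ProjSpace 1 K ⟶ CohB1.ProjSpace r K) (m : ℤ)
    (η' : (Scheme.Modules.pullback h).obj (Twist.twistProjSpace r K m) ≅ Twist.twistProjSpace 1 K (-1)) :
    m = 1 ∨ m = -1 := by
  have hinv : PicF.IsInvertible ((Scheme.Modules.pullback h).obj (Twist.twistProjSpace r K m)) :=
    PicLoc.isInvertible_pullback h (ProjTwist.isInvertible_twistProjSpace r K m)
  obtain ⟨d0, hd0⟩ := KSMod.exists_twCls (n := 1) (K := K)
    (PicLaw.pl h (KSMod.twCls r K (Multiplicative.ofAdd 1)))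
  have hcls : KSMod.twCls 1 K (Multiplicative.ofAdd (d0 * m)) = KSMod.twCls 1 K (Multiplicative.ofAdd (-1)) := by
    rw [Int.ofAdd_mul, map_zpow, ← hd0, ← map_zpow, ← KSMod.twCls_zpow m, twCls_eq, twCls_eq,
      ← PicLaw.cls_pullback h (ProjTwist.isInvertible_twistProjSpace r K m)]
    exact (PicGrp.cls_eq_cls_iff _ _).mpr ⟨η'⟩
  have hm : d0 * m = -1 := by
    refine PicPn.degree_unique (K := K) (n := 1) le_rfl _ _ (Nonempty.some ?_)
    rw [twCls_eq, twCls_eq] at hcls
    exact (PicGrp.cls_eq_cls_iff _ _).mp hcls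
  exact Int.isUnit_iff.mp (IsUnit.of_mul_eq_one (-d0) (by linarith))

/-- Two decompositions of a bundle on the line into invertible modules agree. -/
theorem nonempty_iso_of_line_dec {E L L' : (CohB1.ProjSpace 1 K).Modules} {n : ℕ} (hn : 0 < n)
    (hE : Coh.IsCoh E) (hL : PicF.IsInvertible L) (hL' : PicF.IsInvertible L')
    (d : KSMod.Dec E (fun _ : Fin n => L)) (ε : E ≅ ∐ fun _ : Fin n => L') : Nonempty (L ≅ L') := by
  haveI : HasFiniteBiproducts (CohB1.ProjSpace 1 K).Modules := Abelian.hasFiniteBiproducts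
  haveI := ProjProper.Basic.isProper_toSpec 1 K
  haveI := S18573.irreducibleSpace_projSpace 1 K
  haveI := KSMod.isArtinianRing_end K (CohB1.ProjSpace.toSpec 1 K) E hE
  obtain ⟨s, hs'⟩ := KSMod.dec_unique (fun _ => KSMod.indec_of_isInvertible hL)
    (fun _ => KSMod.indec_of_isInvertible hL') d
    (KSMod.Dec.ofIso (ε ≪≫ (biproduct.isoCoproduct _).symm))
  exact hs' ⟨0, hn⟩

include σ in
/-- With a splitting of the algebra the tautological bundle is a sum of copies of `O(±1)`. -/
theorem exists_type_of {n : ℕ} (hn : 0 < n) (hc : c + n = n * n) (hN : N = n * n)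
    (θ : K ⊗[k] A ≃ₐ[K] Matrix (Fin n) (Fin n) K) (e : BrSev.Splitting f K (n - 1)) :
    ∃ m : ℤ, (m = 1 ∨ m = -1) ∧
      Nonempty (KSMod.Dec (BrSev.bcMod f K (taut σ b)) (fun _ : Fin n => e.twist m)) := by
  obtain ⟨L, hL, ⟨d⟩⟩ := exists_dec_taut_of σ b hn hc hN θ
  obtain ⟨m, ⟨φ⟩⟩ := KSMod.exists_iso_eTwist e hL
  rcases Nat.lt_or_ge n 2 with hlt | hge
  · obtain rfl : n = 1 := by omega
    exact ⟨1, Or.inl rfl, ⟨d.congr (Iso.refl _) fun _ => φ ≪≫ (nonempty_twist_iso_zero e m 1).some⟩⟩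
  obtain ⟨ψ, hw, ⟨ε⟩⟩ := exists_line σ b hge θ hc
  let ψK : CohB1.ProjSpace 1 K ⟶ BrSev.bc f K := pullback.lift ψ (CohB1.ProjSpace.toSpec 1 K) hw
  have hψK : ψK ≫ BrSev.proj f K = ψ := pullback.lift_fst _ _ _
  let d1 : KSMod.Dec ((Scheme.Modules.pullback ψ).obj (taut σ b))
      (fun _ : Fin n => (Scheme.Modules.pullback ψK).obj L) :=
    (d.map (Scheme.Modules.pullback ψK)).congr
      ((Scheme.Modules.pullbackComp ψK (BrSev.proj f K)).app _ ≪≫
        (Scheme.Modules.pullbackCongr hψK).app _) fun _ => Iso.refl _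
  have hE : Coh.IsCoh ((Scheme.Modules.pullback ψ).obj (taut σ b)) :=
    VBLib.isCoh_of_isFinLocFree (KFlat.LocFree.isFinLocFree_pull _ (isFinLocFree_taut σ b))
  obtain ⟨η₁⟩ := nonempty_iso_of_line_dec (by omega) hE (PicLoc.isInvertible_pullback ψK hL)
    (ProjTwist.isInvertible_twistProjSpace 1 K (-1)) d1 ε
  exact ⟨m, eq_one_or_neg_one (ψK ≫ e.iso.hom) m
    ((((Scheme.Modules.pullback ψK).mapIso φ ≪≫
      (Scheme.Modules.pullbackComp ψK e.iso.hom).app _).symm) ≪≫ η₁),
    ⟨d.congr (Iso.refl _) fun _ => φ⟩⟩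

include σ in
/-- Over an algebraically closed field the tautological bundle is a sum of copies of `O(±1)`. -/
theorem exists_type [Algebra.IsCentral k A] [IsSimpleRing A] [IsAlgClosure k K] {n : ℕ}
    (hn : 0 < n) (hA : Module.finrank k A = n * n) (hc : c + n = n * n) (hN : N = n * n)
    (e : BrSev.Splitting f K (n - 1)) :
    ∃ m : ℤ, (m = 1 ∨ m = -1) ∧
      Nonempty (KSMod.Dec (BrSev.bcMod f K (taut σ b)) (fun _ : Fin n => e.twist m)) := by
  haveI : IsAlgClosed K := IsAlgClosure.isAlgClosed k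
  obtain ⟨θ, -⟩ := exists_dec_taut σ b (K := K) hn hA hc hN
  exact exists_type_of σ b hn hc hN θ e

end Groth.Agent.SBTaut
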