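import Groth.Agent.SBTaut.Compare
import Groth.Agent.SBTaut.Type
import Mathlib.RingTheory.SimpleModule.Basic

/-!
# Functionals on the tautological bundle
-/

set_option autoImplicit false
universe u

open CategoryTheory CategoryTheory.Limits AlgebraicGeometry Opposite TopologicalSpace
open Groth.Agent.QCoh Groth.Agent.PullStalk.Sky Groth.Agent.Props.SubMod Groth.Agent.Props.SubSheaf
open scoped TensorProduct

noncomputable section

namespace Groth.Agent.SBTaut

variable {k : Type u} [Field k] {A : Type u} [Ring A] [Algebra k A] {c N : ℕ} {X : Scheme.{u}}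
  {f : X ⟶ Spec (CommRingCat.of k)} (σ σ' : BrSev.SBStr k A c f) (b : Module.Basis (Fin N) k A)

/-- A matrix carrying one family of ideals into another induces a map of bundles. -/
theorem exists_lift (M : Matrix (Fin N) (Fin N) k)
    (h : ∀ (V : X.Opens) (hV : IsAffineOpen V),
      (N0 σ b hV).map ((M.map (algHom f V)).mulVecLin) ≤ N0 σ' b hV) :
    ∃ g : taut σ b ⟶ taut σ' b, g ≫ tIncl σ' b = tIncl σ b ≫ matEnd (M.map (Coh.toGlobal f)) := by
  let φ := matEnd (X := X) (M.map (Coh.toGlobal f))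
  have hmem : ∀ (V : X.Opens) (t : Γ(taut σ b, V)),
      φ.app V ((tIncl σ b).app V t) ∈ Set.range ((incl (tautS σ' b)).app V) := fun V t => by
    refine (mem_range_incl (tautS σ' b) _).mpr fun y hy => ?_
    obtain ⟨_, ⟨W, hW, rfl⟩, hyW, -⟩ :=
      X.isBasis_affineOpens.exists_subset_of_mem_open (Set.mem_univ y) isOpen_univ
    have h1 : germM (FF X N) V y hy ((tIncl σ b).app V t) ∈ tautS σ b y :=
      (mem_range_incl (tautS σ b) _).mp ⟨t, rfl⟩ y hy
    rw [genBy σ b hW y hyW] at h1
    rw [genBy σ' b hW y hyW]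
    rw [← PullStalk.Exact.stalkLin_germ φ V y hy]
    have h2 := Submodule.mem_map_of_mem (f := PullStalk.Exact.stalkLin φ y) h1
    rw [spanGerm, Submodule.map_span] at h2
    refine (Submodule.span_le.mpr ?_) h2
    rintro _ ⟨_, ⟨_, ⟨v, hv, rfl⟩, rfl⟩, rfl⟩
    rw [PullStalk.Exact.stalkLin_germ]
    refine Submodule.subset_span ⟨_, ⟨_, h W hW ⟨v, hv, rfl⟩, rfl⟩, ?_⟩
    refine congrArg (germM (FF X N) W y hyW) (coo_injective ?_)
    rw [coo_ofC, coo_matEnd, coo_ofC, Matrix.map_map]
    rfl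
  refine ⟨kernel.lift (toQuot (tautS σ' b)) (tIncl σ b ≫ φ) ?_, kernel.lift_ι _ _ _⟩
  refine Scheme.Modules.hom_ext _ _ fun V => ConcreteCategory.hom_ext _ _ fun t => ?_
  obtain ⟨s, hs⟩ := hmem V t
  change (toQuot (tautS σ' b)).app V (φ.app V ((tIncl σ b).app V t)) = _
  rw [← hs]
  exact congrArg (fun (g : sub (tautS σ' b) ⟶ _) => g.app V s) (kernel.condition (toQuot (tautS σ' b)))

/-- Coordinates of a lift. -/
theorem tCoo_of_lift {g : taut σ b ⟶ taut σ' b} {M : Matrix (Fin N) (Fin N) k}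
    (hg : g ≫ tIncl σ' b = tIncl σ b ≫ matEnd (M.map (Coh.toGlobal f))) (V : X.Opens)
    (t : Γ(taut σ b, V)) :
    tCoo σ' b V (g.app V t) = (M.map (algHom f V)).mulVec (tCoo σ b V t) := by
  have h := congrArg (fun (g : taut σ b ⟶ FF X N) => coo (g.app V t)) hg
  refine h.trans ?_
  change coo ((matEnd _).app V ((tIncl σ b).app V t)) = _
  rw [coo_matEnd, Matrix.map_map]
  rfl

/-- A constant linear form on the tautological bundle. -/
def fnl (τ : Fin N → k) : taut σ b ⟶ Coh.structureModule X :=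
  ∑ j, tIncl σ b ≫ biproduct.π (fun _ : Fin N => Coh.structureModule X) j ≫
    KSMod.scal (Coh.structureModule X) (Coh.toGlobal f (τ j))

theorem fnl_app (τ : Fin N → k) (V : X.Opens) (t : Γ(taut σ b, V)) :
    (fnl σ b τ).app V t = ∑ j, algHom f V (τ j) * tCoo σ b V t j := by
  rw [fnl, KSMod.sum_app]
  exact Finset.sum_congr rfl fun j _ => KSMod.scal_app (Coh.structureModule X) _ V _

/-- The forms that vanish on all the ideals. -/
def vanForms : Submodule k (Fin N → k) where
  carrier := {τ | ∀ (V : X.Opens) (hV : IsAffineOpen V), ∀ v ∈ N0 σ b hV,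
    ∑ j, algHom f V (τ j) * v j = 0}
  add_mem' := fun {τ τ'} h h' V hV v hv => by
    simp only [Pi.add_apply, map_add, add_mul, Finset.sum_add_distrib, h V hV v hv, h' V hV v hv, add_zero]
  zero_mem' := fun V hV v hv => by simp
  smul_mem' := fun r τ h V hV v hv => by
    simp only [Pi.smul_apply, smul_eq_mul, map_mul, mul_assoc, ← Finset.mul_sum, h V hV v hv, mul_zero]

theorem sum_vecMul {R : Type u} [CommRing R] (φ : k →+* R) (τ : Fin N → k) (M : Matrix (Fin N) (Fin N) k)
    (v : Fin N → R) :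
    ∑ j, φ (Matrix.vecMul τ M j) * v j = ∑ j, φ (τ j) * (M.map φ).mulVec v j := by
  simp only [Matrix.vecMul, Matrix.mulVec, dotProduct, Matrix.map_apply, map_sum, map_mul,
    Finset.sum_mul, Finset.mul_sum]
  rw [Finset.sum_comm]
  exact Finset.sum_congr rfl fun i _ => Finset.sum_congr rfl fun j _ => mul_assoc _ _ _

theorem vecMul_lmat_mem {τ : Fin N → k} (h : τ ∈ vanForms σ b) (a : A) :
    Matrix.vecMul τ (lmat b a) ∈ vanForms σ b := fun V hV v hv => by
  rw [sum_vecMul]
  exact h V hV _ (lmul_mem_NV σ b (𝟙 X) (Category.id_comp f) hV a hv)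

theorem vecMul_rmat_mem {τ : Fin N → k} (h : τ ∈ vanForms σ b) (u : Aˣ) :
    Matrix.vecMul τ (rmat b (u : A)) ∈ vanForms σ b := fun V hV v hv => by
  rw [sum_vecMul]
  have hv' : ((rmat b (u : A)).map (algHom f V)).mulVec v ∈
      NV σ b (tr b σ u) (tr_comp_str b σ u) hV := by
    rw [NV_tr]
    exact ⟨v, hv, rfl⟩
  choose W hW hxW U hU e hWV using fun x : V => show ∃ (W : X.Opens) (_ : IsAffineOpen W) (_ : x.1 ∈ W)
      (U : X.Opens) (_ : IsAffineOpen U) (_ : W ≤ tr b σ u ⁻¹ᵁ U), W ≤ V from by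
    obtain ⟨_, ⟨U, hU, rfl⟩, hx, -⟩ :=
      X.isBasis_affineOpens.exists_subset_of_mem_open (Set.mem_univ (tr b σ u x.1)) isOpen_univ
    obtain ⟨_, ⟨W, hW, rfl⟩, hxW, hle⟩ := X.isBasis_affineOpens.exists_subset_of_mem_open
      (show x.1 ∈ V ⊓ tr b σ u ⁻¹ᵁ U from ⟨x.2, hx⟩) (V ⊓ tr b σ u ⁻¹ᵁ U).2
    exact ⟨W, hW, hxW, U, hU, fun z hz => (hle hz).2, fun z hz => (hle hz).1⟩
  refine eq_zero_of_locally_eq_zero (Coh.structureModule X) (U := W) hWV
    (fun x hx => Opens.mem_iSup.mpr ⟨⟨x, hx⟩, hxW _⟩) _ fun x => ?_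
  change rres (hWV x) _ = 0
  rw [map_sum]
  have h1 := mem_NV_res σ b (tr b σ u) (tr_comp_str b σ u) hV (hW x) (hWV x) hv'
  rw [NV_map σ b (tr b σ u) (𝟙 X) (Category.id_comp f) (Category.comp_id _) (tr_comp_str b σ u)
    (hU x) (hW x) (e x)] at h1
  simp only [map_mul, rres_algHom]
  refine Eq.trans ?_ (show ∑ j, algHom f (W x) (τ j) *
    (fun i => rres (hWV x) (((rmat b (u : A)).map (algHom f V)).mulVec v i)) j = 0 from ?_)
  · rfl
  generalize (fun i => rres (hWV x) (((rmat b (u : A)).map (algHom f V)).mulVec v i)) = w at h1 ⊢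
  induction h1 using Submodule.span_induction with
  | mem z hz =>
    obtain ⟨s, hs, rfl⟩ := hz
    have := congrArg ((tr b σ u).appLE (U x) (W x) (e x)) (h (U x) (hU x) s hs)
    rw [map_sum, map_zero] at this
    refine Eq.trans (Finset.sum_congr rfl fun j _ => ?_) this
    rw [map_mul]
    exact congrArg (· * _) ((congrArg (fun g => algHom g (W x) (τ j)) (tr_comp_str b σ u).symm).trans
      (appLE_algHom f (tr b σ u) (e x) (τ j)).symm)
  | zero => simp
  | add z z' _ _ hz hz' => simp only [Pi.add_apply, mul_add, Finset.sum_add_distrib, hz, hz', add_zero]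
  | smul r z _ hz =>
    simp only [Pi.smul_apply, smul_eq_mul, mul_left_comm _ r, ← Finset.mul_sum, hz, mul_zero]

theorem exists_nontrivial_ideal [Nonempty X] {n : ℕ} (hn : 0 < n) (hc : c + n = N) :
    ∃ (V : X.Opens) (hV : IsAffineOpen V), ∃ v ∈ N0 σ b hV, v ≠ 0 := by
  obtain ⟨x⟩ := ‹Nonempty X›
  obtain ⟨U, t, hx, ht⟩ := exists_frame_size σ b hc x
  obtain ⟨_, ⟨V, hV, rfl⟩, hxV, hle⟩ := X.isBasis_affineOpens.exists_subset_of_mem_open hx U.2
  haveI : Nontrivial Γ(X, V) := (X.presheaf.germ V x hxV).hom.domain_nontrivial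
  have ht' := (PicPn.isFrame_res' ht (show V ≤ U from hle) V le_rfl).1
  refine ⟨V, hV, tCoo σ b V (res _ hle (t ⟨0, hn⟩)), ?_, ?_⟩
  · rw [← range_tCoo σ b hV]; exact ⟨_, rfl⟩
  · intro h0
    have h1 : res (taut σ b) hle (t ⟨0, hn⟩) = 0 := tCoo_injective σ b V (h0.trans (map_zero _).symm)
    have h2 := @ht' (Pi.single ⟨0, hn⟩ 1) 0 (by simp [LFFrame.comb, h1, Pi.single_apply])
    simpa using congrFun h2 ⟨0, hn⟩

/-- No constant form vanishes on all the ideals. -/
theorem vanForms_eq_bot [IsSimpleRing A] [FiniteDimensional k A] [Nonempty X] {n : ℕ} (hn : 0 < n)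
    (hc : c + n = N) : vanForms σ b = ⊥ := by
  classical
  let pair : (Fin N → k) → A →ₗ[k] k := fun τ => ∑ j, τ j • b.coord j
  have hpair : ∀ τ x, pair τ x = ∑ j, τ j * b.repr x j := fun τ x => by
    simp [pair, LinearMap.sum_apply]
  have htrans : ∀ τ (M : Matrix (Fin N) (Fin N) k) x,
      pair (Matrix.vecMul τ M) x = ∑ j, τ j * M.mulVec (b.repr x) j := fun τ M x => by
    rw [hpair]
    have h := sum_vecMul (R := k) (RingHom.id k) τ M (b.repr x)
    simpa using h
  let V0 : Submodule A A :=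
    { carrier := {x | ∀ τ ∈ vanForms σ b, pair τ x = 0}
      add_mem' := fun hx hy τ hτ => by rw [map_add, hx τ hτ, hy τ hτ, add_zero]
      zero_mem' := fun τ _ => map_zero _
      smul_mem' := fun a x hx τ hτ => by
        have h := hx _ (vecMul_lmat_mem σ b hτ a)
        rw [htrans, lmat, Algebra.leftMulMatrix_mulVec_repr, ← hpair] at h
        exact h }
  have hR : ∀ (u : Aˣ) x, x ∈ V0 → x * u ∈ V0 := fun u x hx τ hτ => by
    have h := hx _ (vecMul_rmat_mem σ b hτ u)
    rw [htrans, rmat, LinearMap.toMatrix_mulVec_repr, LinearMap.mulRight_apply, ← hpair] at h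
    exact h
  haveI : IsArtinianRing A := IsArtinianRing.of_finite k A
  obtain ⟨e, he, hV0⟩ := IsSemisimpleRing.ideal_eq_span_idempotent V0
  have heV : e ∈ V0 := hV0 ▸ Ideal.subset_span rfl
  have hmul : ∀ y ∈ V0, y * e = y := fun y hy => by
    obtain ⟨a, rfl⟩ := Ideal.mem_span_singleton'.mp (hV0.le hy)
    rw [mul_assoc, he.eq]
  have hz : ∀ x, e * x * (1 - e) = 0 := fun x => by
    let z := e * x * (1 - e)
    have hze : z * e = 0 := by simp [z, mul_assoc, sub_mul, he.eq]
    have hzz : z * z = 0 := by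
      change z * (e * x * (1 - e)) = 0
      rw [← mul_assoc, ← mul_assoc, hze, zero_mul, zero_mul]
    have hez : e * z = z := by simp [z, ← mul_assoc, he.eq]
    let u : Aˣ := ⟨1 + z, 1 - z, by simp [mul_sub, add_mul, hzz], by simp [mul_add, sub_mul, hzz]⟩
    have h1 : z ∈ V0 := by
      have h2 := sub_mem (hR u e heV) heV
      simpa [u, mul_add, hez] using h2
    exact (hmul z h1).symm.trans hze
  by_cases he0 : e = 0
  · refine (Submodule.eq_bot_iff _).mpr fun τ hτ => ?_
    by_contra hτ0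
    have htop : vanForms σ b = ⊤ := by
      by_contra hne
      obtain ⟨φ, hφ0, hφ⟩ := Submodule.exists_dual_map_eq_bot_of_lt_top (lt_top_iff_ne_top.mpr hne) inferInstance
      let x : A := ∑ j, φ (Pi.single j 1) • b j
      have hx : x ∈ V0 := fun τ' hτ' => by
        rw [hpair]
        have : φ τ' = 0 := (Submodule.eq_bot_iff _).mp hφ _ ⟨τ', hτ', rfl⟩
        rw [pi_eq_sum_univ' τ', map_sum] at this
        simpa [x, map_sum, Finsupp.single_apply, mul_comm] using this
      have hx0 : x = 0 := by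
        have h := hV0.le hx
        rw [he0] at h
        simpa using h
      refine hφ0 (LinearMap.pi_ext' fun j => LinearMap.ext_ring ?_)
      have h := congrArg (fun y => b.repr y j) hx0
      simpa [x, map_sum, Finsupp.single_apply] using h
    obtain ⟨V, hV, v, hv, hv0⟩ := exists_nontrivial_ideal σ b hn hc
    refine hv0 (funext fun j => ?_)
    have h := (htop.ge (trivial : Pi.single j (1 : k) ∈ ⊤)) V hV v hv
    simpa [Pi.single_apply] using h
  · have he1 : e = 1 := by
      let J : TwoSidedIdeal A := TwoSidedIdeal.mk' {y | ∀ x, y * x * (1 - e) = 0}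
        (fun x => by simp) (fun hy hy' x => by simp [add_mul, hy x, hy' x])
        (fun hy x => by simp [hy x])
        (fun {a y} hy x => by rw [mul_assoc a, mul_assoc a, hy x, mul_zero])
        (fun {y a} hy x => by rw [mul_assoc y a x]; exact hy (a * x))
      have heJ : e ∈ J := by
        rw [TwoSidedIdeal.mem_mk']
        exact hz
      rcases (IsSimpleRing.simple (R := A)).eq_bot_or_eq_top J with h | h
      · exact absurd (by rw [h] at heJ; exact (TwoSidedIdeal.mem_bot A).mp heJ) he0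
      · have h1 : (1 : A) ∈ J := by rw [h]; exact trivial
        rw [TwoSidedIdeal.mem_mk'] at h1
        have := h1 1
        rw [one_mul, one_mul, sub_eq_zero] at this
        exact this.symm
    refine (Submodule.eq_bot_iff _).mpr fun τ hτ => funext fun j => ?_
    have h1 : b j ∈ V0 := by rw [hV0, he1]; simp
    have := h1 τ hτ
    simpa [hpair, Finsupp.single_apply] using this

/-- Constant forms are linearly independent on the tautological bundle. -/
theorem eq_zero_of_fnl [IsSimpleRing A] [FiniteDimensional k A] [Nonempty X] {n : ℕ} (hn : 0 < n)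
    (hc : c + n = N) {τ : Fin N → k} (h : fnl σ b τ = 0) : τ = 0 := by
  refine (Submodule.eq_bot_iff _).mp (vanForms_eq_bot σ b hn hc) τ fun V hV v hv => ?_
  rw [← range_tCoo σ b hV] at hv
  obtain ⟨t, rfl⟩ := hv
  rw [← fnl_app, h]
  rfl

/-- A matrix killing all the ideals is zero. -/
theorem eq_zero_of_kills [IsSimpleRing A] [FiniteDimensional k A] [Nonempty X] {n : ℕ} (hn : 0 < n)
    (hc : c + n = N) {M : Matrix (Fin N) (Fin N) k}
    (h : ∀ (V : X.Opens) (hV : IsAffineOpen V), ∀ v ∈ N0 σ b hV, (M.map (algHom f V)).mulVec v = 0) :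
    M = 0 := by
  classical
  refine Matrix.ext fun i j => ?_
  refine congrFun ((Submodule.eq_bot_iff _).mp (vanForms_eq_bot σ b hn hc) (M i) fun V hV v hv => ?_) j
  exact congrFun (h V hV v hv) i

end Groth.Agent.SBTaut
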