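import Groth.Agent.Props.GenLocus
import Groth.Agent.KSMod.Descent
import Groth.Agent.VBLib.Basic
import Mathlib.CategoryTheory.Preadditive.Biproducts

/-!
# Free modules with coordinates
-/

set_option autoImplicit false
universe u

open CategoryTheory CategoryTheory.Limits AlgebraicGeometry Opposite TopologicalSpace
open Groth.Agent.QCoh Groth.Agent.Props.GenLocus

noncomputable section

namespace Groth.Agent.SBTaut

variable (X : Scheme.{u}) (N : ℕ)

instance : HasFiniteBiproducts X.Modules := Abelian.hasFiniteBiproducts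

/-- The free module. -/
abbrev FF : X.Modules := ⨁ fun _ : Fin N => Coh.structureModule X

instance isQuasicoherent_FF : (FF X N).IsQuasicoherent :=
  VBLib.isQuasicoherent_of_iso
    (M := FlatMod.freeMod X N) (biproduct.isoCoproduct fun _ : Fin N => Coh.structureModule X).symm
    (VBLib.isQuasicoherent_freeMod X N)

variable {X N}

/-- The coordinates of a section. -/
def coo {V : X.Opens} (m : Γ(FF X N, V)) : Fin N → Γ(X, V) :=
  fun j => (biproduct.π (fun _ : Fin N => Coh.structureModule X) j).app V m

/-- The section with given coordinates. -/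
def ofC {V : X.Opens} (v : Fin N → Γ(X, V)) : Γ(FF X N, V) :=
  ∑ i, (biproduct.ι (fun _ : Fin N => Coh.structureModule X) i).app V (v i)

theorem ofC_coo {V : X.Opens} (m : Γ(FF X N, V)) : ofC (coo m) = m := by
  have := congrArg (fun ψ : FF X N ⟶ FF X N => ψ.app V m)
    (biproduct.total (f := fun _ : Fin N => Coh.structureModule X))
  rw [KSMod.sum_app] at this
  exact this

theorem coo_ofC {V : X.Opens} (v : Fin N → Γ(X, V)) : coo (ofC v) = v := by
  classical
  funext j
  rw [coo, ofC, map_sum]
  refine (Finset.sum_eq_single j (fun i _ hi => ?_) (fun h => absurd (Finset.mem_univ j) h)).trans ?_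
  · exact (congrArg (fun ψ : Coh.structureModule X ⟶ Coh.structureModule X => ψ.app V (v i))
      (biproduct.ι_π_ne (fun _ : Fin N => Coh.structureModule X) hi))
  · exact (congrArg (fun ψ : Coh.structureModule X ⟶ Coh.structureModule X => ψ.app V (v j))
      (biproduct.ι_π_self (fun _ : Fin N => Coh.structureModule X) j))

theorem coo_injective {V : X.Opens} {m m' : Γ(FF X N, V)} (h : coo m = coo m') : m = m' := by
  rw [← ofC_coo m, ← ofC_coo m', h]

theorem coo_add {V : X.Opens} (m m' : Γ(FF X N, V)) : coo (m + m') = coo m + coo m' :=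
  funext fun j => map_add _ m m'

theorem coo_smul {V : X.Opens} (r : Γ(X, V)) (m : Γ(FF X N, V)) : coo (r • m) = r • coo m :=
  funext fun j => Scheme.Modules.Hom.app_smul _ r m

/-- The coordinates as a linear map. -/
def cooLin (V : X.Opens) : Γ(FF X N, V) →ₗ[Γ(X, V)] (Fin N → Γ(X, V)) where
  toFun := coo
  map_add' := coo_add
  map_smul' := coo_smul

theorem coo_res {U V : X.Opens} (h : V ≤ U) (m : Γ(FF X N, U)) :
    coo (res (FF X N) h m) = fun i => rres h (coo m i) :=
  funext fun j => app_res (biproduct.π (fun _ : Fin N => Coh.structureModule X) j) h m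

theorem coo_sum {V : X.Opens} {ι : Type*} (s : Finset ι) (m : ι → Γ(FF X N, V)) :
    coo (∑ a ∈ s, m a) = ∑ a ∈ s, coo (m a) :=
  map_sum (cooLin V) m s

theorem ofC_res {U V : X.Opens} (h : V ≤ U) (v : Fin N → Γ(X, U)) :
    res (FF X N) h (ofC v) = ofC (fun i => rres h (v i)) :=
  coo_injective (by rw [coo_res, coo_ofC, coo_ofC])

/-- The standard frame. -/
def std (i : Fin N) : Γ(FF X N, ⊤) := ofC (Pi.single i 1)

theorem comb_std {V : X.Opens} (a : Fin N → Γ(X, V)) :
    LFFrame.comb (FF X N) std (le_top : V ≤ ⊤) a = ofC a := by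
  classical
  refine coo_injective ?_
  rw [coo_ofC]
  funext j
  change coo (∑ i, a i • res (FF X N) le_top (std i)) j = a j
  rw [coo_sum, Finset.sum_apply]
  refine (Finset.sum_eq_single j (fun i _ hi => ?_) (fun h => absurd (Finset.mem_univ j) h)).trans ?_
  · rw [coo_smul, Pi.smul_apply, coo_res, std, coo_ofC]
    show a i * rres _ (Pi.single (M := fun _ : Fin N => Γ(X, ⊤)) i 1 j) = 0
    rw [Pi.single_eq_of_ne (Ne.symm hi), map_zero, mul_zero]
  · rw [coo_smul, Pi.smul_apply, coo_res, std, coo_ofC]
    show a j * rres _ (Pi.single (M := fun _ : Fin N => Γ(X, ⊤)) j 1 j) = a j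
    rw [Pi.single_eq_same, map_one, mul_one]

theorem isFrame_std : LFFrame.IsFrame (FF X N) ⊤ (std (X := X) (N := N)) := fun V h => by
  rw [show LFFrame.comb (FF X N) std h = ofC from funext comb_std]
  exact ⟨fun v w e => by rw [← coo_ofC v, e, coo_ofC], fun m => ⟨coo m, ofC_coo m⟩⟩

/-- The endomorphism with a given matrix of global functions. -/
def matEnd (M : Matrix (Fin N) (Fin N) Γ(X, ⊤)) : FF X N ⟶ FF X N :=
  ∑ i, ∑ j, biproduct.π (fun _ : Fin N => Coh.structureModule X) j ≫
    KSMod.scal (Coh.structureModule X) (M i j) ≫ biproduct.ι (fun _ : Fin N => Coh.structureModule X) i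

theorem coo_matEnd (M : Matrix (Fin N) (Fin N) Γ(X, ⊤)) {V : X.Opens} (m : Γ(FF X N, V)) :
    coo ((matEnd M).app V m) = (M.map (rres (le_top : V ≤ ⊤))).mulVec (coo m) := by
  have h1 : (matEnd M).app V m = ofC ((M.map (rres (le_top : V ≤ ⊤))).mulVec (coo m)) := by
    rw [matEnd, KSMod.sum_app, ofC]
    refine Finset.sum_congr rfl fun i _ => ?_
    rw [KSMod.sum_app]
    refine Eq.trans ?_ (map_sum ((biproduct.ι (fun _ : Fin N => Coh.structureModule X) i).app V).hom
      (fun j => (show Γ(Coh.structureModule X, V) from M.map (rres (le_top : V ≤ ⊤)) i j * coo m j)) Finset.univ).symm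
    exact Finset.sum_congr rfl fun j _ => congrArg
      ((biproduct.ι (fun _ : Fin N => Coh.structureModule X) i).app V)
      (KSMod.scal_app (Coh.structureModule X) (M i j) V (coo m j))
  rw [h1, coo_ofC]

/-- Morphisms into the free module are determined by coordinates. -/
theorem hom_ext_coo {M : X.Modules} {a a' : M ⟶ FF X N}
    (h : ∀ (V : X.Opens) (m : Γ(M, V)), coo (a.app V m) = coo (a'.app V m)) : a = a' :=
  Scheme.Modules.hom_ext a a' fun V => ConcreteCategory.hom_ext _ _ fun m => coo_injective (h V m)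

end Groth.Agent.SBTaut
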