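import Groth.Agent.SBTaut.Ring
import Mathlib.RingTheory.MatrixAlgebra
import Mathlib.Data.Matrix.Basis

/-!
# Row ideals in split algebras
-/

set_option autoImplicit false
universe u

open scoped TensorProduct

noncomputable section

namespace Groth.Agent.SBTaut

variable {k : Type u} [Field k] {A : Type u} [Ring A] [Algebra k A] {N c n : ℕ}
  (b : Module.Basis (Fin N) k A) {K : Type u} [Field K] [Algebra k K]
  (θ : K ⊗[k] A ≃ₐ[K] Matrix (Fin n) (Fin n) K)
  (R : Type u) [CommRing R] [Algebra k R] [Algebra K R] [IsScalarTower k K R]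

/-- The images of the elements of `A` as matrices. -/
def mA : A →ₐ[k] Matrix (Fin n) (Fin n) R :=
  ((Algebra.ofId K R).mapMatrix.restrictScalars k).comp
    ((θ.toAlgHom.restrictScalars k).comp Algebra.TensorProduct.includeRight)

/-- The splitting over a `K`-algebra. -/
def mHom : R ⊗[k] A →ₐ[R] Matrix (Fin n) (Fin n) R :=
  Algebra.TensorProduct.lift (Algebra.ofId R (Matrix (Fin n) (Fin n) R)) (mA θ R)
    fun r _ => Algebra.commutes r _

theorem mHom_bijective : Function.Bijective (mHom θ R) := by
  let e := ((TensorProduct.AlgebraTensorModule.cancelBaseChange k K R R A).symm.restrictScalars K).trans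
    ((TensorProduct.congr (LinearEquiv.refl K R) θ.toLinearEquiv).trans
      (matrixEquivTensor (Fin n) K R).symm.toLinearEquiv)
  have h : (mHom θ R : R ⊗[k] A → Matrix (Fin n) (Fin n) R) = e := by
    funext x
    induction x using TensorProduct.induction_on with
    | zero => rw [map_zero, map_zero]
    | add x y hx hy => rw [map_add, map_add, hx, hy]
    | tmul r a =>
      change algebraMap R _ r * mA θ R a = _
      rw [← Algebra.smul_def]
      simp [e, mA]
      rfl
  rw [h]
  exact e.bijective

/-- Coordinates to matrices. -/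
def gMat : (Fin N → R) ≃ₗ[R] Matrix (Fin n) (Fin n) R :=
  (crd b R).symm.trans (LinearEquiv.ofBijective (mHom θ R).toLinearMap (mHom_bijective θ R))

theorem gMat_crd (x : R ⊗[k] A) : gMat b θ R (crd b R x) = mHom θ R x := by simp [gMat]

theorem gMat_apply (v : Fin N → R) : gMat b θ R v = ∑ i, v i • mA θ R (b i) := by
  have h : v = crd b R (∑ i, v i ⊗ₜ b i) := by
    rw [map_sum]
    funext j
    rw [Finset.sum_apply, Finset.sum_eq_single j (fun i _ hi => by simp [crd_tmul, hi])
      (fun h => absurd (Finset.mem_univ j) h)]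
    simp [crd_tmul]
  conv_lhs => rw [h, gMat_crd, map_sum]
  refine Finset.sum_congr rfl fun i _ => ?_
  change algebraMap R _ (v i) * mA θ R (b i) = _
  rw [← Algebra.smul_def]

variable {R}

theorem gMat_map {S : Type u} [CommRing S] [Algebra k S] [Algebra K S] [IsScalarTower k K S]
    (φ : R →+* S) (hφ : ∀ a : K, φ (algebraMap K R a) = algebraMap K S a) (v : Fin N → R) :
    gMat b θ S (fun i => φ (v i)) = (gMat b θ R v).map φ := by
  rw [gMat_apply, gMat_apply]
  ext a a'
  simp [Matrix.sum_apply, map_sum, mA, hφ]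

/-- Projection with kernel the matrices with rows proportional to `x`. -/
def rowPr (x : Fin n → R) (i₀ : Fin n) :
    Matrix (Fin n) (Fin n) R →ₗ[R] (Fin n × {j : Fin n // j ≠ i₀} → R) where
  toFun M z := M z.1 z.2.1 - M z.1 i₀ * x z.2.1
  map_add' M M' := funext fun z => by simp [add_mul, sub_add_sub_comm]
  map_smul' r M := funext fun z => by simp [mul_sub, mul_assoc]

variable {x : Fin n → R} {i₀ : Fin n}

theorem rowPr_surjective (x : Fin n → R) (i₀ : Fin n) : Function.Surjective (rowPr x i₀) := fun y =>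
  ⟨Matrix.of fun a j => if h : j = i₀ then 0 else y (a, ⟨j, h⟩), funext fun z => by
    simp [rowPr, z.2.2]⟩

theorem mem_ker_rowPr (hx : x i₀ = 1) (M : Matrix (Fin n) (Fin n) R) :
    rowPr x i₀ M = 0 ↔ ∀ a j, M a j = M a i₀ * x j := by
  refine ⟨fun h a j => ?_, fun h => funext fun z => sub_eq_zero.mpr (h z.1 z.2.1)⟩
  by_cases hj : j = i₀
  · rw [hj, hx, mul_one]
  · exact sub_eq_zero.mp (congrFun h (a, ⟨j, hj⟩))

/-- The left ideal of matrices with rows proportional to `x`. -/
def rowI [Nontrivial R] (x : Fin n → R) (i₀ : Fin n) (hx : x i₀ = 1) (hc : c + n = n * n) :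
    BrSev.SBSet k A c R :=
  let π : R ⊗[k] A →ₗ[R] (Fin n × {j : Fin n // j ≠ i₀} → R) :=
    (rowPr x i₀).comp (mHom θ R).toLinearMap
  let e := π.quotKerEquivOfSurjective ((rowPr_surjective x i₀).comp (mHom_bijective θ R).2)
  ⟨{ toSubmodule := LinearMap.ker π
     finite_quotient := Module.Finite.equiv e.symm
     projective_quotient := Module.Projective.of_equiv e.symm
     rankAtStalk_eq := fun p => by
       rw [Module.rankAtStalk_eq_of_equiv e, Module.rankAtStalk_eq_finrank_of_free, Pi.natCast_apply,
         Module.finrank_pi, Fintype.card_prod, Fintype.card_subtype_compl, Fintype.card_subtype_eq,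
         Fintype.card_fin, Nat.mul_sub, mul_one]
       simpa using Nat.eq_sub_of_add_eq hc |>.symm },
   fun a y hy => by
    have hy' : ∀ l j, mHom θ R y l j = mHom θ R y l i₀ * x j := (mem_ker_rowPr hx _).mp hy
    refine (mem_ker_rowPr hx _).mpr fun l j => ?_
    change mHom θ R (a * y) l j = mHom θ R (a * y) l i₀ * x j
    rw [map_mul, Matrix.mul_apply, Matrix.mul_apply, Finset.sum_mul]
    exact Finset.sum_congr rfl fun z _ => by rw [hy' z j, mul_assoc]⟩

variable (R) in
/-- The generators of the row ideal in coordinates. -/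
def rowVec (x : Fin n → R) (a : Fin n) : Fin N → R :=
  (gMat b θ R).symm (Matrix.of fun l j => if l = a then x j else 0)

theorem gMat_rowVec (x : Fin n → R) (a l j : Fin n) :
    gMat b θ R (rowVec b θ R x a) l j = if l = a then x j else 0 := by
  rw [rowVec, LinearEquiv.apply_symm_apply]
  rfl

theorem rowVec_smul (r : R) (x : Fin n → R) (a : Fin n) :
    rowVec b θ R (r • x) a = r • rowVec b θ R x a := by
  rw [rowVec, rowVec, ← map_smul]
  congr 1
  ext l j
  simp

theorem rowVec_map {S : Type u} [CommRing S] [Algebra k S] [Algebra K S] [IsScalarTower k K S]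
    (φ : R →+* S) (hφ : ∀ a : K, φ (algebraMap K R a) = algebraMap K S a) (x : Fin n → R) (a : Fin n) :
    (fun i => φ (rowVec b θ R x a i)) = rowVec b θ S (fun j => φ (x j)) a := by
  apply (gMat b θ S).injective
  rw [gMat_map b θ φ hφ]
  ext l j
  rw [Matrix.map_apply, gMat_rowVec, gMat_rowVec]
  split_ifs <;> simp

theorem rowVec_independent (hx : x i₀ = 1) :
    Function.Injective (fun v : Fin n → R => ∑ a, v a • rowVec b θ R x a) := fun v w h => by
  funext l
  have := congrArg (fun u => gMat b θ R u l i₀) h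
  simpa [map_sum, Matrix.sum_apply, gMat_rowVec, hx] using this

theorem cN_rowI [Nontrivial R] (hx : x i₀ = 1) (hc : c + n = n * n) :
    cN b (rowI θ x i₀ hx hc (A := A) (k := k)) = Submodule.span R (Set.range (rowVec b θ R x)) := by
  refine le_antisymm ?_ (Submodule.span_le.mpr ?_)
  · rintro _ ⟨y, hy, rfl⟩
    have hy' : ∀ l j, mHom θ R y l j = mHom θ R y l i₀ * x j := (mem_ker_rowPr hx _).mp hy
    refine (Submodule.mem_span_range_iff_exists_fun _).mpr ⟨fun a => mHom θ R y a i₀, ?_⟩
    apply (gMat b θ R).injective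
    ext l j
    rw [LinearEquiv.coe_coe, gMat_crd, hy' l j]
    simp [map_sum, Matrix.sum_apply, gMat_rowVec]
  · rintro _ ⟨a, rfl⟩
    refine ⟨(crd b R).symm (rowVec b θ R x a), (mem_ker_rowPr hx _).mpr fun l j => ?_,
      (crd b R).apply_symm_apply _⟩
    have h : mHom θ R ((crd b R).symm (rowVec b θ R x a)) = gMat b θ R (rowVec b θ R x a) := by
      rw [← gMat_crd b, LinearEquiv.apply_symm_apply]
    change mHom θ R _ l j = mHom θ R _ l i₀ * x j
    rw [h, gMat_rowVec, gMat_rowVec]
    split_ifs <;> simp [hx]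

end Groth.Agent.SBTaut
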