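import Groth.Agent.SBTaut.Pull
import Groth.Agent.SBTaut.MatIdeal
import Groth.Agent.PicPn.LineSplit

/-!
# A line in a split Severi–Brauer scheme
-/

set_option autoImplicit false
universe u

open CategoryTheory CategoryTheory.Limits AlgebraicGeometry Opposite TopologicalSpace
open Groth.Agent.QCoh Groth.Agent.ProjTwist Groth.Agent.PicPn Twist
open scoped TensorProduct

noncomputable section

namespace Groth.Agent.SBTaut

theorem toGlobal_comp {Y : Scheme.{u}} {k K : Type u} [CommRing k] [CommRing K]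
    (q : Y ⟶ Spec (CommRingCat.of K)) (φ : k →+* K) :
    Coh.toGlobal (q ≫ Spec.map (CommRingCat.ofHom φ)) = (Coh.toGlobal q).comp φ := by
  refine RingHom.ext fun a => ?_
  have h := congrArg (fun g : CommRingCat.of k ⟶ Γ(Spec (CommRingCat.of K), ⊤) => g a)
    (Scheme.ΓSpecIso_inv_naturality (CommRingCat.ofHom φ))
  exact congrArg q.appTop h.symm

/-- Morphisms on an open cover glue. -/
theorem exists_glue_hom {P X : Scheme.{u}} {ι : Type} (U : ι → P.Opens) (hU : IsOpenCover U)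
    (g : ∀ i, (U i : Scheme.{u}) ⟶ X)
    (h : ∀ i j, P.homOfLE (inf_le_left : U i ⊓ U j ≤ U i) ≫ g i =
      P.homOfLE (inf_le_right : U i ⊓ U j ≤ U j) ≫ g j) :
    ∃ ψ : P ⟶ X, ∀ i, (U i).ι ≫ ψ = g i := by
  refine ⟨Scheme.Cover.glueMorphisms (P.openCoverOfIsOpenCover U hU) g fun i j => ?_,
    fun i => Scheme.Cover.ι_glueMorphisms (P.openCoverOfIsOpenCover U hU) g _ i⟩
  refine (cancel_epi (isPullback_opens_inf (U i) (U j)).isoPullback.hom).mp ?_
  erw [(isPullback_opens_inf (U i) (U j)).isoPullback_hom_fst_assoc,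
    (isPullback_opens_inf (U i) (U j)).isoPullback_hom_snd_assoc]
  exact h i j

theorem homOfLE_isoSpec {P : Scheme.{u}} {U V : P.Opens} (hU : IsAffineOpen U) (hV : IsAffineOpen V)
    (e : V ≤ U) :
    P.homOfLE e ≫ hU.isoSpec.hom = hV.isoSpec.hom ≫ Spec.map (rres e) := by
  rw [← cancel_mono hU.fromSpec, Category.assoc, Category.assoc,
    IsAffineOpen.map_fromSpec hU hV (homOfLE e).op, IsAffineOpen.isoSpec_hom_fromSpec,
    IsAffineOpen.isoSpec_hom_fromSpec, Scheme.homOfLE_ι]

variable {k : Type u} [Field k] {A : Type u} [Ring A] [Algebra k A] {c N : ℕ} {X : Scheme.{u}}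
  {f : X ⟶ Spec (CommRingCat.of k)} (σ : BrSev.SBStr k A c f) (b : Module.Basis (Fin N) k A)
  (K : Type u) [Field K] [Algebra k K]

/-- The line over `k`. -/
abbrev hLine : CohB1.ProjSpace 1 K ⟶ Spec (CommRingCat.of k) :=
  CohB1.ProjSpace.toSpec 1 K ≫ Spec.map (CommRingCat.ofHom (algebraMap k K))

variable {K}

theorem tower (V : (CohB1.ProjSpace 1 K).Opens) :
    letI := alg (hLine (k := k) K) V
    letI := alg (CohB1.ProjSpace.toSpec 1 K) V
    IsScalarTower k K Γ(CohB1.ProjSpace 1 K, V) := by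
  letI := alg (hLine (k := k) K) V
  letI := alg (CohB1.ProjSpace.toSpec 1 K) V
  refine IsScalarTower.of_algebraMap_eq fun a => ?_
  exact congrArg ((CohB1.ProjSpace 1 K).presheaf.map (homOfLE (le_top : V ≤ ⊤)).op)
    (RingHom.congr_fun (toGlobal_comp (CohB1.ProjSpace.toSpec 1 K) (algebraMap k K)) a)

theorem rres_algHom {Y : Scheme.{u}} (h : Y ⟶ Spec (CommRingCat.of K)) {U V : Y.Opens} (e : V ≤ U)
    (a : K) : rres e (algHom h U a) = algHom h V a :=
  rres_rres (le_top : U ≤ ⊤) e (Coh.toGlobal h a)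

theorem isAffineOpen_U01 : IsAffineOpen (U01 K) := by
  have hV : U01 K = Proj.basicOpen (CohB1.polyGrading 1 K) (MvPolynomial.X 0 * MvPolynomial.X 1) :=
    (Proj.basicOpen_mul (CohB1.polyGrading 1 K) (MvPolynomial.X 0) (MvPolynomial.X 1)).symm
  rw [hV]
  exact Proj.isAffineOpen_basicOpen _ _
    (SetLike.mul_mem_graded (X_mem_polyGrading 1 K 0) (X_mem_polyGrading 1 K 1)) (by omega)

variable {n : ℕ} (hn : 2 ≤ n)

/-- Two coordinates of `K^n`. -/
def two (i : Fin 2) : Fin n := ⟨i.1, lt_of_lt_of_le i.2 hn⟩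

/-- The moving vector on a chart of the line. -/
def xv (i : Fin 2) : Fin n → Γ(CohB1.ProjSpace 1 K, stdOpen 1 K i) :=
  fun j => if j = two hn i then 1 else if j = two hn (i + 1) then ratio i (i + 1) else 0

theorem xv_self (i : Fin 2) : xv (K := K) hn i (two hn i) = 1 := if_pos rfl

theorem res_xv :
    (fun j => rres (inf_le_right : U01 K ≤ _) (xv hn 1 j)) =
      ((tOv (k := K))⁻¹).val • fun j => rres (inf_le_left : U01 K ≤ _) (xv hn 0 j) := by
  have h01 : two hn (0 : Fin 2) ≠ two hn 1 := fun h => by simp [two, Fin.ext_iff] at h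
  funext j
  rw [Pi.smul_apply, smul_eq_mul, xv, xv, show (1 : Fin 2) + 1 = 0 from rfl,
    show (0 : Fin 2) + 1 = 1 from rfl]
  by_cases h1 : j = two hn 1
  · subst h1
    rw [if_pos rfl, if_neg h01.symm, if_pos rfl, map_one]
    exact (Units.inv_mul (tOv (k := K))).symm
  · by_cases h0 : j = two hn 0
    · subst h0
      rw [if_neg h1, if_pos rfl, if_pos rfl, map_one, mul_one]
      rfl
    · rw [if_neg h1, if_neg h0, if_neg h0, if_neg h1, map_zero, map_zero, mul_zero]

variable (θ : K ⊗[k] A ≃ₐ[K] Matrix (Fin n) (Fin n) K)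

include σ b θ hn in
/-- A line along which the tautological bundle is a sum of copies of `O(-1)`. -/
theorem exists_line (hc : c + n = n * n) :
    ∃ ψ : CohB1.ProjSpace 1 K ⟶ X, ψ ≫ f = hLine (k := k) K ∧
      Nonempty ((Scheme.Modules.pullback ψ).obj (taut σ b) ≅
        ∐ fun _ : Fin n => twistProjSpace 1 K (-1)) := by
  let P := CohB1.ProjSpace 1 K
  let hK : P ⟶ Spec (CommRingCat.of K) := CohB1.ProjSpace.toSpec 1 K
  let hk : P ⟶ Spec (CommRingCat.of k) := hLine (k := k) K
  letI aK : ∀ V : P.Opens, Algebra K Γ(P, V) := fun V => alg hK V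
  letI ak : ∀ V : P.Opens, Algebra k Γ(P, V) := fun V => alg hk V
  haveI htw : ∀ V : P.Opens, IsScalarTower k K Γ(P, V) := tower
  haveI hnt : ∀ i : Fin 2, Nontrivial Γ(P, stdOpen 1 K i) := fun i =>
    (valHom (η_mem_stdOpen (n := 1) (K := K) i)).domain_nontrivial
  haveI : Nontrivial Γ(P, U01 K) := (valHom (η_mem_U01 (k := K))).domain_nontrivial
  have hU : ∀ i : Fin 2, IsAffineOpen (stdOpen 1 K i) := isAffineOpen_stdOpen 1 K
  let hU01 := isAffineOpen_U01 (K := K)
  let I : ∀ i : Fin 2, BrSev.SBSet k A c Γ(P, stdOpen 1 K i) := fun i =>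
    rowI θ (xv hn i) (two hn i) (xv_self hn i) hc
  let p : ∀ i : Fin 2, BrSev.Pts f Γ(P, stdOpen 1 K i) := fun i => (σ.bij _).symm (I i)
  let φ : ∀ i : Fin 2, ∀ e : U01 K ≤ stdOpen 1 K i, Γ(P, stdOpen 1 K i) →ₐ[k] Γ(P, U01 K) :=
    fun i e => { (rres e).hom with commutes' := fun a => rres_algHom hk e a }
  have hx : ∀ (i : Fin 2) (V : P.Opens) (e : V ≤ stdOpen 1 K i) (a : Fin n),
      (fun l => rres e (rowVec b θ _ (xv hn i) a l)) =
        rowVec b θ Γ(P, V) (fun j => rres e (xv hn i j)) a :=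
    fun i V e a => rowVec_map b θ (rres e).hom (fun a => rres_algHom hK e a) _ a
  have hkey : BrSev.Pts.map f (φ 0 inf_le_left) (p 0) = BrSev.Pts.map f (φ 1 inf_le_right) (p 1) := by
    refine (σ.bij _).injective (Subtype.ext (Module.Grassmannian.ext
      (Submodule.map_injective_of_injective (crd b Γ(P, U01 K)).injective ?_)))
    change cN b (σ.bij _ _) = cN b (σ.bij _ _)
    rw [cN_natural, cN_natural, Equiv.apply_symm_apply, Equiv.apply_symm_apply, cN_rowI, cN_rowI]
    have himg : ∀ (i : Fin 2) (e : U01 K ≤ stdOpen 1 K i),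
        Submodule.span Γ(P, U01 K) ((fun (v : Fin N → Γ(P, stdOpen 1 K i)) l => φ i e (v l)) ''
          (Submodule.span Γ(P, stdOpen 1 K i) (Set.range (rowVec b θ Γ(P, stdOpen 1 K i) (xv hn i))) : Set (Fin N → Γ(P, stdOpen 1 K i)))) =
        Submodule.span Γ(P, U01 K) (Set.range (rowVec b θ _ (fun j => rres e (xv hn i j)))) := by
      intro i e
      refine le_antisymm (Submodule.span_le.mpr ?_) (Submodule.span_le.mpr ?_)
      · rintro _ ⟨v, hv, rfl⟩
        obtain ⟨c', rfl⟩ := (Submodule.mem_span_range_iff_exists_fun _).mp hv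
        refine (Submodule.mem_span_range_iff_exists_fun _).mpr ⟨fun a => rres e (c' a), funext fun l => ?_⟩
        simp [φ, map_sum]
        exact Finset.sum_congr rfl fun a _ => congrArg _ (congrFun (hx i _ e a) l).symm
      · rintro _ ⟨a, rfl⟩
        exact Submodule.subset_span ⟨_, Submodule.subset_span ⟨a, rfl⟩, hx i _ e a⟩
    rw [himg, himg, res_xv hn]
    refine le_antisymm (Submodule.span_le.mpr ?_) (Submodule.span_le.mpr ?_)
    · rintro _ ⟨a, rfl⟩
      have := Submodule.smul_mem (Submodule.span Γ(P, U01 K) (Set.range (rowVec b θ _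
        (((tOv (k := K))⁻¹).val • fun j => rres (inf_le_left : U01 K ≤ _) (xv hn 0 j)))))
        (tOv (k := K)).val (Submodule.subset_span ⟨a, rfl⟩)
      rwa [rowVec_smul, smul_smul, Units.mul_inv, one_smul] at this
    · rintro _ ⟨a, rfl⟩
      rw [rowVec_smul]
      exact Submodule.smul_mem _ _ (Submodule.subset_span ⟨a, rfl⟩)
  let g : ∀ i : Fin 2, (stdOpen 1 K i : Scheme.{u}) ⟶ X := fun i => (hU i).isoSpec.hom ≫ (p i).1
  have hoverlap : P.homOfLE (inf_le_left : U01 K ≤ stdOpen 1 K 0) ≫ g 0 =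
      P.homOfLE (inf_le_right : U01 K ≤ stdOpen 1 K 1) ≫ g 1 := by
    rw [reassoc_of% (homOfLE_isoSpec (hU 0) hU01 inf_le_left),
      reassoc_of% (homOfLE_isoSpec (hU 1) hU01 inf_le_right)]
    exact congrArg (hU01.isoSpec.hom ≫ ·) (congrArg Subtype.val hkey)
  obtain ⟨ψ, hψ⟩ := exists_glue_hom (fun i : Fin 2 => stdOpen 1 K i) (iSup_stdOpen 1 K) g fun i j => by
    obtain rfl | rfl : i = 0 ∨ i = 1 := by omega
    all_goals obtain rfl | rfl : j = 0 ∨ j = 1 := by omega
    · rfl
    · exact hoverlap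
    · rw [← P.homOfLE_homOfLE (le_inf inf_le_right inf_le_left : stdOpen 1 K 1 ⊓ stdOpen 1 K 0 ≤ U01 K)
          (inf_le_right : U01 K ≤ stdOpen 1 K 1),
        ← P.homOfLE_homOfLE (le_inf inf_le_right inf_le_left : stdOpen 1 K 1 ⊓ stdOpen 1 K 0 ≤ U01 K)
          (inf_le_left : U01 K ≤ stdOpen 1 K 0), Category.assoc, Category.assoc, hoverlap]
    · rfl
  have hw : ψ ≫ f = hk := by
    refine (P.openCoverOfIsOpenCover _ (iSup_stdOpen 1 K)).hom_ext _ _ fun i => ?_
    change (stdOpen 1 K i).ι ≫ ψ ≫ f = (stdOpen 1 K i).ι ≫ hk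
    rw [← Category.assoc, hψ i]
    change ((hU i).isoSpec.hom ≫ (p i).1) ≫ f = _
    rw [Category.assoc, (p i).2]
    exact ((congrArg ((hU i).isoSpec.hom ≫ ·) (fromSpec_comp hk (hU i)).symm).trans
      ((hU i).isoSpec_hom_fromSpec_assoc hk))
  have hNV : ∀ i, NV σ b ψ hw (hU i) =
      Submodule.span Γ(P, stdOpen 1 K i) (Set.range (rowVec b θ _ (xv hn i))) := fun i => by
    have hp : pt (f := f) ψ hw (hU i) = p i := Subtype.ext (by
      change (hU i).fromSpec ≫ ψ = (p i).1
      rw [← IsAffineOpen.isoSpec_inv_ι, Category.assoc, hψ i]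
      exact Iso.inv_hom_id_assoc _ _)
    change cN b (σ.bij _ (pt (f := f) ψ hw (hU i))) = _
    rw [hp, Equiv.apply_symm_apply, cN_rowI]
  choose fr hfr using fun (i : Fin 2) (a : Fin n) => exists_sec ψ σ b hw (hU i)
    ((hNV i).ge (Submodule.subset_span ⟨a, rfl⟩))
  have hframe : ∀ i, LFFrame.IsFrame _ (stdOpen 1 K i) (fr i) := fun i => by
    refine isFrame_of_coo ψ σ b hw (hU i) ?_ fun V e => ?_
    · rw [hNV i]
      exact congrArg (fun v => Submodule.span _ (Set.range v)) (funext fun a => (hfr i a).symm)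
    · intro v w' h
      refine rowVec_independent b θ (R := Γ(P, V)) (x := fun j => rres e (xv hn i j)) (i₀ := two hn i)
        (by rw [xv_self, map_one]) ?_
      funext l
      have := congrFun h l
      simp only [hfr] at this
      simp only [Finset.sum_apply, Pi.smul_apply, smul_eq_mul]
      refine Eq.trans ?_ (this.trans ?_)
      · exact Finset.sum_congr rfl fun a _ => congrArg (v a * ·) (congrFun (hx i V e a) l).symm
      · exact Finset.sum_congr rfl fun a _ => congrArg (w' a * ·) (congrFun (hx i V e a) l)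
  refine ⟨ψ, hw, nonempty_iso_of_frames (fun _ => -1) fr hframe fun a => ?_⟩
  refine pCoo_injective ψ σ b _ ?_
  rw [pCoo_res, hfr, map_smul, pCoo_res, hfr, hx, hx, zpow_neg_one, ← rowVec_smul, res_xv hn]

end Groth.Agent.SBTaut
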