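import Groth.Agent.SBTaut.MatIdeal
import Mathlib.RingTheory.Nakayama
import Mathlib.RingTheory.Spectrum.Prime.FreeLocus

/-!
# Left ideals of matrix algebras are locally row ideals
-/

set_option autoImplicit false
universe u

open scoped TensorProduct

noncomputable section

namespace Groth.Agent.SBTaut

variable {k : Type u} [Field k] {A : Type u} [Ring A] [Algebra k A] {N c n : ℕ}
  (b : Module.Basis (Fin N) k A) {K : Type u} [Field K] [Algebra k K]
  (θ : K ⊗[k] A ≃ₐ[K] Matrix (Fin n) (Fin n) K)
  {R : Type u} [CommRing R] [Algebra k R] [Algebra K R] [IsScalarTower k K R]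

/-- Ideals in coordinates determine the ideal. -/
theorem cN_injective {I J : BrSev.SBSet k A c R} (h : cN b I = cN b J) : I = J :=
  Subtype.ext (Module.Grassmannian.ext (Submodule.map_injective_of_injective (crd b R).injective h))

/-- Projective quotients of the same rank: an inclusion is an equality. -/
theorem cN_eq_of_le {I J : BrSev.SBSet k A c R} (h : cN b I ≤ cN b J) : cN b I = cN b J := by
  refine le_antisymm h fun v hv => ?_
  let π : ((Fin N → R) ⧸ cN b I) →ₗ[R] ((Fin N → R) ⧸ cN b J) :=
    Submodule.mapQ _ _ LinearMap.id (by simpa using h)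
  have hπ : Function.Surjective π := fun q => by
    obtain ⟨w, rfl⟩ := Submodule.mkQ_surjective _ q
    exact ⟨Submodule.Quotient.mk w, rfl⟩
  let eI := Submodule.Quotient.equiv I.1.toSubmodule (cN b I) (crd b R) rfl
  let eJ := Submodule.Quotient.equiv J.1.toSubmodule (cN b J) (crd b R) rfl
  haveI : Module.Projective R ((Fin N → R) ⧸ cN b I) := Module.Projective.of_equiv eI
  haveI : Module.Projective R ((Fin N → R) ⧸ cN b J) := Module.Projective.of_equiv eJ
  haveI : Module.Finite R ((Fin N → R) ⧸ cN b I) := Module.Finite.equiv eI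
  haveI : Module.Finite R ((Fin N → R) ⧸ cN b J) := Module.Finite.equiv eJ
  obtain ⟨s, hs⟩ := Module.projective_lifting_property π LinearMap.id hπ
  let Ker := LinearMap.ker π
  let P : ((Fin N → R) ⧸ cN b I) →ₗ[R] Ker :=
    (LinearMap.id - s.comp π).codRestrict Ker fun q => by
      rw [LinearMap.mem_ker, LinearMap.sub_apply, LinearMap.id_apply, LinearMap.comp_apply, map_sub]
      exact sub_eq_zero.mpr (LinearMap.congr_fun hs (π q)).symm
  have hP : ∀ q : Ker, P q = q := fun q => Subtype.ext (by
    simp [P, LinearMap.mem_ker.1 q.2])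
  haveI : Module.Finite R Ker := Module.Finite.of_surjective P fun q => ⟨q, hP q⟩
  haveI : Module.Projective R Ker := Module.Projective.of_split Ker.subtype P (LinearMap.ext hP)
  have hbij : Function.Bijective (P.prod π) := by
    constructor
    · intro a a' haa
      have h2 : π a = π a' := congrArg Prod.snd haa
      have h1 := congrArg (fun z : Ker × _ => (z.1 : (Fin N → R) ⧸ cN b I)) haa
      simp [P, h2] at h1
      exact h1
    · rintro ⟨q, z⟩
      have hsz : π (s z) = z := LinearMap.congr_fun hs z
      have hq : π q = 0 := LinearMap.mem_ker.1 q.2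
      exact ⟨q + s z, Prod.ext (Subtype.ext (by simp [P, hsz, hq])) (by simp [hsz, hq])⟩
  have hr : ∀ p, Module.rankAtStalk (R := R) Ker p = 0 := fun p => by
    have h1 := congrFun (Module.rankAtStalk_eq_of_equiv (LinearEquiv.ofBijective _ hbij)) p
    rw [Module.rankAtStalk_prod, Pi.add_apply, ← Module.rankAtStalk_eq_of_equiv eI,
      ← Module.rankAtStalk_eq_of_equiv eJ, I.1.rankAtStalk_eq, J.1.rankAtStalk_eq] at h1
    omega
  have : Subsingleton Ker := (Module.rankAtStalk_eq_zero_iff_subsingleton).1 (funext hr)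
  have h0 : (Submodule.Quotient.mk v : (Fin N → R) ⧸ cN b I) ∈ Ker :=
    (Submodule.Quotient.mk_eq_zero _).2 hv
  exact (Submodule.Quotient.mk_eq_zero _).1 (congrArg Subtype.val (Subsingleton.elim
    (⟨_, h0⟩ : Ker) 0))

/-- The rows of an element of the ideal give elements of the ideal. -/
theorem rowVec_mem (I : BrSev.SBSet k A c R) {v : Fin N → R} (hv : v ∈ cN b I) (a l : Fin n) :
    rowVec b θ R (gMat b θ R v a) l ∈ cN b I := by
  obtain ⟨y, hy, rfl⟩ := hv
  obtain ⟨z, hz⟩ := (mHom_bijective θ R).2 (Matrix.single l a 1)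
  refine ⟨z * y, I.2 z y hy, (gMat b θ R).injective ?_⟩
  rw [LinearEquiv.coe_coe, gMat_crd, gMat_crd, map_mul, hz]
  ext i j
  rw [gMat_rowVec]
  split_ifs with h
  · subst h; simp
  · simp [Matrix.single_mul_apply_of_ne, h]

include θ in
/-- Near every prime the ideal contains a row with an invertible entry. -/
theorem exists_entry_not_mem [Nontrivial R] (hn : 0 < n) (hN : N = n * n) (hc : c + n = n * n)
    (I : BrSev.SBSet k A c R) (p : PrimeSpectrum R) :
    ∃ v ∈ cN b I, ∃ a j, gMat b θ R v a j ∉ p.asIdeal := by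
  by_contra hcon
  push Not at hcon
  obtain ⟨P, hP, hP'⟩ := exists_proj b I
  haveI := finite_cN b I
  haveI := projective_cN b I
  have hle : cN b I ≤ p.asIdeal • cN b I := fun v hv => by
    have hv' : v = ∑ z : Fin n × Fin n, gMat b θ R v z.1 z.2 •
        P ((gMat b θ R).symm (Matrix.single z.1 z.2 1)) := by
      conv_lhs => rw [← hP' v hv, ← (gMat b θ R).symm_apply_apply v,
        Matrix.matrix_eq_sum_single (gMat b θ R v)]
      simp only [map_sum, Fintype.sum_prod_type]
      refine Finset.sum_congr rfl fun i _ => Finset.sum_congr rfl fun j _ => ?_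
      rw [← map_smul, ← map_smul, Matrix.smul_single, smul_eq_mul, mul_one]
    rw [hv']
    exact Submodule.sum_mem _ fun z _ => Submodule.smul_mem_smul (hcon v hv z.1 z.2) (hP _)
  obtain ⟨r, hr, hr0⟩ := Submodule.exists_sub_one_mem_and_smul_eq_zero_of_fg_of_le_smul p.asIdeal
    (cN b I) (Module.Finite.iff_fg.1 inferInstance) hle
  have hrp : r ∉ p.asIdeal := fun h => p.2.ne_top ((Ideal.eq_top_iff_one _).2 (by
    simpa using p.asIdeal.sub_mem h hr))
  have hrank : Module.rankAtStalk (R := R) (cN b I) p = 0 := by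
    have : Subsingleton (LocalizedModule p.asIdeal.primeCompl (cN b I)) :=
      LocalizedModule.subsingleton_iff.2 fun m => ⟨r, hrp, Subtype.ext (hr0 m m.2)⟩
    simp [Module.rankAtStalk, Module.finrank_zero_of_subsingleton]
  let e := Submodule.Quotient.equiv I.1.toSubmodule (cN b I) (crd b R) rfl
  haveI : Module.Projective R ((Fin N → R) ⧸ cN b I) := Module.Projective.of_equiv e
  haveI : Module.Finite R ((Fin N → R) ⧸ cN b I) := Module.Finite.equiv e
  let ψ : (Fin N → R) →ₗ[R] (cN b I) × ((Fin N → R) ⧸ cN b I) := (P.codRestrict _ hP).prod (cN b I).mkQ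
  have hψ : Function.Bijective ψ := by
    constructor
    · intro v w h
      have h1 : v - w ∈ cN b I := (Submodule.Quotient.eq _).mp (congrArg Prod.snd h)
      have h2 : P v = P w := congrArg Subtype.val (congrArg Prod.fst h)
      rw [← sub_eq_zero, ← hP' _ h1, map_sub, h2, sub_self]
    · rintro ⟨⟨a, ha⟩, q⟩
      obtain ⟨v, rfl⟩ := Submodule.mkQ_surjective _ q
      refine ⟨v - P v + a, Prod.ext (Subtype.ext ?_) ((Submodule.Quotient.eq _).mpr ?_)⟩
      · change P (v - P v + a) = a
        rw [map_add, map_sub, hP' _ (hP v), sub_self, zero_add, hP' _ ha]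
      · rw [show v - P v + a - v = a - P v by abel]
        exact sub_mem ha (hP v)
  have h := congrFun (Module.rankAtStalk_eq_of_equiv (LinearEquiv.ofBijective ψ hψ)) p
  rw [Module.rankAtStalk_prod, Pi.add_apply, ← Module.rankAtStalk_eq_of_equiv e, I.1.rankAtStalk_eq,
    hrank, Module.rankAtStalk_eq_finrank_of_free, Pi.natCast_apply, Module.finrank_pi] at h
  simp at h
  omega

/-- Proportional vectors give the same rows. -/
theorem span_rowVec_eq_iff {x x' : Fin n → R} {i i' : Fin n} (hx : x i = 1) (hx' : x' i' = 1) :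
    Submodule.span R (Set.range (rowVec b θ R x)) = Submodule.span R (Set.range (rowVec b θ R x')) ↔
      ∀ a c', x a * x' c' = x c' * x' a := by
  have key : ∀ {y y' : Fin n → R} {i : Fin n} {i' : Fin n}, y i = 1 → y' i' = 1 →
      (∀ a c', y a * y' c' = y c' * y' a) →
      Submodule.span R (Set.range (rowVec b θ R y)) ≤ Submodule.span R (Set.range (rowVec b θ R y')) := by
    intro y y' i i' hy hy' h
    refine Submodule.span_le.2 ?_
    rintro _ ⟨a, rfl⟩
    have : y = y i' • y' := funext fun l => by
      have := h l i'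
      rw [hy', mul_one] at this
      exact this
    rw [this, rowVec_smul]
    exact Submodule.smul_mem _ _ (Submodule.subset_span ⟨a, rfl⟩)
  refine ⟨fun h => ?_, fun h => le_antisymm (key hx hx' h) (key hx' hx fun a c' => ?_)⟩
  · have h1 : rowVec b θ R x i ∈ Submodule.span R (Set.range (rowVec b θ R x')) :=
      h.le (Submodule.subset_span ⟨i, rfl⟩)
    obtain ⟨d, hd⟩ := (Submodule.mem_span_range_iff_exists_fun _).1 h1
    have hd' : ∀ j, x j = d i * x' j := fun j => by
      have := congrArg (fun v => gMat b θ R v i j) hd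
      simpa [map_sum, Matrix.sum_apply, gMat_rowVec] using this.symm
    intro a c'
    rw [hd' a, hd' c']
    ring
  · linear_combination h c' a

end Groth.Agent.SBTaut
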