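import Groth.Agent.SBTaut.Ring
import Groth.Agent.QCoh.Basic
import Groth.Prelude.Def_Coh
import Mathlib.AlgebraicGeometry.AffineScheme

/-!
# The ideals attached to the affine opens of a scheme over a Severi–Brauer scheme
-/

set_option autoImplicit false
universe u

open CategoryTheory AlgebraicGeometry Opposite TopologicalSpace
open scoped TensorProduct

noncomputable section

namespace Groth.Agent.SBTaut

open Groth.Agent.QCoh

variable {k : Type u} [Field k]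

/-- The structure map on the functions on an open. -/
def algHom {Y : Scheme.{u}} (h : Y ⟶ Spec (CommRingCat.of k)) (V : Y.Opens) : k →+* Γ(Y, V) :=
  (Y.presheaf.map (homOfLE (le_top : V ≤ ⊤)).op).hom.comp (Coh.toGlobal h)

/-- The functions on an open as an algebra. -/
@[reducible] def alg {Y : Scheme.{u}} (h : Y ⟶ Spec (CommRingCat.of k)) (V : Y.Opens) :
    Algebra k Γ(Y, V) := (algHom h V).toAlgebra

theorem fromSpec_comp {Y : Scheme.{u}} (h : Y ⟶ Spec (CommRingCat.of k)) {V : Y.Opens}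
    (hV : IsAffineOpen V) :
    hV.fromSpec ≫ h = Spec.map (CommRingCat.ofHom (algHom h V)) := by
  rw [← IsAffineOpen.SpecMap_appLE_fromSpec h (isAffineOpen_top _) hV (fun _ _ => trivial),
    IsAffineOpen.fromSpec_top, Scheme.isoSpec_Spec_inv, ← Spec.map_comp]
  rfl

theorem appLE_algHom {Y Y' : Scheme.{u}} (h : Y ⟶ Spec (CommRingCat.of k)) (q : Y' ⟶ Y)
    {V : Y.Opens} {V' : Y'.Opens} (e : V' ≤ q ⁻¹ᵁ V) (a : k) :
    (q.appLE V V' e) (algHom h V a) = algHom (q ≫ h) V' a := by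
  change ((Y.presheaf.map (homOfLE (le_top : V ≤ ⊤)).op) ≫ q.appLE V V' e) (Coh.toGlobal h a) = _
  rw [Scheme.Hom.map_appLE]
  rfl

variable {A : Type u} [Ring A] [Algebra k A] {c N : ℕ} {X : Scheme.{u}}
  {f : X ⟶ Spec (CommRingCat.of k)} (σ : BrSev.SBStr k A c f) (b : Module.Basis (Fin N) k A)

/-- The point of `X` over an affine open. -/
def pt {Y : Scheme.{u}} (ψ : Y ⟶ X) {h : Y ⟶ Spec (CommRingCat.of k)} (w : ψ ≫ f = h) {V : Y.Opens}
    (hV : IsAffineOpen V) : letI := alg h V; BrSev.Pts f Γ(Y, V) :=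
  letI := alg h V
  ⟨hV.fromSpec ≫ ψ, (Category.assoc _ _ _).trans ((congrArg (hV.fromSpec ≫ ·) w).trans (fromSpec_comp h hV))⟩

/-- The ideal over an affine open, in coordinates. -/
def NV {Y : Scheme.{u}} (ψ : Y ⟶ X) {h : Y ⟶ Spec (CommRingCat.of k)} (w : ψ ≫ f = h) {V : Y.Opens}
    (hV : IsAffineOpen V) : Submodule Γ(Y, V) (Fin N → Γ(Y, V)) :=
  letI := alg h V
  cN b (σ.bij Γ(Y, V) (pt ψ w hV))

theorem cN_natural {R S : Type u} [CommRing R] [Algebra k R] [CommRing S] [Algebra k S]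
    (φ : R →ₐ[k] S) (g : BrSev.Pts f R) :
    cN b (σ.bij S (BrSev.Pts.map f φ g)) =
      Submodule.span S ((fun (v : Fin N → R) i => φ (v i)) '' (cN b (σ.bij R g) : Submodule R _)) := by
  rw [cN, σ.natural R S φ g]
  exact map_crd_map b φ _

/-- The ideals are natural. -/
theorem NV_map {Y Y' : Scheme.{u}} (q : Y' ⟶ Y) (ψ : Y ⟶ X) {h : Y ⟶ Spec (CommRingCat.of k)}
    (w : ψ ≫ f = h) {ψ' : Y' ⟶ X} (eψ : q ≫ ψ = ψ') {h' : Y' ⟶ Spec (CommRingCat.of k)}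
    (w' : ψ' ≫ f = h') {V : Y.Opens} {V' : Y'.Opens} (hV : IsAffineOpen V) (hV' : IsAffineOpen V')
    (e : V' ≤ q ⁻¹ᵁ V) :
    NV σ b ψ' w' hV' = Submodule.span Γ(Y', V')
      ((fun (v : Fin N → Γ(Y, V)) i => q.appLE V V' e (v i)) '' (NV σ b ψ w hV : Submodule Γ(Y, V) _)) := by
  subst eψ
  obtain rfl : q ≫ h = h' := by rw [← w, ← w', Category.assoc]
  letI := alg h V
  letI := alg (q ≫ h) V'
  let φ : Γ(Y, V) →ₐ[k] Γ(Y', V') :=
    { (q.appLE V V' e).hom with commutes' := fun a => appLE_algHom h q e a }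
  have hp : BrSev.Pts.map f φ (pt ψ w hV) = pt (q ≫ ψ) w' hV' := Subtype.ext (by
    change Spec.map (q.appLE V V' e) ≫ hV.fromSpec ≫ ψ = hV'.fromSpec ≫ q ≫ ψ
    rw [IsAffineOpen.SpecMap_appLE_fromSpec_assoc q hV hV' e])
  change cN b (σ.bij Γ(Y', V') (pt (q ≫ ψ) w' hV')) = _
  rw [← hp, cN_natural σ b φ]
  rfl

theorem NV_res {Y : Scheme.{u}} (ψ : Y ⟶ X) {h : Y ⟶ Spec (CommRingCat.of k)} (w : ψ ≫ f = h)
    {V V' : Y.Opens} (hV : IsAffineOpen V) (hV' : IsAffineOpen V') (e : V' ≤ V) :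
    NV σ b ψ w hV' = Submodule.span Γ(Y, V')
      ((fun (v : Fin N → Γ(Y, V)) i => rres e (v i)) '' (NV σ b ψ w hV : Submodule Γ(Y, V) _)) := by
  rw [NV_map σ b (𝟙 Y) ψ w (Category.id_comp ψ) w hV hV' e]
  rfl

theorem lmul_mem_NV {Y : Scheme.{u}} (ψ : Y ⟶ X) {h : Y ⟶ Spec (CommRingCat.of k)} (w : ψ ≫ f = h)
    {V : Y.Opens} (hV : IsAffineOpen V) (a : A) {v : Fin N → Γ(Y, V)} (hv : v ∈ NV σ b ψ w hV) :
    ((lmat b a).map (algHom h V)).mulVec v ∈ NV σ b ψ w hV :=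
  letI := alg h V
  lmul_mem_cN b _ a hv

theorem mem_NV_res {Y : Scheme.{u}} (ψ : Y ⟶ X) {h : Y ⟶ Spec (CommRingCat.of k)} (w : ψ ≫ f = h)
    {V V' : Y.Opens} (hV : IsAffineOpen V) (hV' : IsAffineOpen V') (e : V' ≤ V)
    {v : Fin N → Γ(Y, V)} (hv : v ∈ NV σ b ψ w hV) :
    (fun i => rres e (v i)) ∈ NV σ b ψ w hV' := by
  rw [NV_res σ b ψ w hV hV' e]
  exact Submodule.subset_span ⟨v, hv, rfl⟩

end Groth.Agent.SBTaut
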