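import Groth.Agent.SBTaut.Taut

/-!
# Pullbacks of the tautological bundle
-/

set_option autoImplicit false
universe u

open CategoryTheory CategoryTheory.Limits AlgebraicGeometry Opposite TopologicalSpace
open Groth.Agent.QCoh Groth.Agent.Props.GenLocus

noncomputable section

namespace Groth.Agent.SBTaut

variable {X Y : Scheme.{u}} (ψ : Y ⟶ X)

/-- Functions pulled back, as a map to the direct image. -/
def toPush : Coh.structureModule X ⟶ (Scheme.Modules.pushforward ψ).obj (Coh.structureModule Y) :=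
  homOfSec (show Γ((Scheme.Modules.pushforward ψ).obj (Coh.structureModule Y), ⊤) from one' (ψ ⁻¹ᵁ ⊤))

theorem toPush_app (U : X.Opens) (a : Γ(X, U)) :
    (toPush ψ).app U a = ψ.app U a := by
  rw [app_eq, toPush, sec_homOfSec]
  change ψ.app U a * (Y.presheaf.map (homOfLE (ψ.preimage_mono (le_top : U ≤ ⊤))).op).hom 1 = _
  rw [map_one, mul_one]

variable {k : Type u} [Field k] {A : Type u} [Ring A] [Algebra k A] {c N : ℕ}
  {f : X ⟶ Spec (CommRingCat.of k)} (σ : BrSev.SBStr k A c f) (b : Module.Basis (Fin N) k A)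

/-- The pullback of the tautological bundle inside the free module. -/
def pIncl : (Scheme.Modules.pullback ψ).obj (taut σ b) ⟶ FF Y N :=
  biproduct.lift fun j => ((Scheme.Modules.pullbackPushforwardAdjunction ψ).homEquiv _ _).symm
    (tIncl σ b ≫ biproduct.π (fun _ : Fin N => Coh.structureModule X) j ≫ toPush ψ)

/-- Coordinates of sections of the pullback. -/
def pCoo (V : Y.Opens) :
    Γ((Scheme.Modules.pullback ψ).obj (taut σ b), V) →ₗ[Γ(Y, V)] (Fin N → Γ(Y, V)) :=
  (cooLin V).comp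
    (show Γ((Scheme.Modules.pullback ψ).obj (taut σ b), V) →ₗ[Γ(Y, V)] Γ(FF Y N, V) from
    { toFun := (pIncl ψ σ b).app V
      map_add' := map_add _
      map_smul' := fun r a => Scheme.Modules.Hom.app_smul (pIncl ψ σ b) r a })

theorem pCoo_res {U V : Y.Opens} (h : V ≤ U) (m : Γ((Scheme.Modules.pullback ψ).obj (taut σ b), U)) :
    pCoo ψ σ b V (res _ h m) = fun i => rres h (pCoo ψ σ b U m i) := by
  change coo ((pIncl ψ σ b).app V (res _ h m)) = _
  rw [app_res, coo_res]
  rfl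

theorem pCoo_unitSec (U : X.Opens) (t : Γ(taut σ b, U)) :
    pCoo ψ σ b (ψ ⁻¹ᵁ U) (LFFrame.unitSec ψ (taut σ b) U t) = fun j => ψ.app U (tCoo σ b U t j) := by
  funext j
  let adj := Scheme.Modules.pullbackPushforwardAdjunction ψ
  let o : taut σ b ⟶ (Scheme.Modules.pushforward ψ).obj (Coh.structureModule Y) :=
    tIncl σ b ≫ biproduct.π (fun _ : Fin N => Coh.structureModule X) j ≫ toPush ψ
  have h1 : pIncl ψ σ b ≫ biproduct.π (fun _ : Fin N => Coh.structureModule Y) j =
      (adj.homEquiv _ _).symm o := biproduct.lift_π _ _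
  have h2 : adj.unit.app (taut σ b) ≫ (Scheme.Modules.pushforward ψ).map ((adj.homEquiv _ _).symm o) = o :=
    (adj.homEquiv_unit _ _ _).symm.trans ((adj.homEquiv _ _).apply_symm_apply o)
  exact (congrArg (fun (g : (Scheme.Modules.pullback ψ).obj (taut σ b) ⟶ Coh.structureModule Y) =>
      g.app (ψ ⁻¹ᵁ U) (LFFrame.unitSec ψ (taut σ b) U t)) h1).trans
    ((congrArg (fun (g : taut σ b ⟶ _) => g.app U t) h2).trans (toPush_app ψ U (tCoo σ b U t j)))

section Frames

variable {ψ}

/-- Frames of the tautological bundle split the free module. -/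
theorem exists_coeff {U : X.Opens} (hU : IsAffineOpen U) {r : ℕ} {t : Fin r → Γ(taut σ b, U)}
    (ht : LFFrame.IsFrame (taut σ b) U t) :
    ∃ D : Matrix (Fin r) (Fin N) Γ(X, U),
      (∀ i j, (D.mulVec (tCoo σ b U (t j))) i = if i = j then 1 else 0) ∧
      N0 σ b hU = Submodule.span Γ(X, U) (Set.range fun j => tCoo σ b U (t j)) := by
  classical
  letI := alg f U
  obtain ⟨P, hP, hP'⟩ := exists_proj b (σ.bij Γ(X, U) (pt (𝟙 X) (Category.id_comp f) hU))
  let cmb : (Fin r → Γ(X, U)) →ₗ[Γ(X, U)] Γ(taut σ b, U) := Fintype.linearCombination Γ(X, U) t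
  have hcmb : Function.Bijective cmb := by
    have := ht U le_rfl
    rwa [show LFFrame.comb (taut σ b) t (le_refl U) = cmb from funext fun a => by
      simp [cmb, LFFrame.comb, Fintype.linearCombination_apply]] at this
  let F : (Fin r → Γ(X, U)) ≃ₗ[Γ(X, U)] Γ(taut σ b, U) := LinearEquiv.ofBijective cmb hcmb
  let G : (Fin N → Γ(X, U)) →ₗ[Γ(X, U)] (Fin r → Γ(X, U)) :=
    F.symm.toLinearMap.comp ((secEquiv σ b hU).symm.toLinearMap.comp (P.codRestrict (N0 σ b hU) hP))
  refine ⟨LinearMap.toMatrix' G, fun i j => ?_, ?_⟩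
  · rw [← Matrix.toLin'_apply, Matrix.toLin'_toMatrix']
    have hmem : tCoo σ b U (t j) ∈ N0 σ b hU :=
      (range_tCoo σ b hU).le (LinearMap.mem_range_self _ _)
    have h1 : P.codRestrict (N0 σ b hU) hP (tCoo σ b U (t j)) = secEquiv σ b hU (t j) :=
      Subtype.ext (hP' _ hmem)
    have h2 : F (Pi.single j 1) = t j := by simp [F, cmb]
    change F.symm ((secEquiv σ b hU).symm (P.codRestrict (N0 σ b hU) hP (tCoo σ b U (t j)))) i = _
    rw [h1, LinearEquiv.symm_apply_apply, ← h2, LinearEquiv.symm_apply_apply]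
    exact Pi.single_apply j (1 : Γ(X, U)) i
  · rw [← range_tCoo σ b hU, show Set.range (fun j => tCoo σ b U (t j)) = tCoo σ b U '' Set.range t by
      rw [← Set.range_comp]; rfl, Submodule.span_image, ← Fintype.range_linearCombination,
      show LinearMap.range (Fintype.linearCombination Γ(X, U) t) = ⊤ from
        LinearMap.range_eq_top.mpr hcmb.2, Submodule.map_top]

end Frames

theorem exists_good (y : Y) :
    ∃ U : X.Opens, ψ y ∈ U ∧ (∀ V : Y.Opens, V ≤ ψ ⁻¹ᵁ U → Function.Injective (pCoo ψ σ b V)) ∧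
      ∀ (h : Y ⟶ Spec (CommRingCat.of k)) (w : ψ ≫ f = h) (V : Y.Opens) (hV : IsAffineOpen V),
        V ≤ ψ ⁻¹ᵁ U → LinearMap.range (pCoo ψ σ b V) = NV σ b ψ w hV := by
  classical
  obtain ⟨U', r, t', hyU', ht'⟩ := LFFrame.exists_isFrame_of_isFinLocFree (isFinLocFree_taut σ b) (ψ y)
  obtain ⟨_, ⟨U, hU, rfl⟩, hyU, hle⟩ :=
    X.isBasis_affineOpens.exists_subset_of_mem_open hyU' U'.2
  have hUU' : U ≤ U' := hle
  let t : Fin r → Γ(taut σ b, U) := fun j => res (taut σ b) hUU' (t' j)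
  have ht : LFFrame.IsFrame (taut σ b) U t := fun V hV => by
    have : LFFrame.comb (taut σ b) t hV = LFFrame.comb (taut σ b) t' (hV.trans hUU') := funext fun a =>
      Finset.sum_congr rfl fun j _ => congrArg (a j • ·) (res_res (taut σ b) hUU' hV (t' j))
    rw [this]; exact ht' V _
  obtain ⟨D, hD, hspan⟩ := exists_coeff σ b hU ht
  let e' : Fin r → Γ((Scheme.Modules.pullback ψ).obj (taut σ b), ψ ⁻¹ᵁ U) :=
    fun j => LFFrame.unitSec ψ (taut σ b) U (t j)
  have he' : LFFrame.IsFrame _ (ψ ⁻¹ᵁ U) e' := ht.pullback ψ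
  have hcomb : ∀ (V : Y.Opens) (hV : V ≤ ψ ⁻¹ᵁ U) (a : Fin r → Γ(Y, V)),
      pCoo ψ σ b V (LFFrame.comb _ e' hV a) =
        fun i => ∑ j, a j * ψ.appLE U V hV (tCoo σ b U (t j) i) := fun V hV a => by
    rw [LFFrame.comb, map_sum]
    funext i
    rw [Finset.sum_apply]
    refine Finset.sum_congr rfl fun j _ => ?_
    rw [map_smul, Pi.smul_apply, smul_eq_mul]
    congr 1
    refine (congrFun ((pCoo_res ψ σ b hV (e' j)).trans (by rw [pCoo_unitSec])) i).trans ?_
    rfl
  refine ⟨U, hyU, fun V hV => ?_, fun h w V hV hle' => ?_⟩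
  · refine (injective_iff_map_eq_zero _).mpr fun m hm => ?_
    obtain ⟨a, rfl⟩ := (he' V hV).2 m
    rw [hcomb] at hm
    suffices a = 0 by subst this; simp [LFFrame.comb]
    funext l
    have h1 : ∀ j, ∑ i, ψ.appLE U V hV (D l i) * ψ.appLE U V hV (tCoo σ b U (t j) i) =
        if l = j then 1 else 0 := fun j => by
      simp only [← map_mul, ← map_sum]
      rw [show ∑ i, D l i * tCoo σ b U (t j) i = D.mulVec (tCoo σ b U (t j)) l from rfl, hD]
      split_ifs <;> simp
    calc a l = ∑ j, a j * (if l = j then 1 else 0) := by simp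
      _ = ∑ j, a j * ∑ i, ψ.appLE U V hV (D l i) * ψ.appLE U V hV (tCoo σ b U (t j) i) :=
          Finset.sum_congr rfl fun j _ => by rw [h1]
      _ = ∑ i, ψ.appLE U V hV (D l i) * ∑ j, a j * ψ.appLE U V hV (tCoo σ b U (t j) i) := by
          simp only [Finset.mul_sum]
          rw [Finset.sum_comm]
          exact Finset.sum_congr rfl fun i _ => Finset.sum_congr rfl fun j _ => mul_left_comm _ _ _
      _ = 0 := Finset.sum_eq_zero fun i _ => by rw [congrFun hm i, Pi.zero_apply, mul_zero]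
  · rw [NV_map σ b ψ (𝟙 X) (Category.id_comp f) (Category.comp_id ψ) w hU hV hle']
    refine le_antisymm ?_ (Submodule.span_le.mpr ?_)
    · rintro _ ⟨m, rfl⟩
      obtain ⟨a, rfl⟩ := (he' V hle').2 m
      rw [hcomb, show (fun i => ∑ j, a j * ψ.appLE U V hle' (tCoo σ b U (t j) i)) =
        ∑ j, a j • fun i => ψ.appLE U V hle' (tCoo σ b U (t j) i) from funext fun i => by simp]
      exact Submodule.sum_mem _ fun j _ => Submodule.smul_mem _ _ (Submodule.subset_span
        ⟨_, (range_tCoo σ b hU).le (LinearMap.mem_range_self _ (t j)), rfl⟩)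
    · rintro _ ⟨v, hv, rfl⟩
      rw [SetLike.mem_coe] at hv
      obtain ⟨s, hs⟩ := (range_tCoo σ b hU).ge hv
      obtain ⟨a, ha⟩ := (ht U le_rfl).2 s
      refine ⟨LFFrame.comb _ e' hle' (fun j => ψ.appLE U V hle' (a j)), ?_⟩
      rw [hcomb]
      funext i
      rw [← hs, ← ha]
      simp only [← map_mul, ← map_sum]
      congr 1
      rw [LFFrame.comb, map_sum, Finset.sum_apply]
      refine Finset.sum_congr rfl fun j _ => ?_
      rw [map_smul, Pi.smul_apply, smul_eq_mul]
      exact congrArg (fun x => a j * tCoo σ b U x i) (res_self (taut σ b) le_rfl (t j)).symm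

theorem exists_affine_nhd {y : Y} {V : Y.Opens} (hy : y ∈ V) {U : X.Opens} (hU : ψ y ∈ U) :
    ∃ V' : Y.Opens, IsAffineOpen V' ∧ y ∈ V' ∧ V' ≤ V ∧ V' ≤ ψ ⁻¹ᵁ U := by
  obtain ⟨_, ⟨V', hV', rfl⟩, hy', hle⟩ :=
    Y.isBasis_affineOpens.exists_subset_of_mem_open (show y ∈ V ⊓ ψ ⁻¹ᵁ U from ⟨hy, hU⟩) (V ⊓ ψ ⁻¹ᵁ U).2
  exact ⟨V', hV', hy', fun z hz => (hle hz).1, fun z hz => (hle hz).2⟩

theorem pCoo_injective (V : Y.Opens) : Function.Injective (pCoo ψ σ b V) := by
  choose U hU hinj _ using exists_good ψ σ b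
  intro m m' h
  refine eq_of_locally_eq ((Scheme.Modules.pullback ψ).obj (taut σ b))
    (U := fun y : Y => V ⊓ ψ ⁻¹ᵁ U y) (fun y => inf_le_left)
    (fun z hz => Opens.mem_iSup.mpr ⟨z, hz, hU z⟩) m m' fun y => ?_
  refine hinj y _ inf_le_right ?_
  rw [pCoo_res, pCoo_res, h]

variable {h : Y ⟶ Spec (CommRingCat.of k)} (w : ψ ≫ f = h)

/-- Vectors in the ideal are coordinates of sections. -/
theorem exists_sec {W : Y.Opens} (hW : IsAffineOpen W) {v : Fin N → Γ(Y, W)}
    (hv : v ∈ NV σ b ψ w hW) : ∃ s, pCoo ψ σ b W s = v := by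
  choose U hU _ hrange using exists_good ψ σ b
  choose V hV hyV hVW hVU using fun y : W => exists_affine_nhd ψ y.2 (hU y.1)
  choose s hs using fun y : W => (hrange y.1 h w (V y) (hV y) (hVU y)).ge
    (mem_NV_res σ b ψ w hW (hV y) (hVW y) hv)
  have hcov : W ≤ iSup V := fun z hz => Opens.mem_iSup.mpr ⟨⟨z, hz⟩, hyV _⟩
  obtain ⟨σ', hσ'⟩ := exists_glue ((Scheme.Modules.pullback ψ).obj (taut σ b)) hVW hcov s fun i j => by
    refine pCoo_injective ψ σ b _ ?_
    rw [pCoo_res, pCoo_res, hs, hs]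
    funext l
    rw [rres_rres, rres_rres]
  refine ⟨σ', funext fun l => ?_⟩
  refine eq_of_locally_eq (Coh.structureModule Y) hVW hcov _ _ fun i => ?_
  exact ((congrFun (pCoo_res ψ σ b (hVW i) σ') l).symm.trans (by rw [hσ' i, hs i]; rfl))

/-- Sections with coordinates forming a basis of the ideal form a frame. -/
theorem isFrame_of_coo {W : Y.Opens} (hW : IsAffineOpen W) {n : ℕ}
    {e : Fin n → Γ((Scheme.Modules.pullback ψ).obj (taut σ b), W)}
    (hspan : NV σ b ψ w hW = Submodule.span Γ(Y, W) (Set.range fun i => pCoo ψ σ b W (e i)))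
    (hind : ∀ (V : Y.Opens) (hV : V ≤ W), Function.Injective
      (fun a : Fin n → Γ(Y, V) => fun l => ∑ i, a i * rres hV (pCoo ψ σ b W (e i) l))) :
    LFFrame.IsFrame _ W e := by
  let M := (Scheme.Modules.pullback ψ).obj (taut σ b)
  have hcomb : ∀ (V : Y.Opens) (hV : V ≤ W) (a : Fin n → Γ(Y, V)),
      pCoo ψ σ b V (LFFrame.comb M e hV a) = fun l => ∑ i, a i * rres hV (pCoo ψ σ b W (e i) l) := by
    intro V hV a
    rw [LFFrame.comb, map_sum]
    funext l
    rw [Finset.sum_apply]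
    refine Finset.sum_congr rfl fun i _ => ?_
    rw [map_smul, Pi.smul_apply, smul_eq_mul]
    exact congrArg (a i * ·) (congrFun (pCoo_res ψ σ b hV (e i)) l)
  intro V hV
  have hinjc : ∀ (V : Y.Opens) (hV : V ≤ W), Function.Injective (LFFrame.comb M e hV) :=
    fun V hV a a' haa => hind V hV ((hcomb V hV a).symm.trans ((congrArg _ haa).trans (hcomb V hV a')))
  refine ⟨hinjc V hV, fun m => ?_⟩
  choose U hU _ hrange using exists_good ψ σ b
  choose V' hV' hyV' hle hleU using fun y : V => exists_affine_nhd ψ y.2 (hU y.1)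
  have hex : ∀ y : V, ∃ a, LFFrame.comb M e ((hle y).trans hV) a = res M (hle y) m := fun y => by
    have h1 := (hrange y.1 h w (V' y) (hV' y) (hleU y)).le
      (LinearMap.mem_range_self (pCoo ψ σ b (V' y)) (res M (hle y) m))
    rw [NV_res σ b ψ w hW (hV' y) ((hle y).trans hV)] at h1
    have h2 : ∀ z ∈ Submodule.span Γ(Y, V' y) ((fun (v : Fin N → Γ(Y, W)) l => rres ((hle y).trans hV) (v l)) ''
        (NV σ b ψ w hW : Set (Fin N → Γ(Y, W)))),
        z ∈ Submodule.span Γ(Y, V' y) (Set.range fun i l => rres ((hle y).trans hV) (pCoo ψ σ b W (e i) l)) := by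
      refine fun z hz => Submodule.span_le.mpr ?_ hz
      rintro _ ⟨v, hv, rfl⟩
      rw [SetLike.mem_coe, hspan] at hv
      obtain ⟨c', rfl⟩ := (Submodule.mem_span_range_iff_exists_fun _).mp hv
      rw [SetLike.mem_coe, Submodule.mem_span_range_iff_exists_fun]
      refine ⟨fun i => rres ((hle y).trans hV) (c' i), funext fun l => ?_⟩
      simp [map_sum, map_mul]
    obtain ⟨a, ha⟩ := (Submodule.mem_span_range_iff_exists_fun _).mp (h2 _ h1)
    refine ⟨a, pCoo_injective ψ σ b _ ((hcomb _ _ a).trans (Eq.trans ?_ ha))⟩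
    funext l
    simp
  choose a ha using hex
  have hcov : V ≤ iSup V' := fun z hz => Opens.mem_iSup.mpr ⟨⟨z, hz⟩, hyV' _⟩
  have hcompat : ∀ (y z : V) (i : Fin n),
      rres (inf_le_left : V' y ⊓ V' z ≤ V' y) (a y i) = rres (inf_le_right : V' y ⊓ V' z ≤ V' z) (a z i) := by
    intro y z i
    refine congrFun (hinjc _ ((inf_le_left.trans (hle y)).trans hV)
      (a₁ := fun i => rres (inf_le_left : V' y ⊓ V' z ≤ V' y) (a y i))
      (a₂ := fun i => rres (inf_le_right : V' y ⊓ V' z ≤ V' z) (a z i)) ?_) i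
    refine (LFFrame.res_comb M e ((hle y).trans hV) inf_le_left (a y)).symm.trans
      (Eq.trans ?_ (LFFrame.res_comb M e ((hle z).trans hV) inf_le_right (a z)))
    rw [ha, ha]
    exact (res_res M (hle y) inf_le_left m).trans (res_res M (hle z) inf_le_right m).symm
  choose A' hA' using fun i => exists_glue (Coh.structureModule Y) hle hcov (fun y => a y i)
    fun y z => hcompat y z i
  refine ⟨A', eq_of_locally_eq M hle hcov _ _ fun y => ?_⟩
  refine (LFFrame.res_comb M e hV (hle y) A').trans (Eq.trans ?_ (ha y))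
  exact congrArg _ (funext fun i => hA' i y)

end Groth.Agent.SBTaut
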