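import Groth.Prelude.Def_BrSev2
import Mathlib.RingTheory.Grassmannian
import Mathlib.LinearAlgebra.TensorProduct.RightExactness
import Mathlib.LinearAlgebra.TensorProduct.Basis
import Mathlib.RingTheory.Spectrum.Prime.FreeLocus
import Mathlib.RingTheory.Complex
import Mathlib.Algebra.Module.Projective

/-!
# Left ideals with projective quotient in coordinates
-/

set_option autoImplicit false
universe u

open CategoryTheory AlgebraicGeometry
open scoped TensorProduct

noncomputable section

namespace Groth.Agent.SBTaut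

variable {k : Type u} [Field k] {A : Type u} [Ring A] [Algebra k A] {N c : ℕ}
  (b : Module.Basis (Fin N) k A)

/-- Coordinates of `R ⊗ A`. -/
def crd (R : Type u) [CommRing R] [Algebra k R] : R ⊗[k] A ≃ₗ[R] (Fin N → R) :=
  (Algebra.TensorProduct.basis R b).equivFun

theorem crd_tmul (R : Type u) [CommRing R] [Algebra k R] (r : R) (a : A) (i : Fin N) :
    crd b R (r ⊗ₜ a) i = r * algebraMap k R (b.repr a i) := by
  simp [crd, Algebra.smul_def, mul_comm]

/-- The matrix of left multiplication. -/
def lmat (a : A) : Matrix (Fin N) (Fin N) k := Algebra.leftMulMatrix b a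

variable {R : Type u} [CommRing R] [Algebra k R]

theorem crd_lmul (a : A) (x : R ⊗[k] A) :
    crd b R ((1 ⊗ₜ a) * x) = ((lmat b a).map (algebraMap k R)).mulVec (crd b R x) := by
  induction x using TensorProduct.induction_on with
  | zero => rw [mul_zero, map_zero, Matrix.mulVec_zero]
  | add x y hx hy => rw [mul_add, map_add, map_add, Matrix.mulVec_add, hx, hy]
  | tmul r a' =>
    funext i
    rw [Algebra.TensorProduct.tmul_mul_tmul, one_mul, crd_tmul]
    have h := congrFun (Algebra.leftMulMatrix_mulVec_repr b a a') i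
    rw [← h]
    simp only [Matrix.mulVec, dotProduct, Matrix.map_apply, crd_tmul, map_sum, map_mul,
      Finset.mul_sum, lmat]
    exact Finset.sum_congr rfl fun j _ => by ring

/-- The ideal in coordinates. -/
def cN (I : BrSev.SBSet k A c R) : Submodule R (Fin N → R) :=
  I.1.toSubmodule.map (crd b R).toLinearMap

theorem lmul_mem_cN (I : BrSev.SBSet k A c R) (a : A) {v : Fin N → R} (hv : v ∈ cN b I) :
    ((lmat b a).map (algebraMap k R)).mulVec v ∈ cN b I := by
  obtain ⟨x, hx, rfl⟩ := hv
  exact ⟨(1 ⊗ₜ a) * x, I.2 _ x hx, crd_lmul b a x⟩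

/-- Base change of an ideal is spanned by the images. -/
theorem map_crd_map {S : Type u} [CommRing S] [Algebra k S] (φ : R →ₐ[k] S)
    (G : Module.Grassmannian R (R ⊗[k] A) c) :
    (Module.Grassmannian.map φ G).toSubmodule.map (crd b S).toLinearMap =
      Submodule.span S ((fun (v : Fin N → R) i => φ (v i)) '' (G.toSubmodule.map (crd b R).toLinearMap : Submodule R _)) := by
  letI : Algebra R S := φ.toAlgebra
  letI : IsScalarTower k R S :=
    IsScalarTower.of_algebraMap_eq' <| IsScalarTower.algebraMap_eq k R S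
  rw [Module.Grassmannian.map_toSubmodule]
  let cb := TensorProduct.AlgebraTensorModule.cancelBaseChange k R S S A
  have key : ∀ y : R ⊗[k] A, crd b S (cb (1 ⊗ₜ y)) = fun i => φ (crd b R y i) := fun y => by
    induction y using TensorProduct.induction_on with
    | zero => funext i; simp
    | add x y hx hy => funext i; rw [TensorProduct.tmul_add, map_add, map_add, map_add, Pi.add_apply,
        hx, hy, Pi.add_apply, map_add]
    | tmul r a =>
      funext i
      rw [TensorProduct.AlgebraTensorModule.cancelBaseChange_tmul, crd_tmul, crd_tmul, map_mul,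
        AlgHom.commutes, Algebra.smul_def, mul_one]
      rfl
  have hker : LinearMap.ker (G.toSubmodule.mkQ.baseChange S) =
      LinearMap.range (G.toSubmodule.subtype.baseChange S) := by
    have h := lTensor_exact S (LinearMap.exact_subtype_mkQ G.toSubmodule) (Submodule.mkQ_surjective _)
    refine SetLike.ext fun z => ?_
    exact h z
  refine le_antisymm ?_ (Submodule.span_le.mpr ?_)
  · rintro _ ⟨x, hx, rfl⟩
    obtain ⟨z, hz⟩ := hker.le (show cb.symm x ∈ LinearMap.ker (G.toSubmodule.mkQ.baseChange S) from hx)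
    have hx' : x = cb (G.toSubmodule.subtype.baseChange S z) := by rw [hz]; simp
    rw [LinearEquiv.coe_coe, hx']
    clear hz hx' hx
    induction z using TensorProduct.induction_on with
    | zero => simp
    | add z w hz hw => rw [map_add, map_add, map_add]; exact add_mem hz hw
    | tmul s n =>
      rw [LinearMap.baseChange_tmul,
        show s ⊗ₜ[R] G.toSubmodule.subtype n = s • ((1 : S) ⊗ₜ[R] (n : R ⊗[k] A)) by
          rw [TensorProduct.smul_tmul', smul_eq_mul, mul_one]; rfl,
        map_smul, map_smul, key]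
      exact Submodule.smul_mem _ _ (Submodule.subset_span ⟨_, ⟨n, n.2, rfl⟩, rfl⟩)
  · rintro _ ⟨_, ⟨y, hy, rfl⟩, rfl⟩
    refine ⟨cb (1 ⊗ₜ y), ?_, key y⟩
    change G.toSubmodule.mkQ.baseChange S (cb.symm (cb (1 ⊗ₜ y))) = 0
    rw [LinearEquiv.symm_apply_apply, LinearMap.baseChange_tmul, Submodule.mkQ_apply,
      (Submodule.Quotient.mk_eq_zero _).mpr hy, TensorProduct.tmul_zero]

/-- The ideal is a direct summand. -/
theorem exists_proj (I : BrSev.SBSet k A c R) :
    ∃ P : (Fin N → R) →ₗ[R] (Fin N → R), (∀ v, P v ∈ cN b I) ∧ ∀ v ∈ cN b I, P v = v := by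
  let e := Submodule.Quotient.equiv I.1.toSubmodule (cN b I) (crd b R) rfl
  haveI : Module.Projective R ((Fin N → R) ⧸ cN b I) := Module.Projective.of_equiv e
  obtain ⟨s, hs⟩ := Module.projective_lifting_property (cN b I).mkQ LinearMap.id
    (Submodule.mkQ_surjective _)
  refine ⟨LinearMap.id - s.comp (cN b I).mkQ, fun v => ?_, fun v hv => ?_⟩
  · rw [← Submodule.Quotient.mk_eq_zero, LinearMap.sub_apply, LinearMap.id_apply,
      Submodule.Quotient.mk_sub, sub_eq_zero]
    exact (LinearMap.congr_fun hs _).symm
  · rw [LinearMap.sub_apply, LinearMap.comp_apply, Submodule.mkQ_apply,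
      (Submodule.Quotient.mk_eq_zero _).mpr hv, map_zero, sub_zero]
    rfl

theorem finite_cN (I : BrSev.SBSet k A c R) : Module.Finite R (cN b I) := by
  obtain ⟨P, hP, hP'⟩ := exists_proj b I
  exact Module.Finite.of_surjective (P.codRestrict _ hP) fun v => ⟨v, Subtype.ext (hP' v v.2)⟩

theorem projective_cN (I : BrSev.SBSet k A c R) : Module.Projective R (cN b I) := by
  obtain ⟨P, hP, hP'⟩ := exists_proj b I
  exact Module.Projective.of_split (cN b I).subtype (P.codRestrict _ hP)
    (LinearMap.ext fun v => Subtype.ext (hP' v v.2))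

/-- The rank of the ideal. -/
theorem add_eq_of_basis [Nontrivial R] (I : BrSev.SBSet k A c R) {r : ℕ}
    (β : Module.Basis (Fin r) R (cN b I)) : r + c = N := by
  obtain ⟨P, hP, hP'⟩ := exists_proj b I
  let e := Submodule.Quotient.equiv I.1.toSubmodule (cN b I) (crd b R) rfl
  haveI : Module.Projective R ((Fin N → R) ⧸ cN b I) := Module.Projective.of_equiv e
  haveI : Module.Free R (cN b I) := .of_basis β
  haveI : Module.Finite R (cN b I) := .of_basis β
  let ψ : (Fin N → R) →ₗ[R] (cN b I) × ((Fin N → R) ⧸ cN b I) :=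
    (P.codRestrict _ hP).prod (cN b I).mkQ
  have hψ : Function.Bijective ψ := by
    constructor
    · intro v w h
      have h1 : v - w ∈ cN b I := (Submodule.Quotient.eq _).mp (congrArg Prod.snd h)
      have h2 : P v = P w := congrArg Subtype.val (congrArg Prod.fst h)
      rw [← sub_eq_zero, ← hP' _ h1, map_sub, h2, sub_self]
    · rintro ⟨⟨a, ha⟩, q⟩
      obtain ⟨v, rfl⟩ := Submodule.mkQ_surjective _ q
      refine ⟨v - P v + a, Prod.ext (Subtype.ext ?_) ((Submodule.Quotient.eq _).mpr ?_)⟩
      · change P (v - P v + a) = a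
        rw [map_add, map_sub, hP' _ (hP v), sub_self, zero_add, hP' _ ha]
      · rw [show v - P v + a - v = a - P v by abel]
        exact sub_mem ha (hP v)
  obtain ⟨p⟩ := (inferInstance : Nonempty (PrimeSpectrum R))
  have h := congrFun (Module.rankAtStalk_eq_of_equiv (LinearEquiv.ofBijective ψ hψ)) p
  rw [Module.rankAtStalk_prod, Pi.add_apply, ← Module.rankAtStalk_eq_of_equiv e,
    I.1.rankAtStalk_eq] at h
  rw [Module.rankAtStalk_eq_finrank_of_free, Pi.natCast_apply, Module.finrank_pi,
    Module.rankAtStalk_eq_finrank_of_free, Pi.natCast_apply, Module.finrank_eq_card_basis β] at h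
  simpa using h.symm

end Groth.Agent.SBTaut
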