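import Groth.Agent.GrpdLib.ProjVec
import Groth.Agent.SBTaut.Pt
import Groth.Agent.ProjTwist.Invertible

/-!
# Morphisms to projective space from normalised vectors on opens
-/

set_option autoImplicit false
universe u

open CategoryTheory CategoryTheory.Limits AlgebraicGeometry MvPolynomial TopologicalSpace Opposite
open Groth.Agent.QCoh Groth.Agent.GrpdLib.ProjVec
open Groth.Agent.Chow (Pr str pt X_mem)

noncomputable section

namespace Groth.Agent.SBTaut

variable {K : Type u} [Field K] {m : ℕ} {T : Scheme.{u}} (h : T ⟶ Spec (CommRingCat.of K))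

/-- Evaluation at a vector of functions. -/
def evV (W : T.Opens) (x : Fin (m + 1) → Γ(T, W)) :
    MvPolynomial (Fin (m + 1)) K →+* Γ((W : Scheme.{u}), ⊤) :=
  eval₂Hom (Coh.toGlobal (W.ι ≫ h)) fun j => W.topIso.inv (x j)

theorem evV_X (W : T.Opens) (x : Fin (m + 1) → Γ(T, W)) (j : Fin (m + 1)) :
    evV h W x (X j) = W.topIso.inv (x j) := eval₂Hom_X' _ _ _

theorem span_evV {W : T.Opens} {x : Fin (m + 1) → Γ(T, W)} {i : Fin (m + 1)} (hx : x i = 1) :
    Ideal.span (Set.range fun j => evV h W x (X j)) = ⊤ :=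
  (Ideal.eq_top_iff_one _).2 (Ideal.subset_span ⟨i, by
    show evV h W x (X i) = 1
    rw [evV_X, hx, map_one]⟩)

/-- The morphism given by a normalised vector. -/
def vW {W : T.Opens} {x : Fin (m + 1) → Γ(T, W)} {i : Fin (m + 1)} (hx : x i = 1) :
    (W : Scheme.{u}) ⟶ CohB1.ProjSpace m K :=
  vecHom (evV h W x) (span_evV h hx)

theorem vW_toSpec {W : T.Opens} {x : Fin (m + 1) → Γ(T, W)} {i : Fin (m + 1)} (hx : x i = 1) :
    vW h hx ≫ CohB1.ProjSpace.toSpec m K = W.ι ≫ h := by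
  refine (vecHom_str (evV h W x) (span_evV h hx)).trans ?_
  have : (evV h W x).comp C = Chow.specHom (W.ι ≫ h) := RingHom.ext fun a => eval₂Hom_C _ _ a
  rw [this]
  exact Chow.toSpecΓ_specHom (W.ι ≫ h)

theorem resLE_evV {T' : Scheme.{u}} (q : T' ⟶ T) {W : T.Opens} {W' : T'.Opens} (e : W' ≤ q ⁻¹ᵁ W)
    (x : Fin (m + 1) → Γ(T, W)) :
    (q.resLE W W' e).appTop.hom.comp (evV h W x) = evV (q ≫ h) W' (fun j => q.appLE W W' e (x j)) := by
  refine MvPolynomial.ringHom_ext (fun a => ?_) fun j => ?_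
  · rw [RingHom.comp_apply, evV, evV, eval₂Hom_C, eval₂Hom_C]
    have h' : q.resLE W W' e ≫ W.ι ≫ h = W'.ι ≫ q ≫ h := Scheme.Hom.resLE_comp_ι_assoc q e h
    rw [← h']
    rfl
  · rw [RingHom.comp_apply, evV_X, evV_X]
    change (q.resLE W W' e).app ⊤ (W.topIso.inv (x j)) = _
    rw [Scheme.Hom.resLE_app_top]
    exact congrArg (fun z => W'.topIso.inv (q.appLE W W' e z)) (Iso.inv_hom_id_apply W.topIso (x j))

/-- Naturality. -/
theorem resLE_vW {T' : Scheme.{u}} (q : T' ⟶ T) {W : T.Opens} {W' : T'.Opens} (e : W' ≤ q ⁻¹ᵁ W)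
    {x : Fin (m + 1) → Γ(T, W)} {i : Fin (m + 1)} (hx : x i = 1) :
    q.resLE W W' e ≫ vW h hx =
      vW (q ≫ h) (x := fun j => q.appLE W W' e (x j)) (i := i) (by simp [hx]) := by
  refine (vecHom_naturality (q.resLE W W' e) (evV h W x) (span_evV h hx)).trans ?_
  have heq := resLE_evV h q e x
  unfold vW
  congr 1

theorem homOfLE_vW {W W' : T.Opens} (e : W' ≤ W) {x : Fin (m + 1) → Γ(T, W)} {i : Fin (m + 1)}
    (hx : x i = 1) :
    T.homOfLE e ≫ vW h hx = vW h (x := fun j => rres e (x j)) (i := i) (by simp [hx]) := by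
  rw [← Scheme.Hom.resLE_id (V' := W) (V := W') e, resLE_vW]
  simp only [Category.id_comp]
  rfl

/-- Equal morphisms have proportional vectors. -/
theorem vW_eq_iff {W : T.Opens} {x x' : Fin (m + 1) → Γ(T, W)} {i i' : Fin (m + 1)} (hx : x i = 1)
    (hx' : x' i' = 1) : vW h hx = vW h hx' ↔ ∀ a b, x a * x' b = x b * x' a := by
  have hC : (evV h W x).comp C = (evV h W x').comp C :=
    RingHom.ext fun a => (eval₂Hom_C _ _ a).trans (eval₂Hom_C _ _ a).symm
  refine (vecHom_eq_iff (span_evV h hx) (span_evV h hx') hC).trans (forall₂_congr fun a b => ?_)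
  rw [evV_X, evV_X, evV_X, evV_X, ← map_mul, ← map_mul]
  exact (ConcreteCategory.bijective_of_isIso W.topIso.inv).1.eq_iff

/-- The scalars of a morphism into a chart. -/
theorem specHom_chart {S : Scheme.{u}} (i : Fin (m + 1))
    (α : HomogeneousLocalization.Away (CohB1.polyGrading m K) (X i) →+* Γ(S, ⊤))
    (q : S ⟶ Spec (CommRingCat.of K))
    (hq : (S.toSpecΓ ≫ Spec.map (CommRingCat.ofHom α) ≫ Chow.chart m K i) ≫ Chow.str m K = q) (a : K) :
    Chow.specHom q a = α (Chow.dh m K i (C a)) := by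
  rw [← hq, Category.assoc, Category.assoc, Chow.chart_toSpec (X i) (X_mem i) one_pos, ← Spec.map_comp,
    ← CommRingCat.ofHom_comp]
  refine (RingHom.congr_fun (Chow.specHom_toSpecΓ (T := S) (C := CommRingCat.of K)
    (α.comp (Chow.scal m K (X i)))) a).trans ?_
  rw [Chow.dh_C]
  rfl

/-- Morphisms into a chart are given by normalised vectors. -/
theorem exists_vec {W : T.Opens} (g : (W : Scheme.{u}) ⟶ CohB1.ProjSpace m K) (i : Fin (m + 1))
    (α : HomogeneousLocalization.Away (CohB1.polyGrading m K) (X i) →+* Γ((W : Scheme.{u}), ⊤))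
    (hg : g = (W : Scheme.{u}).toSpecΓ ≫ Spec.map (CommRingCat.ofHom α) ≫ Chow.chart m K i)
    (hgK : g ≫ CohB1.ProjSpace.toSpec m K = W.ι ≫ h) :
    ∃ (x : Fin (m + 1) → Γ(T, W)) (hx : x i = 1), vW h hx = g := by
  classical
  let ev := α.comp (Chow.dh m K i)
  have hi : ev (X i) = 1 := by
    rw [RingHom.comp_apply, Chow.dh, ZetaLib.dehom_of_mem _ _ (X_mem i)]
    convert map_one α using 2
    refine HomogeneousLocalization.val_injective _ ?_
    simp
  have hu : IsUnit (ev (X i)) := hi.symm ▸ isUnit_one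
  have haway : Chow.away ev (X i) hu = α := by
    ext y
    obtain ⟨l, a, ha, rfl⟩ := HomogeneousLocalization.Away.mk_surjective (CohB1.polyGrading m K) (X_mem i) y
    have h1 := Chow.away_mk ev (X i) hu (X_mem i) l a ha
    rw [hi, one_pow, mul_one] at h1
    rw [h1, RingHom.comp_apply, Chow.dh, ZetaLib.dehom_of_mem _ _ (by simpa using ha)]
  let x : Fin (m + 1) → Γ(T, W) := fun j => W.topIso.hom (ev (X j))
  have hx : x i = 1 := by simp only [x, hi, map_one]
  refine ⟨x, hx, ?_⟩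
  have hev : evV h W x = ev := by
    refine MvPolynomial.ringHom_ext (fun a => ?_) fun j =>
      (evV_X _ _ _ _).trans (Iso.hom_inv_id_apply W.topIso (ev (X j)))
    rw [evV, eval₂Hom_C]
    exact specHom_chart i α (W.ι ≫ h) (hgK.symm.trans (congrArg (· ≫ CohB1.ProjSpace.toSpec m K) hg)).symm a
  have hres : GrpdLib.ProjVec.res (𝟙 (W : Scheme.{u})) (evV h W x) = ev := by
    rw [hev]
    exact RingHom.ext fun p => by simp [GrpdLib.ProjVec.res]
  refine (Category.id_comp _).symm.trans ((comp_vecHom (𝟙 (W : Scheme.{u})) (evV h W x)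
    (span_evV _ hx) i (hres.symm ▸ hu)).trans ((Chow.pt_congr hres rfl rfl (X_mem i) one_pos _ (X_mem i)
      one_pos hu).trans ?_))
  rw [Chow.pt, haway]
  exact hg.symm

/-- Coordinates on a standard chart. -/
theorem exists_chart (i : Fin (m + 1)) :
    ∃ (x : Fin (m + 1) → Γ(CohB1.ProjSpace m K, ProjTwist.stdOpen m K i)) (hx : x i = 1),
      vW (CohB1.ProjSpace.toSpec m K) hx = (ProjTwist.stdOpen m K i).ι := by
  let φ := Proj.basicOpenIsoSpec (CohB1.polyGrading m K) (X i) (X_mem i) one_pos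
  refine exists_vec (CohB1.ProjSpace.toSpec m K) (W := ProjTwist.stdOpen m K i)
    (ProjTwist.stdOpen m K i).ι i (Chow.specHom φ.hom) ?_ rfl
  exact ((Category.assoc _ _ _).symm.trans
    ((congrArg (· ≫ Chow.chart m K i) (Chow.toSpecΓ_specHom φ.hom)).trans
      (Iso.hom_inv_id_assoc φ _))).symm

end Groth.Agent.SBTaut
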