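import Groth.Agent.SBTaut.MatPoint
import Groth.Agent.SBTaut.VecMor
import Groth.Agent.SBTaut.Line

/-!
# A split Severi–Brauer scheme is a projective space
-/

set_option autoImplicit false
universe u

open CategoryTheory CategoryTheory.Limits AlgebraicGeometry Opposite TopologicalSpace
open Groth.Agent.QCoh
open scoped TensorProduct

noncomputable section

namespace Groth.Agent.SBTaut

variable {k : Type u} [Field k] {A : Type u} [Ring A] [Algebra k A] {c N : ℕ} {X : Scheme.{u}}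
  {f : X ⟶ Spec (CommRingCat.of k)} (σ : BrSev.SBStr k A c f) (b : Module.Basis (Fin N) k A)
  {K : Type u} [Field K] [Algebra k K] {m : ℕ}
  (θ : K ⊗[k] A ≃ₐ[K] Matrix (Fin (m + 1)) (Fin (m + 1)) K) {T : Scheme.{u}}

/-- A `K`-scheme as a `k`-scheme. -/
abbrev kOf (h : T ⟶ Spec (CommRingCat.of K)) : T ⟶ Spec (CommRingCat.of k) :=
  h ≫ Spec.map (CommRingCat.ofHom (algebraMap k K))

theorem towerOf (h : T ⟶ Spec (CommRingCat.of K)) (W : T.Opens) :
    letI := alg (kOf (k := k) h) W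
    letI := alg h W
    IsScalarTower k K Γ(T, W) := by
  letI := alg (kOf (k := k) h) W
  letI := alg h W
  refine IsScalarTower.of_algebraMap_eq fun a => ?_
  exact congrArg (T.presheaf.map (homOfLE (le_top : W ≤ ⊤)).op)
    (RingHom.congr_fun (toGlobal_comp h (algebraMap k K)) a)

/-- The rows spanned by a vector. -/
def rsp (h : T ⟶ Spec (CommRingCat.of K)) (W : T.Opens) (x : Fin (m + 1) → Γ(T, W)) :
    Submodule Γ(T, W) (Fin N → Γ(T, W)) :=
  letI := alg (kOf (k := k) h) W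
  letI := alg h W
  haveI := towerOf (k := k) h W
  Submodule.span Γ(T, W) (Set.range (rowVec b θ Γ(T, W) x))

theorem rsp_eq_iff (h : T ⟶ Spec (CommRingCat.of K)) (W : T.Opens) {x x' : Fin (m + 1) → Γ(T, W)}
    {i i' : Fin (m + 1)} (hx : x i = 1) (hx' : x' i' = 1) :
    rsp b θ h W x = rsp b θ h W x' ↔ ∀ a c', x a * x' c' = x c' * x' a :=
  letI := alg (kOf (k := k) h) W
  letI := alg h W
  haveI := towerOf (k := k) h W
  span_rowVec_eq_iff b θ hx hx'

/-- Base change of rows. -/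
theorem span_rsp {T' : Scheme.{u}} (q : T' ⟶ T) {h : T ⟶ Spec (CommRingCat.of K)}
    {h' : T' ⟶ Spec (CommRingCat.of K)} (hq : q ≫ h = h') {W : T.Opens} {W' : T'.Opens}
    (e : W' ≤ q ⁻¹ᵁ W) (x : Fin (m + 1) → Γ(T, W)) :
    Submodule.span Γ(T', W') ((fun (v : Fin N → Γ(T, W)) l => q.appLE W W' e (v l)) ''
      (rsp b θ h W x : Set (Fin N → Γ(T, W)))) = rsp b θ h' W' (fun j => q.appLE W W' e (x j)) := by
  subst hq
  letI := alg (kOf (k := k) h) W
  letI := alg h W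
  haveI := towerOf (k := k) h W
  letI := alg (kOf (k := k) (q ≫ h)) W'
  letI := alg (q ≫ h) W'
  haveI := towerOf (k := k) (q ≫ h) W'
  have hr : ∀ a, (fun l => q.appLE W W' e (rowVec b θ Γ(T, W) x a l)) =
      rowVec b θ Γ(T', W') (fun j => q.appLE W W' e (x j)) a := fun a =>
    rowVec_map b θ (q.appLE W W' e).hom (fun z => appLE_algHom h q e z) x a
  refine le_antisymm (Submodule.span_le.mpr ?_) (Submodule.span_le.mpr ?_)
  · rintro _ ⟨v, hv, rfl⟩
    obtain ⟨c', rfl⟩ := (Submodule.mem_span_range_iff_exists_fun _).mp hv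
    refine (Submodule.mem_span_range_iff_exists_fun _).mpr ⟨fun a => q.appLE W W' e (c' a), funext fun l => ?_⟩
    simp [map_sum]
    exact Finset.sum_congr rfl fun a _ => congrArg _ (congrFun (hr a) l).symm
  · rintro _ ⟨a, rfl⟩
    exact Submodule.subset_span ⟨_, Submodule.subset_span ⟨a, rfl⟩, hr a⟩

/-- Base change of a point given by rows. -/
theorem NV_rsp {T' : Scheme.{u}} (q : T' ⟶ T) {h : T ⟶ Spec (CommRingCat.of K)}
    {h' : T' ⟶ Spec (CommRingCat.of K)} (hq : q ≫ h = h') (ψ : T ⟶ X) (w : ψ ≫ f = kOf h)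
    {ψ' : T' ⟶ X} (eψ : q ≫ ψ = ψ') (w' : ψ' ≫ f = kOf h') {W : T.Opens} {W' : T'.Opens}
    (hW : IsAffineOpen W) (hW' : IsAffineOpen W') (e : W' ≤ q ⁻¹ᵁ W) {x : Fin (m + 1) → Γ(T, W)}
    (hx : NV σ b ψ w hW = rsp b θ h W x) :
    NV σ b ψ' w' hW' = rsp b θ h' W' (fun j => q.appLE W W' e (x j)) := by
  rw [NV_map σ b q ψ w eψ w' hW hW' e, hx]
  exact span_rsp b θ q hq e x

theorem NV_rsp_res {h : T ⟶ Spec (CommRingCat.of K)} (ψ : T ⟶ X) (w : ψ ≫ f = kOf h)
    {W W' : T.Opens} (hW : IsAffineOpen W) (hW' : IsAffineOpen W') (e : W' ≤ W)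
    {x : Fin (m + 1) → Γ(T, W)} (hx : NV σ b ψ w hW = rsp b θ h W x) :
    NV σ b ψ w hW' = rsp b θ h W' (fun j => rres e (x j)) :=
  NV_rsp σ b θ (𝟙 T) (Category.id_comp h) ψ w (Category.id_comp ψ) w hW hW' e hx

include σ b in
/-- Points are determined by their ideals. -/
theorem hom_ext_NV {ψ ψ' : T ⟶ X} {h : T ⟶ Spec (CommRingCat.of k)} (w : ψ ≫ f = h) (w' : ψ' ≫ f = h)
    (H : ∀ y : T, ∃ (W : T.Opens) (hW : IsAffineOpen W), y ∈ W ∧ NV σ b ψ w hW = NV σ b ψ' w' hW) :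
    ψ = ψ' := by
  choose W hW hy heq using H
  refine (T.openCoverOfIsOpenCover W (eq_top_iff.mpr fun y _ => Opens.mem_iSup.mpr ⟨y, hy y⟩)).hom_ext
    _ _ fun y => ?_
  change (W y).ι ≫ ψ = (W y).ι ≫ ψ'
  letI := alg h (W y)
  have hp : pt (f := f) ψ w (hW y) = pt (f := f) ψ' w' (hW y) :=
    (σ.bij Γ(T, W y)).injective (cN_injective b (heq y))
  have h1 : (hW y).fromSpec ≫ ψ = (hW y).fromSpec ≫ ψ' := congrArg Subtype.val hp
  rw [← (hW y).isoSpec_hom_fromSpec, Category.assoc, Category.assoc, h1]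

include σ b θ in
/-- The inverse map. -/
theorem exists_backward (hN : N = (m + 1) * (m + 1)) (hc : c + (m + 1) = (m + 1) * (m + 1)) :
    ∃ Ψ : BrSev.bc f K ⟶ CohB1.ProjSpace m K, Ψ ≫ CohB1.ProjSpace.toSpec m K = BrSev.bcTo f K ∧
      ∀ y : BrSev.bc f K, ∃ (V : (BrSev.bc f K).Opens) (hV : IsAffineOpen V) (x : Fin (m + 1) → Γ(BrSev.bc f K, V))
        (i : Fin (m + 1)) (hx : x i = 1), y ∈ V ∧
        NV σ b (BrSev.proj f K) (h := kOf (BrSev.bcTo f K)) pullback.condition hV = rsp b θ (BrSev.bcTo f K) V x ∧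
        V.ι ≫ Ψ = vW (BrSev.bcTo f K) hx := by
  classical
  let P := BrSev.bc f K
  let h := BrSev.bcTo f K
  have H : ∀ y : P, ∃ (V : P.Opens) (hV : IsAffineOpen V) (x : Fin (m + 1) → Γ(P, V)) (i : Fin (m + 1)),
      x i = 1 ∧ y ∈ V ∧
      NV σ b (BrSev.proj f K) (h := kOf h) pullback.condition hV = rsp b θ h V x := fun y => by
    obtain ⟨_, ⟨V, hV, rfl⟩, hy, -⟩ :=
      P.isBasis_affineOpens.exists_subset_of_mem_open (Set.mem_univ y) isOpen_univ
    letI := alg (kOf (k := k) h) V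
    letI := alg h V
    haveI := towerOf (k := k) h V
    haveI : Nontrivial Γ(P, V) := (P.presheaf.germ V y hy).hom.domain_nontrivial
    let I := σ.bij Γ(P, V) (pt (f := f) (BrSev.proj f K) (h := kOf h) pullback.condition hV)
    obtain ⟨v, hv, a, j, hvp⟩ := exists_entry_not_mem b θ (Nat.succ_pos m) hN hc I (hV.primeIdealOf ⟨y, hy⟩)
    let g : Γ(P, V) := gMat b θ Γ(P, V) v a j
    have hyg : y ∈ P.basicOpen g := by
      letI := P.presheaf.algebra_section_stalk ⟨y, hy⟩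
      haveI := hV.isLocalization_stalk ⟨y, hy⟩
      exact (P.mem_basicOpen g y hy).mpr ((IsLocalization.AtPrime.isUnit_to_map_iff (P.presheaf.stalk y)
        (hV.primeIdealOf ⟨y, hy⟩).asIdeal g).mpr hvp)
    let V' := P.basicOpen g
    let e : V' ≤ V := P.basicOpen_le g
    letI := alg (kOf (k := k) h) V'
    letI := alg h V'
    haveI := towerOf (k := k) h V'
    haveI : Nontrivial Γ(P, V') := (P.presheaf.germ V' y hyg).hom.domain_nontrivial
    have hu : IsUnit (rres e g) := RingedSpace.isUnit_res_basicOpen _ g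
    let x : Fin (m + 1) → Γ(P, V') := fun l => (hu.unit⁻¹).val * rres e (gMat b θ Γ(P, V) v a l)
    have hx : x j = 1 := IsUnit.val_inv_mul hu
    refine ⟨V', hV.basicOpen g, x, j, hx, hyg, ?_⟩
    let I' := σ.bij Γ(P, V') (pt (f := f) (BrSev.proj f K) (h := kOf h) pullback.condition (hV.basicOpen g))
    have hle : Submodule.span Γ(P, V') (Set.range (rowVec b θ Γ(P, V') x)) ≤ cN b I' := by
      refine Submodule.span_le.mpr ?_
      rintro _ ⟨l, rfl⟩
      have hmem := mem_NV_res σ b (BrSev.proj f K) (h := kOf h) pullback.condition hV (hV.basicOpen g) e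
        (rowVec_mem b θ I hv a l)
      rw [show (fun i => rres e (rowVec b θ Γ(P, V) (gMat b θ Γ(P, V) v a) l i)) =
        rowVec b θ Γ(P, V') (fun s => rres e (gMat b θ Γ(P, V) v a s)) l from
          rowVec_map b θ (rres e).hom (fun z => rres_algHom h e z) _ l] at hmem
      rw [show x = (hu.unit⁻¹).val • fun s => rres e (gMat b θ Γ(P, V) v a s) from rfl, rowVec_smul]
      exact Submodule.smul_mem _ _ hmem
    rw [← cN_rowI b θ hx hc] at hle
    exact ((cN_eq_of_le b hle).symm.trans (cN_rowI b θ hx hc))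
  choose V hV x i hx hy hNV using H
  have hcov : IsOpenCover fun y : P => V y := eq_top_iff.mpr fun y _ => Opens.mem_iSup.mpr ⟨y, hy y⟩
  let 𝒰 := P.openCoverOfIsOpenCover V hcov
  have hcompat : ∀ y z : P, P.homOfLE (inf_le_left : V y ⊓ V z ≤ V y) ≫ vW h (hx y) =
      P.homOfLE (inf_le_right : V y ⊓ V z ≤ V z) ≫ vW h (hx z) := fun y z => by
    rw [homOfLE_vW, homOfLE_vW, vW_eq_iff]
    intro a c'
    choose W hW hpW hWle using fun p : (V y ⊓ V z : P.Opens) => show ∃ W : P.Opens, IsAffineOpen W ∧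
        p.1 ∈ W ∧ W ≤ V y ⊓ V z from by
      obtain ⟨_, ⟨W, hW, rfl⟩, hp, hle⟩ := P.isBasis_affineOpens.exists_subset_of_mem_open p.2 (V y ⊓ V z).2
      exact ⟨W, hW, hp, hle⟩
    refine eq_of_locally_eq (Coh.structureModule P) hWle (fun p hp => Opens.mem_iSup.mpr ⟨⟨p, hp⟩, hpW _⟩)
      _ _ fun p => ?_
    have h1 := NV_rsp_res σ b θ (BrSev.proj f K) (h := h) pullback.condition (hV y) (hW p)
      ((hWle p).trans inf_le_left) (hNV y)
    have h2 := NV_rsp_res σ b θ (BrSev.proj f K) (h := h) pullback.condition (hV z) (hW p)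
      ((hWle p).trans inf_le_right) (hNV z)
    have h3 := (rsp_eq_iff b θ h (W p) (i := i y) (i' := i z) (by simp [hx y]) (by simp [hx z])).1
      (h1.symm.trans h2) a c'
    change rres (hWle p) (_ * _) = rres (hWle p) (_ * _)
    simp only [map_mul, rres_rres]
    exact h3
  let Ψ : P ⟶ CohB1.ProjSpace m K := Scheme.Cover.glueMorphisms 𝒰 (fun y => vW h (hx y)) fun y z => by
    refine (cancel_epi (isPullback_opens_inf (V y) (V z)).isoPullback.hom).mp ?_
    erw [(isPullback_opens_inf (V y) (V z)).isoPullback_hom_fst_assoc,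
      (isPullback_opens_inf (V y) (V z)).isoPullback_hom_snd_assoc]
    exact hcompat y z
  have hΨ : ∀ y, (V y).ι ≫ Ψ = vW h (hx y) := fun y => Scheme.Cover.ι_glueMorphisms 𝒰 _ _ y
  refine ⟨Ψ, ?_, fun y => ⟨V y, hV y, x y, i y, hx y, hy y, hNV y, hΨ y⟩⟩
  refine 𝒰.hom_ext _ _ fun y => ?_
  change (V y).ι ≫ Ψ ≫ _ = (V y).ι ≫ h
  rw [← Category.assoc, hΨ y, vW_toSpec]

include σ b θ in
/-- The map from projective space. -/
theorem exists_forward (hc : c + (m + 1) = (m + 1) * (m + 1)) :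
    ∃ (Φ : CohB1.ProjSpace m K ⟶ X) (w : Φ ≫ f = kOf (CohB1.ProjSpace.toSpec m K)),
      ∀ i, ∃ (x : Fin (m + 1) → Γ(CohB1.ProjSpace m K, ProjTwist.stdOpen m K i)) (hx : x i = 1),
        vW (CohB1.ProjSpace.toSpec m K) hx = (ProjTwist.stdOpen m K i).ι ∧
        NV σ b Φ w (ProjTwist.isAffineOpen_stdOpen m K i) =
          rsp b θ (CohB1.ProjSpace.toSpec m K) (ProjTwist.stdOpen m K i) x := by
  classical
  let P := CohB1.ProjSpace m K
  let hK : P ⟶ Spec (CommRingCat.of K) := CohB1.ProjSpace.toSpec m K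
  let hk : P ⟶ Spec (CommRingCat.of k) := kOf hK
  let U : Fin (m + 1) → P.Opens := fun i => ProjTwist.stdOpen m K i
  have hU : ∀ i, IsAffineOpen (U i) := ProjTwist.isAffineOpen_stdOpen m K
  have hU2 : ∀ i j, IsAffineOpen (U i ⊓ U j) := fun i j => by
    rw [show U i ⊓ U j = Proj.basicOpen (CohB1.polyGrading m K) (MvPolynomial.X i * MvPolynomial.X j) from
      (Proj.basicOpen_mul (CohB1.polyGrading m K) (MvPolynomial.X i) (MvPolynomial.X j)).symm]
    exact Proj.isAffineOpen_basicOpen _ _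
      (SetLike.mul_mem_graded (Chow.X_mem i) (Chow.X_mem j)) (by omega)
  choose x hx hchart using exists_chart (K := K) (m := m)
  have hrsp : ∀ i j, rsp b θ hK (U i ⊓ U j) (fun l => rres inf_le_left (x i l)) =
      rsp b θ hK (U i ⊓ U j) (fun l => rres inf_le_right (x j l)) := fun i j => by
    rw [rsp_eq_iff b θ hK _ (i := i) (i' := j) (by simp [hx i]) (by simp [hx j])]
    have e : vW hK (W := U i ⊓ U j) (x := fun l => rres inf_le_left (x i l)) (i := i) (by simp [hx i]) =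
        vW hK (W := U i ⊓ U j) (x := fun l => rres inf_le_right (x j l)) (i := j) (by simp [hx j]) := by
      rw [← homOfLE_vW hK inf_le_left (hx i), ← homOfLE_vW hK inf_le_right (hx j), hchart i, hchart j,
        Scheme.homOfLE_ι, Scheme.homOfLE_ι]
    exact (vW_eq_iff hK _ _).1 e
  let aK : ∀ V : P.Opens, Algebra K Γ(P, V) := fun V => alg hK V
  letI ak : ∀ V : P.Opens, Algebra k Γ(P, V) := fun V => alg hk V
  letI := aK
  haveI htw : ∀ V : P.Opens, IsScalarTower k K Γ(P, V) := fun V => towerOf hK V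
  haveI hnt : ∀ i, Nontrivial Γ(P, U i) := fun i =>
    (PicPn.valHom (PicPn.η_mem_stdOpen (n := m) (K := K) i)).domain_nontrivial
  let I : ∀ i, BrSev.SBSet k A c Γ(P, U i) := fun i => rowI θ (x i) i (hx i) hc
  let p : ∀ i, BrSev.Pts f Γ(P, U i) := fun i => (σ.bij _).symm (I i)
  let φl : ∀ i j, Γ(P, U i) →ₐ[k] Γ(P, U i ⊓ U j) := fun i j =>
    { (rres inf_le_left).hom with commutes' := fun a => rres_algHom hk inf_le_left a }
  let φr : ∀ i j, Γ(P, U j) →ₐ[k] Γ(P, U i ⊓ U j) := fun i j =>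
    { (rres inf_le_right).hom with commutes' := fun a => rres_algHom hk inf_le_right a }
  have hcomp : ∀ i j, P.homOfLE (inf_le_left : U i ⊓ U j ≤ U i) ≫ (hU i).isoSpec.hom ≫ (p i).1 =
      P.homOfLE (inf_le_right : U i ⊓ U j ≤ U j) ≫ (hU j).isoSpec.hom ≫ (p j).1 := fun i j => by
    rw [reassoc_of% (homOfLE_isoSpec (hU i) (hU2 i j) inf_le_left),
      reassoc_of% (homOfLE_isoSpec (hU j) (hU2 i j) inf_le_right)]
    refine congrArg ((hU2 i j).isoSpec.hom ≫ ·) (congrArg Subtype.val (?_ :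
      BrSev.Pts.map f (φl i j) (p i) = BrSev.Pts.map f (φr i j) (p j)))
    refine (σ.bij _).injective (cN_injective b ?_)
    rw [cN_natural, cN_natural, Equiv.apply_symm_apply, Equiv.apply_symm_apply, cN_rowI, cN_rowI]
    exact (span_rsp b θ (𝟙 P) (Category.id_comp hK) (W' := U i ⊓ U j) inf_le_left (x i)).trans
      ((hrsp i j).trans (span_rsp b θ (𝟙 P) (Category.id_comp hK) (W' := U i ⊓ U j) inf_le_right (x j)).symm)
  obtain ⟨Φ, hΦ⟩ := exists_glue_hom U (ProjTwist.iSup_stdOpen m K) (fun i => (hU i).isoSpec.hom ≫ (p i).1) hcomp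
  have hw : Φ ≫ f = hk := by
    refine (P.openCoverOfIsOpenCover _ (ProjTwist.iSup_stdOpen m K)).hom_ext _ _ fun i => ?_
    change (U i).ι ≫ Φ ≫ f = (U i).ι ≫ hk
    rw [← Category.assoc, hΦ i, Category.assoc, (p i).2]
    exact ((congrArg ((hU i).isoSpec.hom ≫ ·) (fromSpec_comp hk (hU i)).symm).trans
      ((hU i).isoSpec_hom_fromSpec_assoc hk))
  refine ⟨Φ, hw, fun i => ⟨x i, hx i, hchart i, ?_⟩⟩
  have hp : pt (f := f) Φ hw (hU i) = p i := Subtype.ext (by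
    change (hU i).fromSpec ≫ Φ = (p i).1
    rw [← IsAffineOpen.isoSpec_inv_ι, Category.assoc, hΦ i]
    exact Iso.inv_hom_id_assoc _ _)
  change cN b (σ.bij _ (pt (f := f) Φ hw (hU i))) = _
  rw [hp, Equiv.apply_symm_apply, cN_rowI]
  rfl

include σ b θ in
/-- A split Severi–Brauer scheme is a projective space. -/
theorem nonempty_splitting (hN : N = (m + 1) * (m + 1)) (hc : c + (m + 1) = (m + 1) * (m + 1)) :
    Nonempty (BrSev.Splitting f K m) := by
  let P := BrSev.bc f K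
  let Q := CohB1.ProjSpace m K
  let h := BrSev.bcTo f K
  let hQ : Q ⟶ Spec (CommRingCat.of K) := CohB1.ProjSpace.toSpec m K
  obtain ⟨Φ, w, hΦ⟩ := exists_forward σ b θ hc
  obtain ⟨Ψ, hΨK, hΨ⟩ := exists_backward σ b θ hN hc
  let Φ' : Q ⟶ P := pullback.lift Φ hQ w
  have hΦ'1 : Φ' ≫ BrSev.proj f K = Φ := pullback.lift_fst _ _ _
  have hΦ'2 : Φ' ≫ h = hQ := pullback.lift_snd _ _ _
  have wP : BrSev.proj f K ≫ f = kOf h := pullback.condition
  have h1 : Ψ ≫ Φ = BrSev.proj f K := by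
    refine hom_ext_NV σ b (h := kOf h) (by rw [Category.assoc, w, kOf, ← Category.assoc, hΨK]) wP fun y => ?_
    obtain ⟨V, hV, x, j, hx, hy, hNV, hVΨ⟩ := hΨ y
    obtain ⟨i, hi⟩ := Opens.mem_iSup.mp ((ProjTwist.iSup_stdOpen m K).ge (trivial : Ψ y ∈ (⊤ : Q.Opens)))
    obtain ⟨xc, hxc, hchart, hNVc⟩ := hΦ i
    obtain ⟨_, ⟨W, hW, rfl⟩, hyW, hle⟩ := P.isBasis_affineOpens.exists_subset_of_mem_open
      (show y ∈ V ⊓ Ψ ⁻¹ᵁ ProjTwist.stdOpen m K i from ⟨hy, hi⟩) (V ⊓ Ψ ⁻¹ᵁ ProjTwist.stdOpen m K i).2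
    have e1 : W ≤ V := fun z hz => (hle hz).1
    have e2 : W ≤ Ψ ⁻¹ᵁ ProjTwist.stdOpen m K i := fun z hz => (hle hz).2
    refine ⟨W, hW, hyW, ?_⟩
    rw [NV_rsp_res σ b θ (BrSev.proj f K) (h := h) wP hV hW e1 hNV,
      NV_rsp σ b θ Ψ hΨK Φ w rfl _ (ProjTwist.isAffineOpen_stdOpen m K i) hW e2 hNVc,
      rsp_eq_iff b θ h W (i := i) (i' := j) (by simp [hxc]) (by simp [hx]),
      ← vW_eq_iff h (i := i) (i' := j) (by simp [hxc]) (by simp [hx]), ← homOfLE_vW h e1 hx, ← hVΨ]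
    have hn := resLE_vW hQ Ψ e2 hxc
    simp only [hΨK, hQ] at hn
    rw [← hn, hchart, Scheme.Hom.resLE_comp_ι, Scheme.homOfLE_ι_assoc]
  refine ⟨{ iso := ⟨Ψ, Φ', ?_, ?_⟩, comm := hΨK }⟩
  · refine pullback.hom_ext ?_ ?_
    · rw [Category.assoc, Category.id_comp]
      exact (congrArg (Ψ ≫ ·) hΦ'1).trans h1
    · rw [Category.assoc, Category.id_comp]
      exact (congrArg (Ψ ≫ ·) hΦ'2).trans hΨK
  · have hcov : ∀ z : Q, ∃ W : Q.Opens, z ∈ W ∧ W.ι ≫ Φ' ≫ Ψ = W.ι := fun z => by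
      obtain ⟨i, hi⟩ := Opens.mem_iSup.mp ((ProjTwist.iSup_stdOpen m K).ge (trivial : z ∈ (⊤ : Q.Opens)))
      obtain ⟨xc, hxc, hchart, hNVc⟩ := hΦ i
      obtain ⟨V, hV, x, j, hx, hy, hNV, hVΨ⟩ := hΨ (Φ' z)
      obtain ⟨_, ⟨W, hW, rfl⟩, hzW, hle⟩ := Q.isBasis_affineOpens.exists_subset_of_mem_open
        (show z ∈ ProjTwist.stdOpen m K i ⊓ Φ' ⁻¹ᵁ V from ⟨hi, hy⟩) (ProjTwist.stdOpen m K i ⊓ Φ' ⁻¹ᵁ V).2
      have e1 : W ≤ ProjTwist.stdOpen m K i := fun z hz => (hle hz).1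
      have e2 : W ≤ Φ' ⁻¹ᵁ V := fun z hz => (hle hz).2
      refine ⟨W, hzW, ?_⟩
      have h2 := NV_rsp σ b θ Φ' hΦ'2 (BrSev.proj f K) wP hΦ'1 w hV hW e2 hNV
      rw [NV_rsp_res σ b θ Φ w (ProjTwist.isAffineOpen_stdOpen m K i) hW e1 hNVc,
        rsp_eq_iff b θ hQ W (i := i) (i' := j) (by simp [hxc]) (by simp [hx]),
        ← vW_eq_iff hQ (i := i) (i' := j) (by simp [hxc]) (by simp [hx]), ← homOfLE_vW hQ e1 hxc, hchart,
        Scheme.homOfLE_ι] at h2
      have hn := resLE_vW h Φ' e2 hx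
      simp only [hΦ'2] at hn
      rw [← Scheme.Hom.resLE_comp_ι_assoc Φ' e2, hVΨ, hn]
      exact h2.symm
    choose W hzW hW using hcov
    refine (Q.openCoverOfIsOpenCover W (eq_top_iff.mpr fun z _ => Opens.mem_iSup.mpr ⟨z, hzW z⟩)).hom_ext
      _ _ fun z => ?_
    exact (hW z).trans (Category.comp_id _).symm

end Groth.Agent.SBTaut
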