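import Groth.Agent.SBTaut.SymExtension
import Mathlib.Algebra.Group.UniqueProds.Basic

/-!
# Iterated generic symbol algebras
-/

set_option autoImplicit false
set_option maxHeartbeats 2000000
set_option synthInstance.maxHeartbeats 400000
universe u

open scoped TensorProduct
open Groth.Agent.CSA

noncomputable section

namespace Groth.Agent.SBTaut

variable {k : Type u} [Field k] {m : ℕ}

/-- The monomials in two elements. -/
def mon {S : Type u} [Monoid S] (x y : S) (u : ℕ × ℕ) : S := x ^ u.1 * y ^ u.2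

theorem mon_mul_mon {S : Type u} [Ring S] [Algebra k S] {x y : S} {w : k} (hw : w ≠ 0)
    (h : x * y = w • (y * x)) (u v : ℕ × ℕ) :
    mon x y u * mon x y v = (w ^ (u.2 * v.1))⁻¹ • mon x y (u + v) := by
  have h1 : ∀ b : ℕ, x * y ^ b = w ^ b • (y ^ b * x) := fun b => by
    induction b with
    | zero => simp
    | succ b ih =>
      rw [pow_succ y, ← mul_assoc, ih, smul_mul_assoc, mul_assoc, h, mul_smul_comm, smul_smul, ← pow_succ,
        mul_assoc]
  have h2 : ∀ a b : ℕ, x ^ a * y ^ b = w ^ (b * a) • (y ^ b * x ^ a) := fun a b => by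
    induction a with
    | zero => simp
    | succ a ih =>
      rw [pow_succ' x, mul_assoc, ih, mul_smul_comm, ← mul_assoc, h1, smul_mul_assoc, smul_smul, ← pow_add,
        mul_assoc, Nat.mul_succ]
  have h3 : y ^ u.2 * x ^ v.1 = (w ^ (u.2 * v.1))⁻¹ • (x ^ v.1 * y ^ u.2) := by
    rw [h2, smul_smul, inv_mul_cancel₀ (pow_ne_zero _ hw), one_smul]
  simp only [mon, Prod.fst_add, Prod.snd_add, pow_add]
  rw [mul_assoc (x ^ u.1), ← mul_assoc (y ^ u.2), h3, smul_mul_assoc, mul_smul_comm]
  simp only [mul_assoc]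

theorem noZeroDivisors_symbolTensor (hm : 0 < m) {ω : k} (hω : IsPrimitiveRoot ω m)
    {S : Type u} [Ring S] [Algebra (Rat2 k) S] [Algebra k S] [IsScalarTower k (Rat2 k) S]
    (h : CSAGal.IsSymbolAlg (Rat2 k) m (algebraMap k (Rat2 k) ω) (gen2 k 0) (gen2 k 1) S)
    (D : Type u) [DivisionRing D] [Algebra k D] : NoZeroDivisors (S ⊗[k] D) := by
  classical
  obtain ⟨x, y, hx, hy, hxy, htop, -, hd⟩ := h
  rw [algebraMap_smul] at hxy
  have hw : ω ≠ 0 := hω.ne_zero hm.ne'
  let P := MvPolynomial (Fin 2) k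
  let W := mon x y
  let st : ℕ × ℕ → Rat2 k := fun q => (gen2 k 0 : Rat2 k) ^ q.1 * (gen2 k 1 : Rat2 k) ^ q.2
  have hred : ∀ (q : ℕ × ℕ) (r : ℕ × ℕ), W (m * q.1 + r.1, m * q.2 + r.2) = st q • W r := by
    intro q r
    simp only [W, mon, st, pow_add, pow_mul, hx, hy, ← map_pow, ← Algebra.smul_def, smul_mul_assoc,
      mul_smul_comm, smul_smul]
    rw [mul_comm]
  let B : Fin m × Fin m → S := fun r => W (r.1, r.2)
  have hmodW : ∀ u : ℕ × ℕ, W u = st (u.1 / m, u.2 / m) • B (⟨u.1 % m, Nat.mod_lt _ hm⟩, ⟨u.2 % m, Nat.mod_lt _ hm⟩) := by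
    intro u
    rw [← hred, Nat.div_add_mod, Nat.div_add_mod]
  have hspan : ⊤ ≤ Submodule.span (Rat2 k) (Set.range B) := by
    have hW : ∀ u, W u ∈ Submodule.span (Rat2 k) (Set.range B) := fun u => by
      rw [hmodW]
      exact Submodule.smul_mem _ _ (Submodule.subset_span ⟨_, rfl⟩)
    intro z hz0
    clear hz0
    have hz : z ∈ Submodule.span (Rat2 k) (Set.range W) := by
      have hz' : z ∈ Algebra.adjoin (Rat2 k) ({x, y} : Set S) := htop ▸ Algebra.mem_top
      induction hz' using Algebra.adjoin_induction with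
      | mem w hw' =>
        rcases hw' with rfl | rfl
        · exact Submodule.subset_span ⟨(1, 0), by simp [W, mon]⟩
        · exact Submodule.subset_span ⟨(0, 1), by simp [W, mon]⟩
      | algebraMap r =>
        rw [Algebra.algebraMap_eq_smul_one]
        exact Submodule.smul_mem _ _ (Submodule.subset_span ⟨(0, 0), by simp [W, mon]⟩)
      | add v w _ _ hv hw' => exact add_mem hv hw'
      | mul v w _ _ hv hw' =>
        have : Submodule.span (Rat2 k) (Set.range W) * Submodule.span (Rat2 k) (Set.range W) ≤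
            Submodule.span (Rat2 k) (Set.range W) := by
          rw [Submodule.span_mul_span, Submodule.span_le]
          rintro _ ⟨_, ⟨u, rfl⟩, _, ⟨u', rfl⟩, rfl⟩
          show W u * W u' ∈ _
          rw [mon_mul_mon hw hxy, ← algebraMap_smul (Rat2 k)]
          exact Submodule.smul_mem _ _ (Submodule.subset_span ⟨_, rfl⟩)
        exact this (Submodule.mul_mem_mul hv hw')
    exact Submodule.span_le.2 (by rintro _ ⟨u, rfl⟩; exact hW u) hz
  have hB : LinearIndependent (Rat2 k) B :=
    linearIndependent_of_top_le_span_of_card_eq_finrank hspan (by simp [hd, sq])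
  have hst : LinearIndependent k st := by
    let e : ℕ × ℕ → (Fin 2 →₀ ℕ) := fun q => Finsupp.single 0 q.1 + Finsupp.single 1 q.2
    have he : Function.Injective e := fun a b h' => by
      have h0 := DFunLike.congr_fun h' 0
      have h1 := DFunLike.congr_fun h' 1
      simp [e] at h0 h1
      exact Prod.ext h0 h1
    have h0 := ((MvPolynomial.basisMonomials (Fin 2) k).linearIndependent.comp e he).map'
      (IsScalarTower.toAlgHom k P (Rat2 k)).toLinearMap
      (LinearMap.ker_eq_bot.2 (IsFractionRing.injective P (Rat2 k)))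
    have hfun : st = (IsScalarTower.toAlgHom k P (Rat2 k)).toLinearMap ∘ (⇑(MvPolynomial.basisMonomials (Fin 2) k) ∘ e) := by
      funext q
      simp [st, e, gen2, MvPolynomial.coe_basisMonomials, ← map_pow, ← map_mul, MvPolynomial.X_pow_eq_monomial,
        MvPolynomial.monomial_mul]
      rfl
    rw [hfun]
    exact h0
  have hWi : LinearIndependent k W := by
    let g : ℕ × ℕ → (ℕ × ℕ) × (Fin m × Fin m) := fun u =>
      ((u.1 / m, u.2 / m), (⟨u.1 % m, Nat.mod_lt _ hm⟩, ⟨u.2 % m, Nat.mod_lt _ hm⟩))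
    have hg : Function.Injective g := fun a b h' => by
      simp only [g, Prod.mk.injEq, Fin.mk.injEq] at h'
      refine Prod.ext ?_ ?_
      · rw [← Nat.div_add_mod a.1 m, ← Nat.div_add_mod b.1 m, h'.1.1, h'.2.1]
      · rw [← Nat.div_add_mod a.2 m, ← Nat.div_add_mod b.2 m, h'.1.2, h'.2.2]
    have hfun : W = (fun p : (ℕ × ℕ) × (Fin m × Fin m) => st p.1 • B p.2) ∘ g := funext fun u => hmodW u
    rw [hfun]
    exact (linearIndependent_smul hst hB).comp g hg
  let Λ : (ℕ × ℕ →₀ k) →ₗ[k] S := Finsupp.linearCombination k W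
  let Ψ : (ℕ × ℕ →₀ D) →ₗ[k] S ⊗[k] D := Finsupp.lsum k fun u => TensorProduct.mk k S D (W u)
  have hΨ : Function.Injective Ψ := by
    have : Ψ = (Λ.rTensor D) ∘ₗ (TensorProduct.finsuppScalarLeft k D (ℕ × ℕ)).symm.toLinearMap := by
      refine Finsupp.lhom_ext fun u d => ?_
      have he : (TensorProduct.finsuppScalarLeft k D (ℕ × ℕ)).symm (Finsupp.single u d) =
          Finsupp.single u (1 : k) ⊗ₜ d := by
        rw [LinearEquiv.symm_apply_eq, TensorProduct.finsuppScalarLeft_apply_tmul]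
        simp
      simp [Ψ, Λ, he]
    rw [this, LinearMap.coe_comp]
    exact (Module.Flat.rTensor_preserves_injective_linearMap (M := D) Λ hWi).comp
      (LinearEquiv.injective _)
  have hΨm : ∀ u d, (W u ⊗ₜ[k] d) = Ψ (Finsupp.single u d) := fun u d => by simp [Ψ]
  -- products of nonzero combinations of monomials are nonzero
  have hprod : ∀ f g : ℕ × ℕ →₀ D, f ≠ 0 → g ≠ 0 → Ψ f * Ψ g ≠ 0 := by
    intro f g hf hg
    let F : ℕ × ℕ →₀ D := ∑ p ∈ f.support ×ˢ g.support,
      Finsupp.single (p.1 + p.2) ((ω ^ (p.1.2 * p.2.1))⁻¹ • (f p.1 * g p.2))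
    have hF : Ψ f * Ψ g = Ψ F := by
      conv_lhs => rw [show Ψ f = ∑ u ∈ f.support, W u ⊗ₜ[k] f u from Finsupp.lsum_apply ..,
        show Ψ g = ∑ u ∈ g.support, W u ⊗ₜ[k] g u from Finsupp.lsum_apply ..]
      rw [Finset.sum_mul_sum, map_sum, Finset.sum_product]
      refine Finset.sum_congr rfl fun u _ => Finset.sum_congr rfl fun v _ => ?_
      rw [← hΨm, Algebra.TensorProduct.tmul_mul_tmul, mon_mul_mon hw hxy, TensorProduct.tmul_smul,
        TensorProduct.smul_tmul']
    rw [hF, map_ne_zero_iff _ hΨ]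
    obtain ⟨u₀, hu₀, v₀, hv₀, huniq⟩ := UniqueSums.uniqueAdd_of_nonempty
      (Finsupp.support_nonempty_iff.2 hf) (Finsupp.support_nonempty_iff.2 hg)
    intro h0
    have := DFunLike.congr_fun h0 (u₀ + v₀)
    simp only [F, Finsupp.finset_sum_apply, Finsupp.coe_zero, Pi.zero_apply] at this
    rw [Finset.sum_eq_single (u₀, v₀)] at this
    · simp only [Finsupp.single_eq_same, smul_eq_zero, inv_eq_zero, pow_eq_zero_iff', hw, false_and,
        false_or, mul_eq_zero] at this
      exact this.elim (Finsupp.mem_support_iff.1 hu₀) (Finsupp.mem_support_iff.1 hv₀)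
    · rintro ⟨u, v⟩ huv hne
      refine Finsupp.single_eq_of_ne ?_
      rw [Finset.mem_product] at huv
      intro he
      obtain ⟨rfl, rfl⟩ := huniq huv.1 huv.2 he.symm
      exact hne rfl
    · intro hnot
      exact absurd (Finset.mem_product.2 ⟨hu₀, hv₀⟩) hnot
  -- clearing denominators
  have hsm : ∀ (p : P) (f : ℕ × ℕ →₀ D), ∃ g, algebraMap P (Rat2 k) p • Ψ f = Ψ g := by
    intro p f
    induction p using MvPolynomial.induction_on generalizing f with
    | C c =>
      refine ⟨c • f, ?_⟩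
      rw [map_smul, ← MvPolynomial.algebraMap_eq, ← IsScalarTower.algebraMap_apply, algebraMap_smul]
    | add p q hp hq =>
      obtain ⟨a, ha⟩ := hp f
      obtain ⟨b, hb⟩ := hq f
      exact ⟨a + b, by rw [map_add, add_smul, ha, hb, map_add]⟩
    | mul_X p i hp =>
      have hX : ∃ g, algebraMap P (Rat2 k) (MvPolynomial.X i) • Ψ f = Ψ g := by
        induction f using Finsupp.induction_linear with
        | zero => exact ⟨0, by simp⟩
        | add a b ha hb =>
          obtain ⟨a', ha'⟩ := ha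
          obtain ⟨b', hb'⟩ := hb
          exact ⟨a' + b', by rw [map_add, smul_add, ha', hb', map_add]⟩
        | single u d =>
          rw [← hΨm, TensorProduct.smul_tmul']
          fin_cases i
          · refine ⟨Finsupp.single (m * 1 + u.1, m * 0 + u.2) d, ?_⟩
            rw [← hΨm, hred (1, 0) u]
            simp [st, gen2]
            rfl
          · refine ⟨Finsupp.single (m * 0 + u.1, m * 1 + u.2) d, ?_⟩
            rw [← hΨm, hred (0, 1) u]
            simp [st, gen2]
            rfl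
      obtain ⟨g, hg⟩ := hX
      obtain ⟨g', hg'⟩ := hp g
      exact ⟨g', by rw [map_mul, mul_smul, hg, hg']⟩
  have hsurj : ∀ z : S ⊗[k] D, ∃ (p : P) (g : ℕ × ℕ →₀ D), p ≠ 0 ∧ algebraMap P (Rat2 k) p • z = Ψ g := by
    have hadd : ∀ z z' : S ⊗[k] D, (∃ (p : P) (g : ℕ × ℕ →₀ D), p ≠ 0 ∧ algebraMap P (Rat2 k) p • z = Ψ g) →
        (∃ (p : P) (g : ℕ × ℕ →₀ D), p ≠ 0 ∧ algebraMap P (Rat2 k) p • z' = Ψ g) →
        ∃ (p : P) (g : ℕ × ℕ →₀ D), p ≠ 0 ∧ algebraMap P (Rat2 k) p • (z + z') = Ψ g := by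
      rintro z z' ⟨p, g, hp, hg⟩ ⟨p', g', hp', hg'⟩
      obtain ⟨a, ha⟩ := hsm p' g
      obtain ⟨b, hb⟩ := hsm p g'
      refine ⟨p' * p, a + b, mul_ne_zero hp' hp, ?_⟩
      rw [map_mul, smul_add, mul_smul, hg, ha, mul_comm, mul_smul, hg', hb, map_add]
    intro z
    induction z using TensorProduct.induction_on with
    | zero => exact ⟨1, 0, one_ne_zero, by simp⟩
    | add a b ha hb => exact hadd a b ha hb
    | tmul s d =>
      induction (hspan Submodule.mem_top : s ∈ Submodule.span (Rat2 k) (Set.range B)) using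
          Submodule.span_induction with
      | mem w hw' =>
        obtain ⟨r, rfl⟩ := hw'
        exact ⟨1, Finsupp.single ((r.1 : ℕ), (r.2 : ℕ)) d, one_ne_zero, by rw [← hΨm, map_one, one_smul]⟩
      | zero => exact ⟨1, 0, one_ne_zero, by simp⟩
      | add a b _ _ ha hb => rw [TensorProduct.add_tmul]; exact hadd _ _ ha hb
      | smul c w _ hw' =>
        obtain ⟨p, g, hp, hg⟩ := hw'
        obtain ⟨⟨a, q⟩, hq⟩ := IsLocalization.surj (nonZeroDivisors P) c
        obtain ⟨g', hg'⟩ := hsm a g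
        refine ⟨q * p, g', mul_ne_zero (nonZeroDivisors.coe_ne_zero q) hp, ?_⟩
        rw [← hg', ← hg, ← TensorProduct.smul_tmul', ← mul_smul, ← mul_smul, map_mul]
        congr 1
        rw [← hq]
        ring
  refine ⟨fun {z w} hzw => ?_⟩
  obtain ⟨p, f, hp, hf⟩ := hsurj z
  obtain ⟨q, g, hq, hg⟩ := hsurj w
  have hne : ∀ {r : P}, r ≠ 0 → algebraMap P (Rat2 k) r ≠ 0 := fun {r} hr h' =>
    hr ((map_eq_zero_iff _ (IsFractionRing.injective P (Rat2 k))).1 h')
  have h0 : Ψ f * Ψ g = 0 := by rw [← hf, ← hg, smul_mul_smul_comm, hzw, smul_zero]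
  rcases eq_or_ne f 0 with h1 | h1
  · left
    rw [h1, map_zero] at hf
    exact (smul_eq_zero.1 hf).resolve_left (hne hp)
  · right
    rcases eq_or_ne g 0 with h2 | h2
    · rw [h2, map_zero] at hg
      exact (smul_eq_zero.1 hg).resolve_left (hne hq)
    · exact absurd h0 (hprod f g h1 h2)

end Groth.Agent.SBTaut

end
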