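import Groth.Agent.SBTaut.Pt
import Groth.Agent.SBTaut.Free
import Groth.Agent.Props.SubSheaf
import Groth.Agent.Props.QProj

/-!
# The tautological bundle of a Severi–Brauer scheme
-/

set_option autoImplicit false
universe u

open CategoryTheory CategoryTheory.Limits AlgebraicGeometry Opposite TopologicalSpace
open Groth.Agent.QCoh Groth.Agent.Props.QStalk Groth.Agent.PullStalk.Sky Groth.Agent.Props.SubMod
open Groth.Agent.Props.SubSheaf

noncomputable section

namespace Groth.Agent.SBTaut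

variable {k : Type u} [Field k] {A : Type u} [Ring A] [Algebra k A] {c N : ℕ} {X : Scheme.{u}}
  {f : X ⟶ Spec (CommRingCat.of k)} (σ : BrSev.SBStr k A c f) (b : Module.Basis (Fin N) k A)

/-- The ideal of the identity over an affine open. -/
abbrev N0 {V : X.Opens} (hV : IsAffineOpen V) : Submodule Γ(X, V) (Fin N → Γ(X, V)) :=
  NV σ b (𝟙 X) (Category.id_comp f) hV

/-- The stalks of the tautological submodule. -/
def tautS : StalkSub (FF X N) := fun x =>
  ⨆ (V : X.affineOpens) (hx : x ∈ V.1), spanGerm (ofC '' (N0 σ b V.2 : Set (Fin N → Γ(X, V.1)))) x hx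

theorem ofC_add {V : X.Opens} (v w : Fin N → Γ(X, V)) :
    (ofC (v + w) : Γ(FF X N, V)) = ofC v + ofC w :=
  coo_injective (by rw [coo_ofC, coo_add, coo_ofC, coo_ofC])

theorem ofC_smul {V : X.Opens} (r : Γ(X, V)) (v : Fin N → Γ(X, V)) :
    (ofC (r • v) : Γ(FF X N, V)) = r • ofC v :=
  coo_injective (by rw [coo_ofC, coo_smul, coo_ofC])

theorem ofC_zero {V : X.Opens} : (ofC (0 : Fin N → Γ(X, V)) : Γ(FF X N, V)) = 0 :=
  coo_injective ((coo_ofC _).trans (map_zero (cooLin V)).symm)

theorem spanGerm_le {W : X.Opens} (hW : IsAffineOpen W) {V : X.Opens} (hV : IsAffineOpen V) (e : W ≤ V)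
    (y : X) (hy : y ∈ W) :
    spanGerm (ofC '' (N0 σ b hW : Set (Fin N → Γ(X, W)))) y hy ≤ spanGerm (ofC '' (N0 σ b hV : Set (Fin N → Γ(X, V)))) y (e hy) := by
  rw [← spanGerm_res e (ofC '' (N0 σ b hV : Set (Fin N → Γ(X, V)))) y hy]
  refine Submodule.span_le.mpr ?_
  rintro _ ⟨_, ⟨v, hv, rfl⟩, rfl⟩
  refine germ_mem_spanGerm_of_mem_span ?_ y hy
  rw [SetLike.mem_coe, N0, NV_res σ b (𝟙 X) (Category.id_comp f) hV hW e] at hv
  induction hv using Submodule.span_induction with
  | mem z hz =>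
    obtain ⟨w, hw, rfl⟩ := hz
    exact Submodule.subset_span ⟨ofC w, ⟨w, hw, rfl⟩, ofC_res e w⟩
  | zero =>
    rw [ofC_zero]
    exact zero_mem _
  | add a a' _ _ ha ha' => rw [ofC_add]; exact add_mem ha ha'
  | smul r a _ ha => rw [ofC_smul]; exact Submodule.smul_mem _ _ ha

theorem genBy {V : X.Opens} (hV : IsAffineOpen V) :
    GenBy (tautS σ b) V (ofC '' (N0 σ b hV : Set (Fin N → Γ(X, V)))) := fun y hy => by
  refine le_antisymm (iSup₂_le fun V' hy' => ?_) (le_iSup₂_of_le ⟨V, hV⟩ hy le_rfl)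
  obtain ⟨_, ⟨W, hW, rfl⟩, hyW, hWle⟩ :=
    X.isBasis_affineOpens.exists_subset_of_mem_open (show y ∈ V ⊓ V'.1 from ⟨hy, hy'⟩) (V ⊓ V'.1).2
  have h1 : W ≤ V := fun z hz => (hWle hz).1
  have h2 : W ≤ V'.1 := fun z hz => (hWle hz).2
  refine le_trans ?_ (spanGerm_le σ b hW hV h1 y hyW)
  refine le_of_eq_of_le (spanGerm_res h2 _ y hyW).symm ?_
  refine Submodule.span_mono (Set.image_mono ?_)
  rintro _ ⟨_, ⟨v, hv, rfl⟩, rfl⟩
  exact ⟨_, mem_NV_res σ b (𝟙 X) (Category.id_comp f) V'.2 hW h2 hv, (ofC_res h2 v).symm⟩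

theorem ftOn : FTOn (tautS σ b) ⊤ := fun x _ => by
  classical
  obtain ⟨_, ⟨V, hV, rfl⟩, hxV, -⟩ :=
    X.isBasis_affineOpens.exists_subset_of_mem_open (Set.mem_univ x) isOpen_univ
  letI := alg f V
  obtain ⟨s, hs⟩ := Module.Finite.iff_fg.mp (finite_cN b (σ.bij Γ(X, V) (pt (𝟙 X) (Category.id_comp f) hV)))
  refine ⟨V, hV, hxV, le_top, s.image ofC, fun y hy => ?_⟩
  rw [genBy σ b hV y hy, Finset.coe_image]
  refine le_antisymm (Submodule.span_le.mpr ?_) (Submodule.span_mono (Set.image_mono (Set.image_mono ?_)))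
  · rintro _ ⟨_, ⟨v, hv, rfl⟩, rfl⟩
    refine germ_mem_spanGerm_of_mem_span ?_ y hy
    have hv' : v ∈ Submodule.span Γ(X, V) (s : Set (Fin N → Γ(X, V))) := hs.ge hv
    clear hv
    induction hv' using Submodule.span_induction with
    | mem z hz => exact Submodule.subset_span ⟨z, hz, rfl⟩
    | zero =>
      rw [ofC_zero]
      exact zero_mem _
    | add a a' _ _ ha ha' => rw [ofC_add]; exact add_mem ha ha'
    | smul r a _ ha => rw [ofC_smul]; exact Submodule.smul_mem _ _ ha
  · exact fun v hv => hs.le (Submodule.subset_span hv)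

/-- The tautological bundle. -/
abbrev taut : X.Modules := sub (tautS σ b)

/-- Its inclusion in the free module. -/
abbrev tIncl : taut σ b ⟶ FF X N := incl (tautS σ b)

theorem tIncl_injective (V : X.Opens) : Function.Injective ((tIncl σ b).app V) :=
  incl_injective (tautS σ b) V

/-- The coordinates of the sections of the tautological bundle. -/
def tCoo (V : X.Opens) : Γ(taut σ b, V) →ₗ[Γ(X, V)] (Fin N → Γ(X, V)) :=
  (cooLin V).comp (inclLin (tautS σ b) V)

theorem tCoo_injective (V : X.Opens) : Function.Injective (tCoo σ b V) :=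
  fun _ _ h => incl_injective (tautS σ b) V (coo_injective h)

theorem range_tCoo {V : X.Opens} (hV : IsAffineOpen V) :
    LinearMap.range (tCoo σ b V) = N0 σ b hV := by
  rw [tCoo, LinearMap.range_comp, range_inclLin hV (genBy σ b hV), Submodule.map_span, ← Set.image_comp]
  refine le_antisymm (Submodule.span_le.mpr ?_) fun v hv => Submodule.subset_span ⟨v, hv, coo_ofC v⟩
  rintro _ ⟨v, hv, rfl⟩
  show coo (ofC v) ∈ N0 σ b hV
  rw [coo_ofC]; exact hv

instance isQuasicoherent_taut : (taut σ b).IsQuasicoherent := isQuasicoherent_sub (ftOn σ b)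

/-- The sections of the tautological bundle over an affine open. -/
def secEquiv {V : X.Opens} (hV : IsAffineOpen V) : Γ(taut σ b, V) ≃ₗ[Γ(X, V)] N0 σ b hV :=
  (LinearEquiv.ofInjective (tCoo σ b V) (tCoo_injective σ b V)).trans
    (LinearEquiv.ofEq _ _ (range_tCoo σ b hV))

theorem isFinLocFree_taut : FlatMod.IsFinLocFree (taut σ b) := by
  have hfin : ∀ {V : X.Opens} (hV : IsAffineOpen V), Module.Finite Γ(X, V) Γ(taut σ b, V) :=
    fun {V} hV => by
      letI := alg f V
      haveI : Module.Finite Γ(X, V) (N0 σ b hV) := finite_cN b _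
      exact Module.Finite.equiv (secEquiv σ b hV).symm
  have hproj : ∀ {V : X.Opens} (hV : IsAffineOpen V), Module.Projective Γ(X, V) Γ(taut σ b, V) :=
    fun {V} hV => by
      letI := alg f V
      haveI : Module.Projective Γ(X, V) (N0 σ b hV) := projective_cN b _
      exact Module.Projective.of_equiv (secEquiv σ b hV).symm
  refine Props.QProj.isFinLocFree_of (taut σ b) (fun x => ?_) (fun x => ?_)
  all_goals obtain ⟨_, ⟨V, hV, rfl⟩, hxV, -⟩ :=
    X.isBasis_affineOpens.exists_subset_of_mem_open (Set.mem_univ x) isOpen_univ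
  · haveI := hfin hV
    haveI := hproj hV
    exact ⟨V, hV, hxV, Module.finitePresentation_of_projective _ _⟩
  · haveI := hfin hV
    haveI := hproj hV
    exact Props.QProj.free_stalk_of_flat (taut σ b) hV hxV

/-- Left multiplications preserve the tautological bundle. -/
theorem exists_act (a : A) : ∃ g : taut σ b ⟶ taut σ b,
    g ≫ tIncl σ b = tIncl σ b ≫ matEnd ((lmat b a).map (Coh.toGlobal f)) := by
  let φ := matEnd (X := X) ((lmat b a).map (Coh.toGlobal f))
  have hmem : ∀ (V : X.Opens) (t : Γ(taut σ b, V)),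
      φ.app V ((tIncl σ b).app V t) ∈ Set.range ((incl (tautS σ b)).app V) := fun V t => by
    refine (mem_range_incl (tautS σ b) _).mpr fun y hy => ?_
    obtain ⟨_, ⟨W, hW, rfl⟩, hyW, -⟩ :=
      X.isBasis_affineOpens.exists_subset_of_mem_open (Set.mem_univ y) isOpen_univ
    have h1 : germM (FF X N) V y hy ((tIncl σ b).app V t) ∈ tautS σ b y :=
      (mem_range_incl (tautS σ b) _).mp ⟨t, rfl⟩ y hy
    rw [genBy σ b hW y hyW] at h1 ⊢
    rw [← PullStalk.Exact.stalkLin_germ φ V y hy]
    have h2 := Submodule.mem_map_of_mem (f := PullStalk.Exact.stalkLin φ y) h1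
    rw [spanGerm, Submodule.map_span] at h2
    refine (Submodule.span_le.mpr ?_) h2
    rintro _ ⟨_, ⟨_, ⟨v, hv, rfl⟩, rfl⟩, rfl⟩
    rw [PullStalk.Exact.stalkLin_germ]
    refine Submodule.subset_span ⟨_, ⟨_, lmul_mem_NV σ b (𝟙 X) (Category.id_comp f) hW a hv, rfl⟩, ?_⟩
    refine congrArg (germM (FF X N) W y hyW) (coo_injective ?_)
    rw [coo_ofC, coo_matEnd, coo_ofC, Matrix.map_map]
    rfl
  refine ⟨kernel.lift (toQuot (tautS σ b)) (tIncl σ b ≫ φ) ?_, kernel.lift_ι _ _ _⟩
  refine Scheme.Modules.hom_ext _ _ fun V => ConcreteCategory.hom_ext _ _ fun t => ?_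
  obtain ⟨s, hs⟩ := hmem V t
  change (toQuot (tautS σ b)).app V (φ.app V ((tIncl σ b).app V t)) = _
  rw [← hs]
  exact congrArg (fun (g : sub (tautS σ b) ⟶ _) => g.app V s) (kernel.condition (toQuot (tautS σ b)))

/-- The action of an element of `A`. -/
def act (a : A) : taut σ b ⟶ taut σ b := (exists_act σ b a).choose

theorem tCoo_act (a : A) (V : X.Opens) (t : Γ(taut σ b, V)) :
    tCoo σ b V ((act σ b a).app V t) = ((lmat b a).map (algHom f V)).mulVec (tCoo σ b V t) := by
  have h := congrArg (fun (g : taut σ b ⟶ FF X N) => coo (g.app V t)) (exists_act σ b a).choose_spec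
  refine h.trans ?_
  change coo ((matEnd _).app V ((tIncl σ b).app V t)) = _
  rw [coo_matEnd, Matrix.map_map]
  rfl

theorem hom_ext_tCoo {M : X.Modules} {g g' : M ⟶ taut σ b}
    (h : ∀ (V : X.Opens) (t : Γ(M, V)), tCoo σ b V (g.app V t) = tCoo σ b V (g'.app V t)) : g = g' :=
  Scheme.Modules.hom_ext g g' fun V => ConcreteCategory.hom_ext _ _ fun t =>
    tCoo_injective σ b V (h V t)

theorem act_algebraMap (r : k) :
    act σ b (algebraMap k A r) = KSMod.scal (taut σ b) (Coh.toGlobal f r) := by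
  refine hom_ext_tCoo σ b fun V t => ?_
  rw [tCoo_act, KSMod.scal_app, map_smul, lmat, AlgHom.commutes, Matrix.algebraMap_eq_diagonal,
    Matrix.diagonal_map (map_zero _)]
  funext i
  rw [Matrix.mulVec_diagonal]
  rfl

/-- The action of `A` on the tautological bundle. -/
def actR : A →+* End (taut σ b) where
  toFun := act σ b
  map_one' := hom_ext_tCoo σ b fun V t => by
    rw [tCoo_act, lmat, map_one, Matrix.map_one _ (map_zero _) (map_one _), Matrix.one_mulVec]
    rfl
  map_mul' a a' := hom_ext_tCoo σ b fun V t => by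
    rw [tCoo_act, lmat, map_mul, Matrix.map_mul, ← Matrix.mulVec_mulVec]
    exact ((tCoo_act σ b a V _).trans (congrArg _ (tCoo_act σ b a' V t))).symm
  map_zero' := hom_ext_tCoo σ b fun V t => by
    rw [tCoo_act, lmat, map_zero, Matrix.map_zero _ (map_zero _), Matrix.zero_mulVec]
    exact (map_zero (tCoo σ b V)).symm
  map_add' a a' := hom_ext_tCoo σ b fun V t => by
    rw [tCoo_act, lmat, map_add, Matrix.map_add _ (map_add _), Matrix.add_mulVec]
    exact ((map_add (tCoo σ b V) _ _).trans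
      (congrArg₂ (· + ·) (tCoo_act σ b a V t) (tCoo_act σ b a' V t))).symm

end Groth.Agent.SBTaut
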